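import Mathlib
import Cfsg.Prelude.Def_BaumannBlocks
import Cfsg.Agent.Lib.Helper5.CD

set_option autoImplicit false

namespace Cfsg.Agent.Lib.Helper5

open Pointwise

variable {S : Type*} [Group S]

theorem cdm_le_maxCentralizerProduct [Finite S] (X : Subgroup S) :
    cdm X ≤ Cfsg.maxCentralizerProduct S := by
  unfold Cfsg.maxCentralizerProduct
  apply le_csSup
  · refine ⟨Nat.card S * Nat.card S, ?_⟩
    rintro k ⟨R, rfl⟩
    exact Nat.mul_le_mul (Subgroup.card_le_card_group R) (Subgroup.card_le_card_group _)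
  · exact ⟨X, rfl⟩

theorem isCentralizerLarge_iff (R : Subgroup S) :
    Cfsg.IsCentralizerLarge R ↔ cdm R = Cfsg.maxCentralizerProduct S := Iff.rfl

theorem map_center_subtype (R : Subgroup S) :
    (Subgroup.center ↥R).map R.subtype = R ⊓ Subgroup.centralizer (R : Set S) := by
  ext x
  constructor
  · rintro ⟨z, hz, rfl⟩
    refine ⟨z.2, ?_⟩
    show R.subtype z ∈ Subgroup.centralizer (R : Set S)
    rw [Subgroup.mem_centralizer_iff]
    intro r hr
    have := Subgroup.mem_center_iff.mp hz ⟨r, hr⟩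
    exact congrArg Subtype.val this
  · rintro ⟨hxR, hxC⟩
    refine ⟨⟨x, hxR⟩, ?_, rfl⟩
    show (⟨x, hxR⟩ : R) ∈ Subgroup.center ↥R
    rw [Subgroup.mem_center_iff]
    intro g
    apply Subtype.ext
    exact (Subgroup.mem_centralizer_iff.mp hxC) g.1 g.2

theorem card_center_eq (R : Subgroup S) :
    Nat.card (Subgroup.center ↥R) = Nat.card (R ⊓ Subgroup.centralizer (R : Set S) : Subgroup S) := by
  rw [← map_center_subtype, Subgroup.card_map_of_injective R.subtype_injective]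

/-- The "central" measure `|R| |Z(R)|`. -/
noncomputable def czm (R : Subgroup S) : ℕ := Nat.card R * Nat.card (Subgroup.center ↥R)

theorem czm_le_cdm [Finite S] (R : Subgroup S) : czm R ≤ cdm R := by
  unfold czm cdm
  rw [card_center_eq]
  exact Nat.mul_le_mul_left _ (Subgroup.card_le_of_le inf_le_right)

theorem czm_eq_cdm_iff [Finite S] (R : Subgroup S) :
    czm R = cdm R ↔ Subgroup.centralizer (R : Set S) ≤ R := by
  unfold czm cdm
  rw [card_center_eq]
  have hpos : 0 < Nat.card R := Nat.card_pos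
  constructor
  · intro h
    have h' := Nat.eq_of_mul_eq_mul_left hpos h
    have := Subgroup.eq_of_le_of_card_ge (inf_le_right : R ⊓ Subgroup.centralizer (R : Set S) ≤ _)
      (le_of_eq h'.symm)
    rw [← this]
    exact inf_le_left
  · intro h
    rw [inf_eq_right.mpr h]

theorem exists_cdm_max [Finite S] :
    ∃ H : Subgroup S, cdm H = Cfsg.maxCentralizerProduct S := by
  have hne : {k : ℕ | ∃ R : Subgroup S,
      Nat.card ↥R * Nat.card ↥(Subgroup.centralizer (R : Set S)) = k}.Nonempty := ⟨_, ⊥, rfl⟩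
  have hbdd : BddAbove {k : ℕ | ∃ R : Subgroup S,
      Nat.card ↥R * Nat.card ↥(Subgroup.centralizer (R : Set S)) = k} := by
    refine ⟨Nat.card S * Nat.card S, ?_⟩
    rintro k ⟨R, rfl⟩
    exact Nat.mul_le_mul (Subgroup.card_le_card_group R) (Subgroup.card_le_card_group _)
  obtain ⟨R, hR⟩ := Nat.sSup_mem hne hbdd
  exact ⟨R, hR⟩

theorem czm_le_maxCentralProduct [Finite S] (X : Subgroup S) :
    czm X ≤ Cfsg.maxCentralProduct S := by
  unfold Cfsg.maxCentralProduct
  apply le_csSup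
  · refine ⟨Nat.card S * Nat.card S, ?_⟩
    rintro k ⟨R, rfl⟩
    exact Nat.mul_le_mul (Subgroup.card_le_card_group R) (Nat.card_le_card_of_injective
      (fun z : Subgroup.center ↥R => (z : S)) (fun a b h => Subtype.ext (Subtype.ext h)))
  · exact ⟨X, rfl⟩

theorem exists_czm_max [Finite S] :
    ∃ H : Subgroup S, czm H = Cfsg.maxCentralProduct S := by
  have hne : {k : ℕ | ∃ R : Subgroup S,
      Nat.card ↥R * Nat.card ↥(Subgroup.center ↥R) = k}.Nonempty := ⟨_, ⊥, rfl⟩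
  have hbdd : BddAbove {k : ℕ | ∃ R : Subgroup S,
      Nat.card ↥R * Nat.card ↥(Subgroup.center ↥R) = k} := by
    refine ⟨Nat.card S * Nat.card S, ?_⟩
    rintro k ⟨R, rfl⟩
    exact Nat.mul_le_mul (Subgroup.card_le_card_group R) (Nat.card_le_card_of_injective
      (fun z : Subgroup.center ↥R => (z : S)) (fun a b h => Subtype.ext (Subtype.ext h)))
  obtain ⟨R, hR⟩ := Nat.sSup_mem hne hbdd
  exact ⟨R, hR⟩

/-- The two maxima coincide. -/
theorem maxCentralProduct_eq [Finite S] :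
    Cfsg.maxCentralProduct S = Cfsg.maxCentralizerProduct S := by
  apply le_antisymm
  · obtain ⟨H, hH⟩ := exists_czm_max (S := S)
    rw [← hH]
    exact (czm_le_cdm H).trans (cdm_le_maxCentralizerProduct H)
  · obtain ⟨H₀, hH₀⟩ := exists_cdm_max (S := S)
    have hM : ∀ X : Subgroup S, cdm X ≤ Cfsg.maxCentralizerProduct S :=
      cdm_le_maxCentralizerProduct
    obtain ⟨hC, hCC⟩ := cdm_centralizer _ hM H₀ hH₀
    obtain ⟨hsup, -⟩ := cdm_lattice _ hM H₀ (Subgroup.centralizer (H₀ : Set S)) hH₀ hC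
    have hle : Subgroup.centralizer ((H₀ ⊔ Subgroup.centralizer (H₀ : Set S) : Subgroup S) : Set S)
        ≤ H₀ ⊔ Subgroup.centralizer (H₀ : Set S) := by
      rw [centralizer_sup]
      exact inf_le_left.trans le_sup_right
    have := (czm_eq_cdm_iff _).mpr hle
    rw [← hsup, ← this]
    exact czm_le_maxCentralProduct _

theorem isCentrallyLarge_iff [Finite S] (R : Subgroup S) :
    Cfsg.IsCentrallyLarge R ↔
      (cdm R = Cfsg.maxCentralizerProduct S ∧ Subgroup.centralizer (R : Set S) ≤ R) := by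
  have h0 : Cfsg.IsCentrallyLarge R ↔ czm R = Cfsg.maxCentralizerProduct S := by
    rw [← maxCentralProduct_eq]; exact Iff.rfl
  rw [h0]
  constructor
  · intro h
    have h1 := czm_le_cdm R
    have h2 := cdm_le_maxCentralizerProduct R
    have h3 : cdm R = Cfsg.maxCentralizerProduct S := le_antisymm h2 (h ▸ h1)
    exact ⟨h3, (czm_eq_cdm_iff R).mp (h.trans h3.symm)⟩
  · rintro ⟨h1, h2⟩
    rw [(czm_eq_cdm_iff R).mpr h2, h1]

theorem isCentrallyLarge_sup [Finite S] (Q R : Subgroup S) (hQ : Cfsg.IsCentrallyLarge Q)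
    (hR : Cfsg.IsCentrallyLarge R) :
    ((Q ⊔ R : Subgroup S) : Set S) = (Q : Set S) * (R : Set S) ∧ Cfsg.IsCentrallyLarge (Q ⊔ R) := by
  rw [isCentrallyLarge_iff] at hQ hR
  obtain ⟨hs, -, hset, -⟩ := cdm_lattice _ cdm_le_maxCentralizerProduct Q R hQ.1 hR.1
  refine ⟨hset, ?_⟩
  rw [isCentrallyLarge_iff]
  refine ⟨hs, ?_⟩
  rw [centralizer_sup]
  exact inf_le_left.trans (hQ.2.trans le_sup_left)

theorem sSup_mem_of_sup_closed [Finite S] (𝒮 : Set (Subgroup S))
    (hcl : ∀ x ∈ 𝒮, ∀ y ∈ 𝒮, x ⊔ y ∈ 𝒮) (𝒯 : Set (Subgroup S)) (hsub : 𝒯 ⊆ 𝒮)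
    (hne : 𝒯.Nonempty) : sSup 𝒯 ∈ 𝒮 := by
  classical
  have hfin : 𝒯.Finite := Set.toFinite 𝒯
  have hne' : hfin.toFinset.Nonempty := by
    obtain ⟨x, hx⟩ := hne
    exact ⟨x, hfin.mem_toFinset.mpr hx⟩
  have h1 : hfin.toFinset.sup' hne' id ∈ 𝒮 :=
    Finset.sup'_mem 𝒮 hcl hfin.toFinset hne' id (fun i hi => hsub (hfin.mem_toFinset.mp hi))
  have h2 : hfin.toFinset.sup' hne' id = sSup 𝒯 := by
    rw [Finset.sup'_eq_sup, Finset.sup_id_eq_sSup, Set.Finite.coe_toFinset]
  rw [← h2]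
  exact h1

theorem isCentrallyLarge_join [Finite S] : Cfsg.IsCentrallyLarge (Cfsg.centrallyLargeJoin S) := by
  unfold Cfsg.centrallyLargeJoin
  apply sSup_mem_of_sup_closed {R : Subgroup S | Cfsg.IsCentrallyLarge R}
    (fun x hx y hy => (isCentrallyLarge_sup x y hx hy).2) _ (le_refl _)
  obtain ⟨H, hH⟩ := exists_czm_max (S := S)
  exact ⟨H, hH⟩

theorem isCentrallyLarge_minJoin [Finite S] :
    Cfsg.IsCentrallyLarge (Cfsg.minimalCentrallyLargeJoin S) := by
  unfold Cfsg.minimalCentrallyLargeJoin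
  apply sSup_mem_of_sup_closed {R : Subgroup S | Cfsg.IsCentrallyLarge R}
    (fun x hx y hy => (isCentrallyLarge_sup x y hx hy).2) _ (fun R hR => hR.1)
  obtain ⟨H, hH⟩ := exists_czm_max (S := S)
  let T := {X : Subgroup S // Cfsg.IsCentrallyLarge X}
  have : Nonempty T := ⟨⟨H, hH⟩⟩
  obtain ⟨⟨A, hA⟩, hmin⟩ := Finite.exists_min (fun X : T => Nat.card X.1)
  refine ⟨A, hA, ?_⟩
  intro R' hR'A hR'
  exact Subgroup.eq_of_le_of_card_ge hR'A (hmin ⟨R', hR'⟩)

end Cfsg.Agent.Lib.Helper5
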