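import Mathlib
import Cfsg.Prelude.Def_BaumannBlocks
import Cfsg.Prelude.Def_PLocal
import Cfsg.Agent.Lib.Helper5.Basic
import Cfsg.Agent.Lib.Helper5.CDLarge

set_option autoImplicit false

namespace Cfsg.Agent.Lib.Helper5

open Pointwise

variable {S : Type*} [Group S]

/-- The join of two abelian subgroups that commute elementwise is abelian. -/
theorem sup_comm_of_comm (H K : Subgroup S) (hH : ∀ x ∈ H, ∀ y ∈ H, x * y = y * x)
    (hK : ∀ x ∈ K, ∀ y ∈ K, x * y = y * x) (hHK : ∀ x ∈ H, ∀ y ∈ K, x * y = y * x) :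
    ∀ x ∈ H ⊔ K, ∀ y ∈ H ⊔ K, x * y = y * x := by
  have hk : ∀ x ∈ (H : Set S) ∪ K, ∀ y ∈ (H : Set S) ∪ K, x * y = y * x := by
    rintro x (hx | hx) y (hy | hy)
    · exact hH x hx y hy
    · exact hHK x hx y hy
    · exact (hHK y hy x hx).symm
    · exact hK x hx y hy
  have hcl : H ⊔ K = Subgroup.closure ((H : Set S) ∪ K) := by
    rw [Subgroup.closure_union, Subgroup.closure_eq, Subgroup.closure_eq]
  rw [hcl]
  exact closure_comm_of_comm hk

theorem maxAbelian_comm (A : Subgroup S) (hA : A ∈ Cfsg.maxAbelianSubgroups S) :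
    ∀ x ∈ A, ∀ y ∈ A, x * y = y * x := by
  have := hA.1
  exact fun x hx y hy => setLike_mul_comm hx hy

theorem maxAbelian_card_le [Finite S] (A : Subgroup S) (hA : A ∈ Cfsg.maxAbelianSubgroups S)
    (B : Subgroup S) (hB : ∀ x ∈ B, ∀ y ∈ B, x * y = y * x) : Nat.card B ≤ Nat.card A :=
  hA.2 B (IsMulCommutative.of_setLike_mul_comm hB)

theorem maxAbelian_centralizer [Finite S] (A : Subgroup S) (hA : A ∈ Cfsg.maxAbelianSubgroups S) :
    Subgroup.centralizer (A : Set S) = A := by
  apply le_antisymm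
  · apply centralizer_le_of_max_abelian A (maxAbelian_comm A hA)
    intro B hAB hB
    exact (Subgroup.eq_of_le_of_card_ge hAB (maxAbelian_card_le A hA B hB)).symm
  · intro x hx
    rw [Subgroup.mem_centralizer_iff]
    intro y hy
    exact maxAbelian_comm A hA y hy x hx

theorem exists_maxAbelian [Finite S] : ∃ A : Subgroup S, A ∈ Cfsg.maxAbelianSubgroups S := by
  let T := {B : Subgroup S // IsMulCommutative B}
  have : Nonempty T := ⟨⟨⊥, IsMulCommutative.of_setLike_mul_comm (by
    intro a ha b hb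
    rw [Subgroup.mem_bot] at ha hb
    rw [ha, hb])⟩⟩
  obtain ⟨⟨A, hA⟩, hmax⟩ := Finite.exists_max (fun X : T => Nat.card X.1)
  exact ⟨A, hA, fun B hB => hmax ⟨B, hB⟩⟩

/-- If an abelian subgroup has the same order as a largest abelian subgroup, it is self-centralizing.-/
theorem centralizer_le_of_card_eq_maxAbelian [Finite S] (A : Subgroup S)
    (hA : A ∈ Cfsg.maxAbelianSubgroups S) (B : Subgroup S)
    (hB : ∀ x ∈ B, ∀ y ∈ B, x * y = y * x) (hcard : Nat.card A ≤ Nat.card B) :
    Subgroup.centralizer (B : Set S) ≤ B := by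
  apply centralizer_le_of_max_abelian B hB
  intro B' hBB' hB'
  exact (Subgroup.eq_of_le_of_card_ge hBB' ((maxAbelian_card_le A hA B' hB').trans hcard)).symm

theorem centrallyLarge_maxAbelian [Finite S] (Q A : Subgroup S) (hQ : Cfsg.IsCentrallyLarge Q)
    (hA : A ∈ Cfsg.maxAbelianSubgroups S) :
    ((Q ⊔ A : Subgroup S) : Set S) = (Q : Set S) * (A : Set S) ∧ Cfsg.IsCentrallyLarge (Q ⊔ A) ∧
      (Q ⊔ A) ⊓ Subgroup.centralizer ((Q ⊓ A : Subgroup S) : Set S) =
        (Q ⊓ Subgroup.centralizer (Q : Set S)) ⊔ A ∧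
      (((Q ⊓ Subgroup.centralizer (Q : Set S)) ⊔ A : Subgroup S) : Set S) =
        ((Q ⊓ Subgroup.centralizer (Q : Set S)) : Set S) * (A : Set S) := by
  rw [isCentrallyLarge_iff] at hQ
  obtain ⟨hQM, hCQ⟩ := hQ
  set M := Cfsg.maxCentralizerProduct S with hMdef
  have hM : ∀ X : Subgroup S, cdm X ≤ M := cdm_le_maxCentralizerProduct
  have hAc := maxAbelian_comm A hA
  have hCA := maxAbelian_centralizer A hA
  set C := Subgroup.centralizer (Q : Set S) with hCdef
  have hZ : Q ⊓ C = C := inf_eq_right.mpr hCQ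
  have hZ' : ((Q : Set S) ⊓ (C : Set S)) = (C : Set S) :=
    inf_eq_right.mpr (by exact_mod_cast hCQ)
  rw [hZ, hZ']
  -- C is abelian
  have hCc : ∀ x ∈ C, ∀ y ∈ C, x * y = y * x := by
    intro x hx y hy
    exact (Subgroup.mem_centralizer_iff.mp hy x (hCQ hx))
  -- B = (Q ⊓ A) ⊔ C is abelian
  set B := C ⊔ (Q ⊓ A) with hBdef
  have hBc : ∀ x ∈ B, ∀ y ∈ B, x * y = y * x := by
    apply sup_comm_of_comm C (Q ⊓ A) hCc
    · intro x hx y hy
      exact hAc x hx.2 y hy.2
    · intro x hx y hy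
      exact (Subgroup.mem_centralizer_iff.mp hx y hy.1).symm
  have hBA : Nat.card B ≤ Nat.card A := maxAbelian_card_le A hA B hBc
  have hinf : C ⊓ (Q ⊓ A) = A ⊓ C := by
    rw [← inf_assoc, inf_eq_left.mpr hCQ, inf_comm]
  have h1 := card_mul_card_le_sup_inf C (Q ⊓ A)
  rw [hinf] at h1
  -- h1 : |C| |Q ⊓ A| ≤ |B| |A ⊓ C|
  have h2 := card_mul_card_le_sup_inf Q A
  have hCsup : Subgroup.centralizer ((Q ⊔ A : Subgroup S) : Set S) = A ⊓ C := by
    rw [centralizer_sup, hCA, inf_comm]
  have h3 := hM (Q ⊔ A)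
  have hQM' : Nat.card Q * Nat.card C = M := hQM
  unfold cdm at h3
  rw [hCsup] at h3
  -- numeric part
  set q := Nat.card Q
  set a := Nat.card A
  set c := Nat.card C
  set b := Nat.card B
  set i := Nat.card (Q ⊓ A : Subgroup S)
  set j := Nat.card (A ⊓ C : Subgroup S)
  set s := Nat.card (Q ⊔ A : Subgroup S)
  have hq : 0 < q := Nat.card_pos
  have ha : 0 < a := Nat.card_pos
  have hc : 0 < c := Nat.card_pos
  have hb : 0 < b := Nat.card_pos
  have hi : 0 < i := Nat.card_pos
  have hj : 0 < j := Nat.card_pos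
  have hs : 0 < s := Nat.card_pos
  -- chain: M * i ≥ s * j * i ≥ q * a * j ≥ q * b * j ≥ q * c * i = M * i
  have c1 : s * j * i ≤ M * i := Nat.mul_le_mul_right _ h3
  have c2 : q * a * j ≤ s * i * j := Nat.mul_le_mul_right _ h2
  have c3 : q * (b * j) ≤ q * (a * j) := Nat.mul_le_mul_left _ (Nat.mul_le_mul_right _ hBA)
  have c4 : q * (c * i) ≤ q * (b * j) := Nat.mul_le_mul_left _ h1
  have c5 : q * (c * i) = M * i := by rw [← hQM']; ring
  have e1 : s * j = M := by
    have : s * j * i = M * i := by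
      apply le_antisymm c1
      calc M * i = q * (c * i) := c5.symm
        _ ≤ q * (b * j) := c4
        _ ≤ q * (a * j) := c3
        _ = q * a * j := by ring
        _ ≤ s * i * j := c2
        _ = s * j * i := by ring
    exact Nat.eq_of_mul_eq_mul_right hi this
  have e2 : q * a = s * i := by
    have : q * a * j = s * i * j := by
      apply le_antisymm c2
      calc s * i * j = s * j * i := by ring
        _ ≤ M * i := c1
        _ = q * (c * i) := c5.symm
        _ ≤ q * (b * j) := c4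
        _ ≤ q * (a * j) := c3
        _ = q * a * j := by ring
    exact Nat.eq_of_mul_eq_mul_right hj this
  have e3 : b = a := by
    have : q * (b * j) = q * (a * j) := by
      apply le_antisymm c3
      calc q * (a * j) = q * a * j := by ring
        _ ≤ s * i * j := c2
        _ = s * j * i := by ring
        _ ≤ M * i := c1
        _ = q * (c * i) := c5.symm
        _ ≤ q * (b * j) := c4
    have h' := Nat.eq_of_mul_eq_mul_left hq this
    exact Nat.eq_of_mul_eq_mul_right hj h'
  have e4 : c * i = b * j := by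
    have : q * (c * i) = q * (b * j) := by
      apply le_antisymm c4
      calc q * (b * j) ≤ q * (a * j) := c3
        _ = q * a * j := by ring
        _ ≤ s * i * j := c2
        _ = s * j * i := by ring
        _ ≤ M * i := c1
        _ = q * (c * i) := c5.symm
    exact Nat.eq_of_mul_eq_mul_left hq this
  -- consequences
  have hset1 : ((Q ⊔ A : Subgroup S) : Set S) = (Q : Set S) * (A : Set S) :=
    sup_eq_setMul_of_card_eq Q A e2
  have hsetB : ((C ⊔ (Q ⊓ A) : Subgroup S) : Set S) = (C : Set S) * ((Q ⊓ A : Subgroup S) : Set S) := by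
    apply sup_eq_setMul_of_card_eq
    rw [hinf]
    exact e4
  have hCB : Subgroup.centralizer (B : Set S) ≤ B :=
    centralizer_le_of_card_eq_maxAbelian A hA B hBc (le_of_eq e3.symm)
  have hCL : Cfsg.IsCentrallyLarge (Q ⊔ A) := by
    rw [isCentrallyLarge_iff]
    refine ⟨?_, ?_⟩
    · unfold cdm
      rw [hCsup]
      exact e1
    · rw [hCsup]
      exact inf_le_right.trans (hCQ.trans le_sup_left)
  have hT1 : C ⊔ A ≤ (Q ⊔ A) ⊓ Subgroup.centralizer ((Q ⊓ A : Subgroup S) : Set S) := by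
    apply le_inf
    · exact sup_le (hCQ.trans le_sup_left) le_sup_right
    · apply sup_le
      · exact Subgroup.centralizer_le (by exact_mod_cast (inf_le_left : Q ⊓ A ≤ Q))
      · intro x hx
        rw [Subgroup.mem_centralizer_iff]
        intro y hy
        exact hAc y hy.2 x hx
  have hT2 : (((Q ⊔ A) ⊓ Subgroup.centralizer ((Q ⊓ A : Subgroup S) : Set S) : Subgroup S) : Set S)
      ⊆ (C : Set S) * (A : Set S) := by
    rintro x ⟨hx1, hx2⟩
    have hx1' : x ∈ ((Q ⊔ A : Subgroup S) : Set S) := hx1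
    have hx2 : x ∈ Subgroup.centralizer ((Q ⊓ A : Subgroup S) : Set S) := hx2
    rw [hset1] at hx1'
    obtain ⟨q', hq', a', ha', rfl⟩ := hx1'
    have ha'C : a' ∈ Subgroup.centralizer ((Q ⊓ A : Subgroup S) : Set S) := by
      rw [Subgroup.mem_centralizer_iff]
      intro y hy
      exact hAc y hy.2 a' ha'
    have hq'C : q' ∈ Subgroup.centralizer ((Q ⊓ A : Subgroup S) : Set S) := by
      have := Subgroup.mul_mem _ hx2 (Subgroup.inv_mem _ ha'C)
      simpa using this
    have hq'B : q' ∈ B := by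
      apply hCB
      rw [hBdef, centralizer_sup]
      refine ⟨?_, hq'C⟩
      show q' ∈ Subgroup.centralizer (C : Set S)
      rw [Subgroup.mem_centralizer_iff]
      intro y hy
      exact (Subgroup.mem_centralizer_iff.mp hy q' hq').symm
    have hq'B' : q' ∈ ((C ⊔ (Q ⊓ A) : Subgroup S) : Set S) := hq'B
    rw [hsetB] at hq'B'
    obtain ⟨c', hc', d, hd, rfl⟩ := hq'B'
    refine ⟨c', hc', d * a', A.mul_mem hd.2 ha', ?_⟩
    exact (mul_assoc c' d a').symm
  refine ⟨hset1, hCL, ?_, ?_⟩
  · apply le_antisymm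
    · intro x hx
      exact setMul_subset_sup C A (hT2 hx)
    · exact hT1
  · apply Set.Subset.antisymm
    · intro x hx
      exact hT2 (hT1 hx)
    · exact setMul_subset_sup C A

theorem thompsonA_le_centrallyLargeJoin [Finite S] :
    Cfsg.thompsonSubgroupA S ≤ Cfsg.centrallyLargeJoin S := by
  unfold Cfsg.thompsonSubgroupA
  apply sSup_le
  intro A hA
  have h := (centrallyLarge_maxAbelian (Cfsg.centrallyLargeJoin S) A isCentrallyLarge_join hA).2.1
  have h2 : Cfsg.centrallyLargeJoin S ⊔ A ≤ Cfsg.centrallyLargeJoin S := by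
    unfold Cfsg.centrallyLargeJoin at h ⊢
    exact le_sSup h
  exact le_sup_right.trans h2

theorem centralizer_centerThompson_le [Finite S] :
    Subgroup.centralizer ((Cfsg.thompsonSubgroupA S ⊓
      Subgroup.centralizer (Cfsg.thompsonSubgroupA S : Set S) : Subgroup S) : Set S) ≤
      Cfsg.centrallyLargeJoin S := by
  set Q₀ := Cfsg.centrallyLargeJoin S with hQ₀
  have hCL : Cfsg.IsCentrallyLarge Q₀ := isCentrallyLarge_join
  have hJ : Cfsg.thompsonSubgroupA S ≤ Q₀ := thompsonA_le_centrallyLargeJoin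
  rw [isCentrallyLarge_iff] at hCL
  obtain ⟨hM, -⟩ := hCL
  obtain ⟨-, hCC⟩ := cdm_centralizer _ cdm_le_maxCentralizerProduct Q₀ hM
  obtain ⟨A, hA⟩ := exists_maxAbelian (S := S)
  have hAJ : A ≤ Cfsg.thompsonSubgroupA S := le_sSup hA
  have h1 : Subgroup.centralizer (Q₀ : Set S) ≤
      Subgroup.centralizer (Cfsg.thompsonSubgroupA S : Set S) :=
    Subgroup.centralizer_le (by exact_mod_cast hJ)
  have h2 : Subgroup.centralizer (Q₀ : Set S) ≤ Cfsg.thompsonSubgroupA S := by
    refine le_trans ?_ hAJ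
    rw [← maxAbelian_centralizer A hA]
    exact h1.trans (Subgroup.centralizer_le (by exact_mod_cast hAJ))
  have h3 : Subgroup.centralizer (Q₀ : Set S) ≤ Cfsg.thompsonSubgroupA S ⊓
      Subgroup.centralizer (Cfsg.thompsonSubgroupA S : Set S) := le_inf h2 h1
  calc Subgroup.centralizer ((Cfsg.thompsonSubgroupA S ⊓
        Subgroup.centralizer (Cfsg.thompsonSubgroupA S : Set S) : Subgroup S) : Set S)
      ≤ Subgroup.centralizer ((Subgroup.centralizer (Q₀ : Set S) : Subgroup S) : Set S) :=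
        Subgroup.centralizer_le (by exact_mod_cast h3)
    _ = Q₀ := hCC.symm

end Cfsg.Agent.Lib.Helper5
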