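import Mathlib
import Cfsg.Agent.S4399
import Cfsg.Agent.Lib.Lead.UniqueSub

set_option autoImplicit false

namespace Cfsg.Agent.Lib.Helper5

open QuaternionGroup
open scoped commutatorElement

/-- A non-abelian 2-group with a unique element of order 2 is generalized quaternion. -/
theorem quat_of_unique_invol5 {Q : Type*} [Group Q] [Finite Q] (hQ : IsPGroup 2 Q)
    (hna : ¬ IsMulCommutative Q) (huniq : ∃! x : Q, orderOf x = 2) :
    ∃ n : ℕ, Nonempty (Q ≃* QuaternionGroup (2 ^ n)) := by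
  haveI : Fact (Nat.Prime 2) := ⟨Nat.prime_two⟩
  obtain ⟨x0, hx0, hx0u⟩ := huniq
  have key : ∀ H : Subgroup Q, Nat.card H = 2 → H = Subgroup.zpowers x0 := by
    intro H hH
    haveI : IsCyclic H := isCyclic_of_prime_card hH
    obtain ⟨h, hh⟩ := IsCyclic.exists_generator (α := H)
    have h1 : orderOf h = 2 := by
      rw [orderOf_eq_card_of_forall_mem_zpowers hh, hH]
    have h2 : orderOf (h : Q) = 2 := by rw [Subgroup.orderOf_coe]; exact h1
    have h3 : (h : Q) = x0 := hx0u _ h2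
    symm
    apply Subgroup.eq_of_le_of_card_ge
    · rw [Subgroup.zpowers_le, ← h3]; exact h.2
    · rw [hH, Nat.card_zpowers, hx0]
  rcases Cfsg.Agent.Lib.Lead.unique_sub_cyclic_or_quat 2 hQ
    (fun H K hH hK => (key H hH).trans (key K hK).symm) with hc | ⟨_, h⟩
  · exfalso
    apply hna
    obtain ⟨g, hg⟩ := hc.exists_generator
    refine ⟨⟨fun a b => ?_⟩⟩
    obtain ⟨i, rfl⟩ := Subgroup.mem_zpowers_iff.mp (hg a)
    obtain ⟨j, rfl⟩ := Subgroup.mem_zpowers_iff.mp (hg b)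
    exact zpow_mul_comm g i j
  · exact h

/-- If `S/D` is generalized quaternion for a central subgroup `D`, the commutator subgroup of
`S` is cyclic. -/
theorem comm_cyclic_of_quat_quot5 {S : Type*} [Group S] [Finite S] (hS : IsPGroup 2 S)
    (Dm : Subgroup S) [Dm.Normal] (hDc : Dm ≤ Subgroup.center S)
    (hna : ¬ IsMulCommutative (S ⧸ Dm)) (huniq : ∃! x : S ⧸ Dm, orderOf x = 2) :
    commutator S ≠ ⊥ ∧ IsCyclic ↥(commutator S) := by
  obtain ⟨n, ⟨e⟩⟩ := quat_of_unique_invol5 (hS.to_quotient Dm) hna huniq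
  haveI : NeZero (2 ^ n) := ⟨by positivity⟩
  set N := 2 ^ n with hN
  obtain ⟨a, ha⟩ := QuotientGroup.mk_surjective (e.symm (QuaternionGroup.a 1))
  obtain ⟨b, hb⟩ := QuotientGroup.mk_surjective (e.symm (QuaternionGroup.xa 0))
  set ab : S ⧸ Dm := e.symm (QuaternionGroup.a 1) with hab
  set A : Subgroup S := (Subgroup.zpowers ab).comap (QuotientGroup.mk' Dm) with hA
  have hord : orderOf ab = 2 * N := by
    rw [hab, MulEquiv.orderOf_eq, QuaternionGroup.orderOf_a_one]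
  have hcardQ : Nat.card (S ⧸ Dm) = 4 * N := by
    rw [Nat.card_congr e.toEquiv, Nat.card_eq_fintype_card, QuaternionGroup.card]
  have hidx : A.index = 2 := by
    rw [hA, Subgroup.index_comap_of_surjective _ (QuotientGroup.mk'_surjective Dm)]
    have h := Subgroup.card_mul_index (Subgroup.zpowers ab)
    rw [Nat.card_zpowers, hord, hcardQ] at h
    have hNpos : 0 < N := by positivity
    have : 2 * N * (Subgroup.zpowers ab).index = 2 * N * 2 := by rw [h]; ring
    exact Nat.eq_of_mul_eq_mul_left (by positivity) this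
  have hform : ∀ m ∈ A, ∃ k : ℕ, ∃ d ∈ Dm, m = a ^ k * d := by
    intro m hm
    have hm' : (QuotientGroup.mk m : S ⧸ Dm) ∈ Subgroup.zpowers ab := hm
    obtain ⟨k, hk⟩ := Cfsg.Agent.S4399.exists_nat_pow hm'
    have h1 : (QuotientGroup.mk (a ^ k) : S ⧸ Dm) = QuotientGroup.mk m := by
      rw [hk, ← ha]; rfl
    have h2 : (a ^ k)⁻¹ * m ∈ Dm := QuotientGroup.eq.mp h1
    exact ⟨k, _, h2, by group⟩
  have hcen : ∀ d ∈ Dm, ∀ s : S, d * s = s * d := by
    intro d hd s
    exact ((Subgroup.mem_center_iff.mp (hDc hd)) s).symm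
  have hAab : ∀ m₁ ∈ A, ∀ m₂ ∈ A, m₁ * m₂ = m₂ * m₁ := by
    intro m₁ h1 m₂ h2
    obtain ⟨k1, d1, hd1, rfl⟩ := hform m₁ h1
    obtain ⟨k2, d2, hd2, rfl⟩ := hform m₂ h2
    have e1 := hcen d1 hd1
    have e2 := hcen d2 hd2
    calc a ^ k1 * d1 * (a ^ k2 * d2) = a ^ k1 * (d1 * a ^ k2) * d2 := by group
      _ = a ^ k1 * (a ^ k2 * d1) * d2 := by rw [e1]
      _ = a ^ k2 * a ^ k1 * (d1 * d2) := by
          rw [← mul_assoc, ← pow_add, add_comm, pow_add]; group
      _ = a ^ k2 * a ^ k1 * (d2 * d1) := by rw [e1 d2]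
      _ = a ^ k2 * (a ^ k1 * d2) * d1 := by group
      _ = a ^ k2 * (d2 * a ^ k1) * d1 := by rw [e2]
      _ = a ^ k2 * d2 * (a ^ k1 * d1) := by group
  have haA : a ∈ A := by
    change (QuotientGroup.mk a : S ⧸ Dm) ∈ Subgroup.zpowers ab
    rw [ha]; exact Subgroup.mem_zpowers _
  have hbA : b ∉ A := by
    intro h
    have h' : (QuotientGroup.mk b : S ⧸ Dm) ∈ Subgroup.zpowers ab := h
    obtain ⟨k, hk⟩ := Cfsg.Agent.S4399.exists_nat_pow h'
    rw [hb, hab, ← map_pow] at hk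
    have := e.symm.injective hk
    rw [QuaternionGroup.a_one_pow] at this
    exact absurd this (by simp)
  haveI hAn : A.Normal := Subgroup.normal_of_index_eq_two hidx
  set c : S := b * a * b⁻¹ * a⁻¹ with hc
  have hcA : c ∈ A := A.mul_mem (hAn.conj_mem a haA b) (A.inv_mem haA)
  have hca : Commute c a := hAab c hcA a haA
  have hD : ∀ m ∈ A, b * m * b⁻¹ * m⁻¹ ∈ Subgroup.zpowers c := by
    intro m hm
    obtain ⟨k, d, hd, rfl⟩ := hform m hm
    have e1 : b * (a ^ k * d) * b⁻¹ * (a ^ k * d)⁻¹ = b * a ^ k * b⁻¹ * (a ^ k)⁻¹ := by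
      have := hcen d hd b⁻¹
      calc b * (a ^ k * d) * b⁻¹ * (a ^ k * d)⁻¹ = b * a ^ k * (d * b⁻¹) * d⁻¹ * (a ^ k)⁻¹ := by
            group
        _ = b * a ^ k * (b⁻¹ * d) * d⁻¹ * (a ^ k)⁻¹ := by rw [this]
        _ = b * a ^ k * b⁻¹ * (a ^ k)⁻¹ := by group
    have e2 : b * a ^ k * b⁻¹ = (c * a) ^ k := by
      have : c * a = b * a * b⁻¹ := by rw [hc]; group
      rw [this, conj_pow]
    rw [e1, e2, hca.mul_pow, mul_inv_cancel_right]
    exact Subgroup.pow_mem _ (Subgroup.mem_zpowers c) k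
  have hle : commutator S ≤ Subgroup.zpowers c :=
    Cfsg.Agent.S4399.comm_le_of_index_two A (Subgroup.zpowers c) hidx hAab b hbA hD
  refine ⟨?_, ?_⟩
  · intro hbot
    apply hna
    refine ⟨⟨fun x y => ?_⟩⟩
    obtain ⟨x, rfl⟩ := QuotientGroup.mk_surjective x
    obtain ⟨y, rfl⟩ := QuotientGroup.mk_surjective y
    have h1 : ⁅x, y⁆ ∈ commutator S := by
      rw [commutator_def]
      exact Subgroup.commutator_mem_commutator (Subgroup.mem_top x) (Subgroup.mem_top y)
    rw [hbot, Subgroup.mem_bot, commutatorElement_eq_one_iff_mul_comm] at h1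
    rw [← QuotientGroup.mk_mul, ← QuotientGroup.mk_mul, h1]
  · exact isCyclic_of_injective (Subgroup.inclusion hle) (Subgroup.inclusion_injective hle)

theorem rank_two_quat_char5 {S : Type*} [Group S] [Finite S] (hS : IsPGroup 2 S)
    (D : Subgroup ↥(Subgroup.center S))
    (hq : ∃ (_ : (D.map (Subgroup.center S).subtype).Normal),
      ¬ IsMulCommutative (S ⧸ D.map (Subgroup.center S).subtype) ∧
      ∃! x : S ⧸ D.map (Subgroup.center S).subtype, orderOf x = 2) :
    ∃ C : Subgroup S, C ≠ ⊥ ∧ IsCyclic ↥C ∧ C.Characteristic := by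
  obtain ⟨hn, hna, hu⟩ := hq
  have hDc : D.map (Subgroup.center S).subtype ≤ Subgroup.center S := by
    rintro _ ⟨d, _, rfl⟩
    exact d.2
  obtain ⟨h1, h2⟩ := comm_cyclic_of_quat_quot5 hS _ hDc hna hu
  exact ⟨commutator S, h1, h2, inferInstance⟩

end Cfsg.Agent.Lib.Helper5
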