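import Mathlib
import Cfsg.Prelude.Def_TwoFusion
import Cfsg.Prelude.Def_Transfer
import Cfsg.Agent.Lib.Helper5.CentQuat5
import Cfsg.Agent.Lib.Helper5.QuatSolv5
import Cfsg.Agent.Lib.Helper7.ElemAbCount

set_option autoImplicit false

namespace Cfsg.Agent.Lib.Helper5

open QuaternionGroup

theorem zmod_two_ne5 (N : ℕ) (hN : 2 ≤ N) : (2 : ZMod (2 * N)) ≠ 0 := by
  intro h
  have h2 : ((2 : ℕ) : ZMod (2 * N)) = 0 := by exact_mod_cast h
  have h3 := (ZMod.natCast_eq_zero_iff 2 (2 * N)).mp h2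
  have := Nat.le_of_dvd (by norm_num) h3
  omega

theorem zmod_self_ne5 (N : ℕ) (hN : 1 ≤ N) : ((N : ℕ) : ZMod (2 * N)) ≠ 0 := by
  intro h
  have h3 := (ZMod.natCast_eq_zero_iff N (2 * N)).mp h
  have := Nat.le_of_dvd (by omega) h3
  omega

theorem quat_q1_5 (N : ℕ) (hN : 2 ≤ N) :
    (a 1 : QuaternionGroup N) * xa 0 ≠ xa 0 * a 1 := by
  rw [a_mul_xa, xa_mul_a]
  intro h
  have h1 : (0 : ZMod (2 * N)) - 1 = 0 + 1 := QuaternionGroup.xa.inj h
  apply zmod_two_ne5 N hN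
  have : (2 : ZMod (2 * N)) = (0 + 1) - (0 - 1) := by ring
  rw [this, ← h1]; ring

theorem quat_q2_5 (N : ℕ) (hN : 2 ≤ N) :
    (xa 0 * a 1 : QuaternionGroup N) * a 1 ≠ a 1 * (xa 0 * a 1) := by
  rw [xa_mul_a, xa_mul_a, a_mul_xa]
  intro h
  have h1 : (0 : ZMod (2 * N)) + 1 + 1 = 0 + 1 - 1 := QuaternionGroup.xa.inj h
  apply zmod_two_ne5 N hN
  have : (2 : ZMod (2 * N)) = (0 + 1 + 1) - (0 + 1 - 1) := by ring
  rw [this, h1]; ring

theorem quat_q3_5 (N M : ℕ) (hM : 1 ≤ M) (hNM : N = 2 * M) :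
    (a 1 : QuaternionGroup N) ^ M * xa 0 ≠ xa 0 * a 1 ^ M := by
  subst hNM
  rw [a_one_pow, a_mul_xa, xa_mul_a]
  intro h
  have h1 : (0 : ZMod (2 * (2 * M))) - (M : ZMod (2 * (2 * M))) = 0 + M := QuaternionGroup.xa.inj h
  apply zmod_self_ne5 (2 * M) (by omega)
  have : ((2 * M : ℕ) : ZMod (2 * (2 * M))) = (0 + (M : ZMod (2 * (2 * M)))) - (0 - M) := by
    push_cast; ring
  rw [this, h1]; ring

theorem quat_q4_5 (N : ℕ) (hN : 1 ≤ N) :
    orderOf (a (N : ZMod (2 * N)) : QuaternionGroup N) = 2 := by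
  haveI : Fact (Nat.Prime 2) := ⟨Nat.prime_two⟩
  apply orderOf_eq_prime
  · rw [sq, a_mul_a, one_def]
    congr 1
    have : ((N : ℕ) : ZMod (2 * N)) + N = ((2 * N : ℕ) : ZMod (2 * N)) := by push_cast; ring
    rw [this, ZMod.natCast_self]
  · rw [one_def]
    intro h
    exact zmod_self_ne5 N hN (QuaternionGroup.a.inj h)

theorem quat_q5_5 (N M : ℕ) (hNM : N = 2 * M) :
    ((a 1 : QuaternionGroup N) ^ M) ^ 2 = a (N : ZMod (2 * N)) := by
  subst hNM
  rw [a_one_pow, sq, a_mul_a]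
  congr 1
  push_cast; ring

theorem quat_q6_5 (N : ℕ) :
    ((xa 0 * a 1 : QuaternionGroup N)) ^ 2 = a (N : ZMod (2 * N)) := by
  rw [xa_mul_a, xa_sq]

theorem coatom_quot_aux5 {S : Type*} [Group S] (hsq : ∀ z ∈ Subgroup.center S, z ^ 2 = 1)
    (C : Subgroup ↥(Subgroup.center S)) (hC : C ≠ ⊤)
    [hn : (C.map (Subgroup.center S).subtype).Normal]
    (x0 : S ⧸ C.map (Subgroup.center S).subtype)
    (hx0u : ∀ y : S ⧸ C.map (Subgroup.center S).subtype, orderOf y = 2 → y = x0) :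
    (∀ s : S, orderOf (QuotientGroup.mk s : S ⧸ C.map (Subgroup.center S).subtype) = 2 →
        s ∈ Subgroup.center S) ∧
    (∀ u : S, u ∉ Subgroup.center S → u ^ 2 ∈ Subgroup.center S →
        (QuotientGroup.mk (u ^ 2) : S ⧸ C.map (Subgroup.center S).subtype) = x0) := by
  haveI : Fact (Nat.Prime 2) := ⟨Nat.prime_two⟩
  have hCmZ : C.map (Subgroup.center S).subtype ≤ Subgroup.center S := by
    rintro _ ⟨d, _, rfl⟩
    exact d.2
  obtain ⟨z0, hz0⟩ : ∃ z0 : Subgroup.center S, z0 ∉ C := by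
    by_contra hcon
    push Not at hcon
    exact hC (eq_top_iff.mpr (fun z _ => hcon z))
  have hz0' : (z0 : S) ∉ C.map (Subgroup.center S).subtype := by
    rintro ⟨d, hd, hds⟩
    have : d = z0 := Subtype.ext hds
    exact hz0 (this ▸ hd)
  have hinv : ∀ w ∈ Subgroup.center S, w ∉ C.map (Subgroup.center S).subtype →
      (QuotientGroup.mk w : S ⧸ C.map (Subgroup.center S).subtype) = x0 := by
    intro w hw hwn
    apply hx0u
    apply orderOf_eq_prime
    · rw [← QuotientGroup.mk_pow, hsq w hw]; rfl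
    · intro h
      exact hwn ((QuotientGroup.eq_one_iff w).mp h)
  have h1 : ∀ s : S, orderOf (QuotientGroup.mk s : S ⧸ C.map (Subgroup.center S).subtype) = 2 →
      s ∈ Subgroup.center S := by
    intro s hs
    have h2 := hinv z0 z0.2 hz0'
    have h3 : (z0 : S)⁻¹ * s ∈ C.map (Subgroup.center S).subtype :=
      QuotientGroup.eq.mp (h2.trans (hx0u _ hs).symm)
    have : s = (z0 : S) * ((z0 : S)⁻¹ * s) := by group
    rw [this]
    exact Subgroup.mul_mem _ z0.2 (hCmZ h3)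
  refine ⟨h1, ?_⟩
  intro u hu hu2
  by_cases hmem : u ^ 2 ∈ C.map (Subgroup.center S).subtype
  · exfalso
    apply hu
    apply h1
    apply orderOf_eq_prime
    · rw [← QuotientGroup.mk_pow]
      exact (QuotientGroup.eq_one_iff _).mpr hmem
    · intro h
      exact hu (hCmZ ((QuotientGroup.eq_one_iff u).mp h))
  · exact hinv _ hu2 hmem

theorem central_coatoms_split5 {S : Type*} [Group S] [Finite S]
    (hS : IsPGroup 2 S) (n : ℕ) (hn : 2 ≤ n) (C : Fin n → Subgroup ↥(Subgroup.center S))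
    (hCmax : ∀ i, IsCoatom (C i)) (hCint : ⨅ i, C i = ⊥)
    (hCq : ∀ i, ∃ (_ : ((C i).map (Subgroup.center S).subtype).Normal),
      ¬ IsMulCommutative (S ⧸ (C i).map (Subgroup.center S).subtype) ∧
      ∃! x : S ⧸ (C i).map (Subgroup.center S).subtype, orderOf x = 2) :
    ∃ E Q : Subgroup S, Cfsg.IsInternalDirectProduct E Q ⊤ ∧ Cfsg.IsElementaryAbelian 2 E ∧
      ¬ IsMulCommutative ↥Q ∧ ∃! x : ↥Q, orderOf x = 2 := by
  haveI : Fact (Nat.Prime 2) := ⟨Nat.prime_two⟩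
  have h0 : 0 < n := by omega
  have hsqZ : ∀ z : Subgroup.center S, z ^ 2 = 1 := by
    intro z
    have h : z ^ 2 ∈ ⨅ i, C i := by
      rw [Subgroup.mem_iInf]
      intro i
      have := (Cfsg.Agent.Lib.Helper7.index_coatom_of_pGroup
        (hS.to_subgroup (Subgroup.center S)) (C i) (hCmax i)).2
      exact Subgroup.sq_mem_of_index_two this z
    rw [hCint] at h
    exact Subgroup.mem_bot.mp h
  have hsq : ∀ z ∈ Subgroup.center S, z ^ 2 = 1 := fun z hz =>
    congrArg Subtype.val (hsqZ ⟨z, hz⟩)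
  have hCmZ : ∀ i, (C i).map (Subgroup.center S).subtype ≤ Subgroup.center S := by
    intro i
    rintro _ ⟨d, _, rfl⟩
    exact d.2
  have hint : ∀ s : S, (∀ i, s ∈ (C i).map (Subgroup.center S).subtype) → s = 1 := by
    intro s hs
    have hsZ : s ∈ Subgroup.center S := hCmZ ⟨0, h0⟩ (hs _)
    have : (⟨s, hsZ⟩ : Subgroup.center S) ∈ ⨅ i, C i := by
      rw [Subgroup.mem_iInf]
      intro i
      obtain ⟨d, hd, hds⟩ := hs i
      have : d = ⟨s, hsZ⟩ := Subtype.ext hds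
      rw [← this]; exact hd
    rw [hCint] at this
    exact congrArg Subtype.val (Subgroup.mem_bot.mp this)
  have hT : ∀ x y : S, x ∉ Subgroup.center S → x ^ 2 ∈ Subgroup.center S →
      y ∉ Subgroup.center S → y ^ 2 ∈ Subgroup.center S → x ^ 2 = y ^ 2 := by
    intro x y hx hx2 hy hy2
    have : (y ^ 2)⁻¹ * x ^ 2 = 1 := by
      apply hint
      intro i
      obtain ⟨hnorm, hna, x0, hx0, hx0u⟩ := hCq i
      haveI := hnorm
      obtain ⟨-, h2⟩ := coatom_quot_aux5 hsq (C i) (hCmax i).1 x0 hx0u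
      exact QuotientGroup.eq.mp ((h2 y hy hy2).trans (h2 x hx hx2).symm)
    calc x ^ 2 = y ^ 2 * ((y ^ 2)⁻¹ * x ^ 2) := by group
      _ = y ^ 2 := by rw [this, mul_one]
  set D : Subgroup S := (C ⟨0, h0⟩).map (Subgroup.center S).subtype with hD
  have hq0 : ∃ (_ : D.Normal), ¬ IsMulCommutative (S ⧸ D) ∧ ∃! x : S ⧸ D, orderOf x = 2 :=
    hCq ⟨0, h0⟩
  obtain ⟨hnorm, hna, x0, hx0, hx0u⟩ := hq0
  haveI := hnorm
  have hH1 : ∀ s : S, orderOf (QuotientGroup.mk s : S ⧸ D) = 2 → s ∈ Subgroup.center S :=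
    (@coatom_quot_aux5 S _ hsq (C ⟨0, h0⟩) (hCmax ⟨0, h0⟩).1 hnorm x0 hx0u).1
  have hDZ : D ≤ Subgroup.center S := hCmZ ⟨0, h0⟩
  obtain ⟨k, ⟨e⟩⟩ := quat_of_unique_invol5 (hS.to_quotient D) hna ⟨x0, hx0, hx0u⟩
  haveI : NeZero (2 ^ k) := ⟨by positivity⟩
  have hk : 1 ≤ k := by
    by_contra h
    have hk0 : k = 0 := by omega
    apply hna
    have hcard : Nat.card (S ⧸ D) = 2 ^ 2 := by
      rw [Nat.card_congr e.toEquiv, Nat.card_eq_fintype_card, QuaternionGroup.card, hk0]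
      norm_num
    exact IsPGroup.isMulCommutative_of_card_eq_prime_sq hcard
  set N := 2 ^ k with hN
  obtain ⟨M, hM1, hNM⟩ : ∃ M, 1 ≤ M ∧ N = 2 * M := by
    refine ⟨2 ^ (k - 1), Nat.one_le_two_pow, ?_⟩
    rw [hN, ← pow_succ']
    congr 1; omega
  have hN2 : 2 ≤ N := by omega
  haveI : NeZero (2 * N) := ⟨by omega⟩
  obtain ⟨a, ha⟩ := QuotientGroup.mk_surjective (e.symm (QuaternionGroup.a 1))
  obtain ⟨b, hb⟩ := QuotientGroup.mk_surjective (e.symm (QuaternionGroup.xa 0))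
  have hnc : ∀ s t : S, (QuotientGroup.mk s : S ⧸ D) * QuotientGroup.mk t ≠
      QuotientGroup.mk t * QuotientGroup.mk s → s ∉ Subgroup.center S := by
    intro s t h hs
    apply h
    have := Subgroup.mem_center_iff.mp hs t
    rw [← QuotientGroup.mk_mul, ← QuotientGroup.mk_mul, this]
  have hmka : (QuotientGroup.mk a : S ⧸ D) = e.symm (QuaternionGroup.a 1) := ha
  have hmkb : (QuotientGroup.mk b : S ⧸ D) = e.symm (QuaternionGroup.xa 0) := hb
  have haZ : a ∉ Subgroup.center S := by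
    apply hnc a b
    rw [hmka, hmkb, ← map_mul, ← map_mul]
    intro h
    exact quat_q1_5 N hN2 (e.symm.injective h)
  have hbZ : b ∉ Subgroup.center S := by
    apply hnc b a
    rw [hmka, hmkb, ← map_mul, ← map_mul]
    intro h
    exact quat_q1_5 N hN2 (e.symm.injective h).symm
  have hbaZ : b * a ∉ Subgroup.center S := by
    apply hnc (b * a) a
    rw [QuotientGroup.mk_mul, hmka, hmkb, ← map_mul, ← map_mul, ← map_mul]
    intro h
    exact quat_q2_5 N hN2 (e.symm.injective h)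
  have haMZ : a ^ M ∉ Subgroup.center S := by
    apply hnc (a ^ M) b
    rw [QuotientGroup.mk_pow, hmka, hmkb, ← map_pow, ← map_mul, ← map_mul]
    intro h
    exact quat_q3_5 N M hM1 hNM (e.symm.injective h)
  have hordN : orderOf (e.symm (QuaternionGroup.a (N : ZMod (2 * N)))) = 2 := by
    rw [MulEquiv.orderOf_eq]; exact quat_q4_5 N (by omega)
  have hb2 : b ^ 2 ∈ Subgroup.center S := by
    apply hH1
    rw [QuotientGroup.mk_pow, hmkb, ← map_pow, QuaternionGroup.xa_sq]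
    exact hordN
  have hba2 : (b * a) ^ 2 ∈ Subgroup.center S := by
    apply hH1
    rw [QuotientGroup.mk_pow, QuotientGroup.mk_mul, hmka, hmkb, ← map_mul, ← map_pow, quat_q6_5]
    exact hordN
  have haM2 : (a ^ M) ^ 2 ∈ Subgroup.center S := by
    apply hH1
    rw [QuotientGroup.mk_pow, QuotientGroup.mk_pow, hmka, ← map_pow, ← map_pow,
      quat_q5_5 N M hNM]
    exact hordN
  have e1 : (b * a) ^ 2 = b ^ 2 := hT _ _ hbaZ hba2 hbZ hb2
  have e2 : (a ^ M) ^ 2 = b ^ 2 := hT _ _ haMZ haM2 hbZ hb2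
  have hR3 : b⁻¹ * a * b = a⁻¹ := by
    have h1 : b * a * (b * a) = b * b := by rw [← sq, ← sq]; exact e1
    have h2 : a * b * a = b := by
      have : b * (a * b * a) = b * b := by rw [← h1]; group
      exact mul_left_cancel this
    calc b⁻¹ * a * b = b⁻¹ * (a * b * a) * a⁻¹ := by group
      _ = a⁻¹ := by rw [h2]; group
  have hR2 : b * b = a ^ N := by
    have : a ^ N = (a ^ M) ^ 2 := by rw [← pow_mul]; congr 1; omega
    rw [this, e2, sq]
  have hR1 : a ^ (2 * N) = 1 := by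
    have : a ^ (2 * N) = (b ^ 2) ^ 2 := by
      rw [sq b, hR2, ← pow_mul]; congr 1; omega
    rw [this]
    exact hsq _ hb2
  set φ := Cfsg.Agent.Lib.Lead.quaternionLift N a b hR1 hR2 hR3 with hφdef
  have hφ : ∀ q, (QuotientGroup.mk (φ q) : S ⧸ D) = e.symm q := by
    rintro (i | i)
    · have h1 : φ (QuaternionGroup.a i) = a ^ i.val := rfl
      rw [h1, QuotientGroup.mk_pow, hmka, ← map_pow, QuaternionGroup.a_one_pow,
        ZMod.natCast_zmod_val]
    · have h1 : φ (QuaternionGroup.xa i) = b * a ^ i.val := rfl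
      rw [h1, QuotientGroup.mk_mul, QuotientGroup.mk_pow, hmka, hmkb, ← map_pow, ← map_mul,
        QuaternionGroup.a_one_pow, QuaternionGroup.xa_mul_a, ZMod.natCast_zmod_val, zero_add]
  have hφinj : Function.Injective φ := by
    intro q q' h
    apply e.symm.injective
    rw [← hφ, ← hφ, h]
  refine ⟨D, φ.range, ⟨le_top, le_top, ?_, ?_, ?_⟩, ⟨?_, ?_⟩, ?_, ?_⟩
  · intro d hd s _
    exact (Subgroup.mem_center_iff.mp (hDZ hd) s).symm
  · rw [eq_bot_iff]
    rintro s ⟨hsD, q, rfl⟩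
    have h1 : e.symm q = 1 := by
      rw [← hφ]; exact (QuotientGroup.eq_one_iff _).mpr hsD
    have hq : q = 1 := by
      apply e.symm.injective; rw [h1, map_one]
    rw [hq, map_one]; exact Subgroup.mem_bot.mpr rfl
  · rw [eq_top_iff]
    intro s _
    have h1 := hφ (e (QuotientGroup.mk s))
    rw [MulEquiv.symm_apply_apply] at h1
    have h2 : (φ (e (QuotientGroup.mk s)))⁻¹ * s ∈ D := QuotientGroup.eq.mp h1
    have : s = ((φ (e (QuotientGroup.mk s)))⁻¹ * s) * (φ (e (QuotientGroup.mk s))) := by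
      have hc := Subgroup.mem_center_iff.mp (hDZ h2) (φ (e (QuotientGroup.mk s)))
      rw [← hc]; group
    rw [this]
    exact Subgroup.mul_mem _ (Subgroup.mem_sup_left h2) (Subgroup.mem_sup_right ⟨_, rfl⟩)
  · exact ⟨⟨fun x y => Subtype.ext (Subgroup.mem_center_iff.mp (hDZ y.2) (x : S))⟩⟩
  · exact fun d hd => hsq d (hDZ hd)
  · intro h
    have h1 := h.is_comm.comm ⟨φ (QuaternionGroup.a 1), ⟨_, rfl⟩⟩ ⟨φ (QuaternionGroup.xa 0), ⟨_, rfl⟩⟩
    have h2 : φ (QuaternionGroup.a 1) * φ (QuaternionGroup.xa 0) =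
        φ (QuaternionGroup.xa 0) * φ (QuaternionGroup.a 1) := congrArg Subtype.val h1
    rw [← map_mul, ← map_mul] at h2
    exact quat_q1_5 N hN2 (hφinj h2)
  · set ψ := MonoidHom.ofInjective hφinj with hψ
    refine ⟨ψ (QuaternionGroup.a (N : ZMod (2 * N))), ?_, ?_⟩
    · show orderOf (ψ _) = 2
      rw [MulEquiv.orderOf_eq]; exact quat_q4_5 N (by omega)
    · intro y hy
      have h1 : orderOf (ψ.symm y) = 2 := by rw [MulEquiv.orderOf_eq]; exact hy
      have h2 := quat_invol5 N (ψ.symm y)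
        (by intro h; rw [h, orderOf_one] at h1; omega)
        (by rw [← h1]; exact pow_orderOf_eq_one _)
      rw [← h2, MulEquiv.apply_symm_apply]

end Cfsg.Agent.Lib.Helper5
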