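import Mathlib
import Cfsg.Agent.Lib.Helper5.Isolated

set_option autoImplicit false

namespace Cfsg.Agent.Lib.Helper5

section

variable {G : Type*} [Group G]

/-- An element normalizing a cyclic Sylow `p`-subgroup `P` and centralizing a nontrivial
element of `P` centralizes `P`. -/
theorem commute_of_normalizer_cyclic_sylow [Finite G] {p : ℕ} [Fact p.Prime] (P : Sylow p G)
    (hcyc : IsCyclic (P : Subgroup G)) (x : G) (hxP : x ∈ (P : Subgroup G)) (hx1 : x ≠ 1)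
    (n : G) (hn : n ∈ Subgroup.normalizer ((P : Subgroup G) : Set G)) (hnx : n * x = x * n) :
    ∀ g ∈ (P : Subgroup G), Commute n g := by
  have hp : p.Prime := Fact.out
  -- conjugation by n is a power map on P
  obtain ⟨m, hm⟩ : ∃ m : ℤ, ∀ g ∈ (P : Subgroup G), n * g * n⁻¹ = g ^ m := by
    obtain ⟨g₀, hg₀⟩ := IsCyclic.exists_generator (α := (P : Subgroup G))
    have h1 : n * (g₀ : G) * n⁻¹ ∈ (P : Subgroup G) :=
      (Subgroup.mem_normalizer_iff.mp hn _).mp g₀.2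
    obtain ⟨m, hm⟩ := Subgroup.mem_zpowers_iff.mp (hg₀ ⟨_, h1⟩)
    have hm' : (g₀ : G) ^ m = n * (g₀ : G) * n⁻¹ := by
      have := congrArg Subtype.val hm
      simpa using this
    refine ⟨m, ?_⟩
    intro g hg
    obtain ⟨j, hj⟩ := Subgroup.mem_zpowers_iff.mp (hg₀ ⟨g, hg⟩)
    have hj' : (g₀ : G) ^ j = g := by
      have := congrArg Subtype.val hj
      simpa using this
    rw [← hj', ← conj_zpow, ← hm', ← zpow_mul, ← zpow_mul, mul_comm]
  -- p divides m - 1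
  have hp1 : (p : ℤ) ∣ m - 1 := by
    have h1 : x ^ m = x := by
      rw [← hm x hxP, hnx]; group
    have h2 : x ^ (m - 1) = 1 := by
      rw [zpow_sub, h1, zpow_one, mul_inv_cancel]
    have h3 : (orderOf x : ℤ) ∣ m - 1 := orderOf_dvd_iff_zpow_eq_one.mpr h2
    obtain ⟨k, hk⟩ := P.2 ⟨x, hxP⟩
    have hk' : x ^ (p ^ k) = 1 := by
      have := congrArg Subtype.val hk
      simpa using this
    obtain ⟨j, -, hj⟩ := (Nat.dvd_prime_pow hp).mp (orderOf_dvd_of_pow_eq_one hk')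
    have hj0 : j ≠ 0 := by
      rintro rfl
      rw [pow_zero, orderOf_eq_one_iff] at hj
      exact hx1 hj
    have h4 : (p : ℤ) ∣ (orderOf x : ℤ) := by
      rw [hj]
      exact_mod_cast dvd_pow_self p hj0
    exact h4.trans h3
  -- iterate
  have hpow : ∀ i : ℕ, ∀ g ∈ (P : Subgroup G), n ^ i * g * (n ^ i)⁻¹ = g ^ (m ^ i) := by
    intro i
    induction i with
    | zero => intro g _; simp
    | succ i ih =>
      intro g hg
      have h1 : g ^ (m ^ i) ∈ (P : Subgroup G) := Subgroup.zpow_mem _ hg _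
      calc n ^ (i + 1) * g * (n ^ (i + 1))⁻¹ = n * (n ^ i * g * (n ^ i)⁻¹) * n⁻¹ := by
            rw [pow_succ']; group
        _ = n * (g ^ (m ^ i)) * n⁻¹ := by rw [ih g hg]
        _ = (g ^ (m ^ i)) ^ m := hm _ h1
        _ = g ^ (m ^ (i + 1)) := by rw [← zpow_mul, pow_succ]
  obtain ⟨e, he⟩ := (IsPGroup.iff_card.mp P.2)
  have hpe : ∀ g ∈ (P : Subgroup G), g ^ (p ^ e) = 1 := by
    intro g hg
    have h1 : (⟨g, hg⟩ : (P : Subgroup G)) ^ (Nat.card (P : Subgroup G)) = 1 := pow_card_eq_one'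
    rw [he] at h1
    have := congrArg Subtype.val h1
    simpa using this
  have hdvd : ((p : ℤ) ^ (e + 1)) ∣ m ^ p ^ e - 1 ^ p ^ e := dvd_sub_pow_of_dvd_sub hp1 e
  rw [one_pow] at hdvd
  have hdvd2 : ((p : ℤ) ^ e) ∣ m ^ p ^ e - 1 := (pow_dvd_pow (p : ℤ) (Nat.le_succ e)).trans hdvd
  obtain ⟨t, ht⟩ := hdvd2
  have hcomm1 : ∀ g ∈ (P : Subgroup G), Commute (n ^ (p ^ e)) g := by
    intro g hg
    have h1 := hpow (p ^ e) g hg
    have h2 : m ^ p ^ e = 1 + (p : ℤ) ^ e * t := by linarith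
    have h3 : g ^ (m ^ p ^ e) = g := by
      rw [h2, zpow_add, zpow_one, zpow_mul]
      have : g ^ ((p : ℤ) ^ e) = 1 := by
        have := hpe g hg
        rw [← zpow_natCast] at this
        rw [← this]; push_cast; rfl
      rw [this, one_zpow, mul_one]
    rw [h3] at h1
    show n ^ (p ^ e) * g = g * n ^ (p ^ e)
    calc n ^ (p ^ e) * g = (n ^ (p ^ e) * g * (n ^ (p ^ e))⁻¹) * n ^ (p ^ e) := by group
      _ = g * n ^ (p ^ e) := by rw [h1]
  -- the p-part of n lies in P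
  obtain ⟨a, m', hm'1, hm'2⟩ := Nat.exists_eq_pow_mul_and_not_dvd (orderOf_pos n).ne' p hp.ne_one
  have hnm'P : n ^ m' ∈ (P : Subgroup G) := by
    apply mem_sylow_of_pow_of_mem_normalizer P (n ^ m') (Subgroup.pow_mem _ hn _) a
    rw [← pow_mul, mul_comm, ← hm'2, pow_orderOf_eq_one]
  have hcommP : IsMulCommutative (P : Subgroup G) := IsCyclic.isMulCommutative
  have hcomm2 : ∀ g ∈ (P : Subgroup G), Commute (n ^ m') g := by
    intro g hg
    have h1 : (⟨n ^ m', hnm'P⟩ : (P : Subgroup G)) * ⟨g, hg⟩ = ⟨g, hg⟩ * ⟨n ^ m', hnm'P⟩ :=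
      mul_comm' _ _
    exact congrArg Subtype.val h1
  have hcop : IsCoprime (m' : ℤ) ((p ^ e : ℕ) : ℤ) := by
    rw [Nat.isCoprime_iff_coprime]
    exact Nat.Coprime.pow_right e ((Nat.Prime.coprime_iff_not_dvd hp).mpr hm'1).symm
  obtain ⟨u, v, huv⟩ := hcop
  intro g hg
  have h1 : n = (n ^ m') ^ u * (n ^ (p ^ e)) ^ v := by
    rw [← zpow_natCast n m', ← zpow_natCast n (p ^ e), ← zpow_mul, ← zpow_mul, ← zpow_add]
    have : (m' : ℤ) * u + ((p ^ e : ℕ) : ℤ) * v = 1 := by linarith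
    rw [this, zpow_one]
  rw [h1]
  exact ((hcomm2 g hg).zpow_left u).mul_left ((hcomm1 g hg).zpow_left v)

end

end Cfsg.Agent.Lib.Helper5
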