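import Mathlib
import Cfsg.Prelude.Def_Transfer
import Cfsg.Agent.Lib.Helper7.ElemAbCount

set_option autoImplicit false

namespace Cfsg.Agent.Lib.Helper5

universe u

/-- `e ↦ u e u⁻¹ e⁻¹` as a homomorphism into the center, when commutators are central. -/
def commHom5 {E : Type u} [Group E]
    (hcc : ∀ u e : E, u * e * u⁻¹ * e⁻¹ ∈ Subgroup.center E) (u : E) : E →* Subgroup.center E :=
  MonoidHom.mk' (fun e => ⟨u * e * u⁻¹ * e⁻¹, hcc u e⟩) (by
    intro e e'
    apply Subtype.ext
    show u * (e * e') * u⁻¹ * (e * e')⁻¹ = (u * e * u⁻¹ * e⁻¹) * (u * e' * u⁻¹ * e'⁻¹)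
    have h1 : (u * e' * u⁻¹ * e'⁻¹) * e⁻¹ = e⁻¹ * (u * e' * u⁻¹ * e'⁻¹) :=
      (Subgroup.mem_center_iff.mp (hcc u e') e⁻¹).symm
    calc u * (e * e') * u⁻¹ * (e * e')⁻¹
        = u * e * u⁻¹ * ((u * e' * u⁻¹ * e'⁻¹) * e⁻¹) := by group
      _ = u * e * u⁻¹ * (e⁻¹ * (u * e' * u⁻¹ * e'⁻¹)) := by rw [h1]
      _ = (u * e * u⁻¹ * e⁻¹) * (u * e' * u⁻¹ * e'⁻¹) := by group)

theorem commHom5_apply {E : Type u} [Group E]
    (hcc : ∀ u e : E, u * e * u⁻¹ * e⁻¹ ∈ Subgroup.center E) (u e : E) :
    ((commHom5 hcc u e : Subgroup.center E) : E) = u * e * u⁻¹ * e⁻¹ := rfl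

theorem commHom5_eq_one_iff {E : Type u} [Group E]
    (hcc : ∀ u e : E, u * e * u⁻¹ * e⁻¹ ∈ Subgroup.center E) (u e : E) :
    commHom5 hcc u e = 1 ↔ e * u = u * e := by
  constructor
  · intro h
    have h1 : u * e * u⁻¹ * e⁻¹ = 1 := congrArg Subtype.val h
    rw [mul_inv_eq_one, mul_inv_eq_iff_eq_mul] at h1
    exact h1.symm
  · intro h
    apply Subtype.ext
    show u * e * u⁻¹ * e⁻¹ = 1
    rw [mul_inv_eq_one, mul_inv_eq_iff_eq_mul]
    exact h.symm

/-- a homomorphism to a group of order two is trivial or has kernel of index two -/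
theorem hom_half5 {E : Type u} [Group E] {K : Type u} [Group K] [Finite K]
    (hZ : Nat.card (Subgroup.center E) = 2) (χ : K →* Subgroup.center E) :
    (∀ k, χ k = 1) ∨ 2 * Nat.card {k : K // χ k = 1} = Nat.card K := by
  have h1 : χ.ker.index = Nat.card χ.range := Subgroup.index_ker χ
  have h2 : Nat.card χ.range ∣ 2 := by
    rw [← hZ]; exact Subgroup.card_subgroup_dvd_card χ.range
  have h3 : Nat.card χ.range = 1 ∨ Nat.card χ.range = 2 :=
    (Nat.dvd_prime Nat.prime_two).1 h2
  rcases h3 with h3 | h3
  · left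
    intro k
    have h4 : χ.range = ⊥ := Subgroup.eq_bot_of_card_eq _ h3
    have hk : χ k ∈ χ.range := ⟨k, rfl⟩
    rw [h4, Subgroup.mem_bot] at hk
    exact hk
  · right
    have h4 : Nat.card χ.ker * χ.ker.index = Nat.card K := Subgroup.card_mul_index χ.ker
    rw [h1, h3] at h4
    have h5 : Nat.card {k : K // χ k = 1} = Nat.card χ.ker := by
      apply Nat.card_congr
      exact Equiv.subtypeEquivRight (fun k => (MonoidHom.mem_ker).symm)
    rw [h5]; omega

theorem sum_ite_const5 {α : Type u} [Fintype α] (P : α → Prop) [DecidablePred P] (N : ℕ) :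
    ∑ a : α, (if P a then 2 * N else N) = Nat.card α * N + Nat.card {a // P a} * N := by
  have h : ∀ a : α, (if P a then 2 * N else N) = N + (if P a then N else 0) := by
    intro a; split_ifs <;> omega
  simp_rw [h]
  rw [Finset.sum_add_distrib, Finset.sum_const, Finset.card_univ, smul_eq_mul,
    ← Finset.sum_filter, Finset.sum_const, smul_eq_mul, Nat.card_eq_fintype_card,
    Nat.card_eq_fintype_card, Fintype.card_subtype]

/-- double counting of commuting pairs: `|C_E(B)| |B| = |E| |B ∩ Z(E)|` when commutators are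
central and the center has order two -/
theorem es_cent_card5 {E : Type u} [Group E] [Finite E]
    (hcc : ∀ u e : E, u * e * u⁻¹ * e⁻¹ ∈ Subgroup.center E)
    (hZ : Nat.card (Subgroup.center E) = 2) (B : Subgroup E) :
    Nat.card (Subgroup.centralizer (B : Set E)) * Nat.card B =
      Nat.card E * Nat.card {b : B // (b : E) ∈ Subgroup.center E} := by
  classical
  haveI : Fintype E := Fintype.ofFinite E
  haveI : Fintype B := Fintype.ofFinite B
  have hdc : ∑ b : B, Nat.card {x : E // x * (b : E) = b * x} =
      ∑ x : E, Nat.card {b : B // x * (b : E) = b * x} := by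
    rw [← Nat.card_sigma, ← Nat.card_sigma]
    apply Nat.card_congr
    exact
      { toFun := fun p => ⟨p.2.1, ⟨p.1, p.2.2⟩⟩
        invFun := fun p => ⟨p.2.1, ⟨p.1, p.2.2⟩⟩
        left_inv := fun p => rfl
        right_inv := fun p => rfl }
  have h1 : ∀ b : B, 2 * Nat.card {x : E // x * (b : E) = b * x} =
      if (b : E) ∈ Subgroup.center E then 2 * Nat.card E else Nat.card E := by
    intro b
    by_cases hb : (b : E) ∈ Subgroup.center E
    · rw [if_pos hb]
      congr 1
      have hall : ∀ x : E, x * (b : E) = b * x := fun x => (Subgroup.mem_center_iff.mp hb x)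
      exact Nat.card_congr (Equiv.subtypeUnivEquiv hall)
    · rw [if_neg hb]
      rcases hom_half5 hZ (commHom5 hcc (b : E)) with h | h
      · exfalso
        apply hb
        rw [Subgroup.mem_center_iff]
        intro x
        exact (commHom5_eq_one_iff hcc (b : E) x).1 (h x)
      · rw [← h]
        congr 1
        apply Nat.card_congr
        apply Equiv.subtypeEquivRight
        intro x
        exact (commHom5_eq_one_iff hcc (b : E) x).symm
  have h2 : ∀ x : E, 2 * Nat.card {b : B // x * (b : E) = b * x} =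
      if x ∈ Subgroup.centralizer (B : Set E) then 2 * Nat.card B else Nat.card B := by
    intro x
    by_cases hx : x ∈ Subgroup.centralizer (B : Set E)
    · rw [if_pos hx]
      congr 1
      have hall : ∀ b : B, x * (b : E) = b * x := fun b =>
        ((Subgroup.mem_centralizer_iff.mp hx) (b : E) b.2).symm
      exact Nat.card_congr (Equiv.subtypeUnivEquiv hall)
    · rw [if_neg hx]
      rcases hom_half5 hZ ((commHom5 hcc x).comp B.subtype) with h | h
      · exfalso
        apply hx
        rw [Subgroup.mem_centralizer_iff]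
        intro b hb
        have := (commHom5_eq_one_iff hcc x b).1 (h ⟨b, hb⟩)
        exact this
      · rw [← h]
        congr 1
        apply Nat.card_congr
        apply Equiv.subtypeEquivRight
        intro b
        constructor
        · intro hb
          exact (commHom5_eq_one_iff hcc x (b : E)).2 hb.symm
        · intro hb
          exact ((commHom5_eq_one_iff hcc x (b : E)).1 hb).symm
  have e1 : 2 * ∑ b : B, Nat.card {x : E // x * (b : E) = b * x} =
      Nat.card B * Nat.card E + Nat.card {b : B // (b : E) ∈ Subgroup.center E} * Nat.card E := by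
    rw [Finset.mul_sum, Finset.sum_congr rfl (fun b _ => h1 b)]
    exact sum_ite_const5 (fun b : B => (b : E) ∈ Subgroup.center E) (Nat.card E)
  have e2 : 2 * ∑ x : E, Nat.card {b : B // x * (b : E) = b * x} =
      Nat.card E * Nat.card B +
        Nat.card {x : E // x ∈ Subgroup.centralizer (B : Set E)} * Nat.card B := by
    rw [Finset.mul_sum, Finset.sum_congr rfl (fun x _ => h2 x)]
    exact sum_ite_const5 (fun x : E => x ∈ Subgroup.centralizer (B : Set E)) (Nat.card B)
  rw [hdc, e2] at e1
  have e3 : Nat.card {x : E // x ∈ Subgroup.centralizer (B : Set E)} =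
      Nat.card (Subgroup.centralizer (B : Set E)) := rfl
  rw [e3] at e1
  have e4 : Nat.card E * Nat.card B = Nat.card B * Nat.card E := mul_comm _ _
  rw [e4] at e1
  have e5 := Nat.add_left_cancel e1
  rw [e5, mul_comm]

theorem sum_ite_zero5 {α : Type u} [Fintype α] (P : α → Prop) [DecidablePred P] (N : ℕ) :
    ∑ a : α, (if P a then 0 else N) = (Nat.card α - Nat.card {a // P a}) * N := by
  rw [Finset.sum_ite, Finset.sum_const_zero, zero_add, Finset.sum_const, smul_eq_mul,
    Nat.card_eq_fintype_card, Nat.card_eq_fintype_card, ← Fintype.card_subtype_compl,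
    Fintype.card_subtype]

/-- the number of elements of order four in an extraspecial 2-group of plus type -/
theorem es_plus_count5 {E : Type u} [Group E] [Finite E] (m : ℕ)
    (hE : Cfsg.IsExtraspecial 2 E) (hcard : Nat.card E = 2 ^ (2 * m + 1))
    (hplus : ∃ A : Subgroup E, Cfsg.IsElementaryAbelian 2 A ∧ Nat.card A = 2 ^ (m + 1)) :
    Nat.card {x : E // orderOf x = 4} = 2 ^ (2 * m) - 2 ^ m := by
  classical
  haveI : Fact (Nat.Prime 2) := ⟨Nat.prime_two⟩
  haveI : Fintype E := Fintype.ofFinite E
  obtain ⟨⟨hpg, hfrat, hcomm⟩, hZ⟩ := hE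
  obtain ⟨A, ⟨hAc, hAe⟩, hAcard⟩ := hplus
  haveI : Fintype A := Fintype.ofFinite A
  have hcc : ∀ u e : E, u * e * u⁻¹ * e⁻¹ ∈ Subgroup.center E := by
    intro u e
    rw [← hcomm, commutator_def]
    exact Subgroup.commutator_mem_commutator (Subgroup.mem_top u) (Subgroup.mem_top e)
  obtain ⟨z, hz1, hzu⟩ := (Nat.card_eq_two_iff' (1 : Subgroup.center E)).1 hZ
  have hz1' : (z : E) ≠ 1 := fun h => hz1 (Subtype.ext h)
  have hzsq : (z : E) ^ 2 = 1 := by
    have h1 : z ^ Nat.card (Subgroup.center E) = 1 := pow_card_eq_one'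
    rw [hZ] at h1
    exact congrArg Subtype.val h1
  have hdich : ∀ c : E, c ∈ Subgroup.center E → c = 1 ∨ c = (z : E) := by
    intro c hc
    by_cases h : c = 1
    · exact Or.inl h
    · right
      have h1 : (⟨c, hc⟩ : Subgroup.center E) ≠ 1 := fun h' => h (congrArg Subtype.val h')
      exact congrArg Subtype.val (hzu _ h1)
  have hsqc : ∀ x : E, x ^ 2 ∈ Subgroup.center E := by
    intro x
    rw [← hfrat]
    exact Cfsg.Agent.Lib.Helper7.pow_mem_frattini hpg x
  have hord : ∀ x : E, orderOf x = 4 ↔ x ^ 2 = (z : E) := by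
    intro x
    constructor
    · intro h
      rcases hdich _ (hsqc x) with h1 | h1
      · exfalso
        have h2 : orderOf x ∣ 2 := orderOf_dvd_of_pow_eq_one h1
        rw [h] at h2
        omega
      · exact h1
    · intro h
      have h1 : ¬ x ^ 2 ^ 1 = 1 := by
        rw [pow_one, h]; exact hz1'
      have h2 : x ^ 2 ^ (1 + 1) = 1 := by
        have : x ^ 2 ^ (1 + 1) = (x ^ 2) ^ 2 := by rw [← pow_mul]; norm_num
        rw [this, h, hzsq]
      have := orderOf_eq_prime_pow h1 h2
      simpa using this
  -- A is self-centralizing and contains the center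
  have hAle : A ≤ Subgroup.centralizer (A : Set E) := by
    intro a ha
    rw [Subgroup.mem_centralizer_iff]
    intro b hb
    exact congrArg Subtype.val (hAc.is_comm.comm ⟨b, hb⟩ ⟨a, ha⟩)
  have hcount := es_cent_card5 hcc hZ A
  have hinj : Function.Injective
      (fun b : {b : A // (b : E) ∈ Subgroup.center E} => (⟨(b.1 : E), b.2⟩ : Subgroup.center E)) := by
    intro b b' h
    apply Subtype.ext
    apply Subtype.ext
    have h' : ((⟨(b.1 : E), b.2⟩ : Subgroup.center E) : E) =
        ((⟨(b'.1 : E), b'.2⟩ : Subgroup.center E) : E) := congrArg Subtype.val h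
    exact h'
  have hk2 : Nat.card {b : A // (b : E) ∈ Subgroup.center E} ≤ 2 := by
    rw [← hZ]
    exact Nat.card_le_card_of_injective _ hinj
  have hfge : Nat.card A ≤ Nat.card (Subgroup.centralizer (A : Set E)) :=
    Subgroup.card_le_of_le hAle
  have hAA : Nat.card A * Nat.card A = 2 * Nat.card E := by
    rw [hAcard, hcard]; ring
  have hApos : 0 < Nat.card A := Nat.card_pos
  have hEpos : 0 < Nat.card E := Nat.card_pos
  have hfeq : Nat.card (Subgroup.centralizer (A : Set E)) = Nat.card A := by
    have h1 : Nat.card (Subgroup.centralizer (A : Set E)) * Nat.card A ≤ Nat.card A * Nat.card A := by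
      rw [hcount, hAA, mul_comm]
      exact Nat.mul_le_mul_right _ hk2
    have h2 := Nat.le_of_mul_le_mul_right h1 hApos
    omega
  have hkeq : Nat.card {b : A // (b : E) ∈ Subgroup.center E} = 2 := by
    rw [hfeq, hAA, mul_comm] at hcount
    exact (Nat.eq_of_mul_eq_mul_left hEpos hcount).symm
  have hCA : Subgroup.centralizer (A : Set E) = A :=
    (Subgroup.eq_of_le_of_card_ge hAle (le_of_eq hfeq)).symm
  have hZA : Subgroup.center E ≤ A := by
    intro c hc
    have hbij := hinj.bijective_of_nat_card_le (by rw [hZ, hkeq])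
    obtain ⟨b, hb⟩ := hbij.2 ⟨c, hc⟩
    have : (b.1 : E) = c := congrArg Subtype.val hb
    rw [← this]
    exact b.1.2
  -- the double count
  have hdc : ∑ a : A, Nat.card {x : E // x ∉ A ∧ (x * (a : E)) ^ 2 = (z : E)} =
      ∑ x : E, Nat.card {a : A // x ∉ A ∧ (x * (a : E)) ^ 2 = (z : E)} := by
    rw [← Nat.card_sigma, ← Nat.card_sigma]
    apply Nat.card_congr
    exact
      { toFun := fun p => ⟨p.2.1, ⟨p.1, p.2.2⟩⟩
        invFun := fun p => ⟨p.2.1, ⟨p.1, p.2.2⟩⟩
        left_inv := fun p => rfl
        right_inv := fun p => rfl }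
  have hL : ∀ a : A, Nat.card {x : E // x ∉ A ∧ (x * (a : E)) ^ 2 = (z : E)} =
      Nat.card {y : E // y ^ 2 = (z : E)} := by
    intro a
    apply Nat.card_congr
    refine Equiv.subtypeEquiv (Equiv.mulRight (a : E)) ?_
    intro x
    constructor
    · intro h
      exact h.2
    · intro h
      refine ⟨?_, h⟩
      intro hx
      have h1 : (x * (a : E)) ^ 2 = 1 := hAe _ (A.mul_mem hx a.2)
      have h2 : (x * (a : E)) ^ 2 = (z : E) := h
      rw [h1] at h2
      exact hz1' h2.symm
  have hR : ∀ x : E, 2 * Nat.card {a : A // x ∉ A ∧ (x * (a : E)) ^ 2 = (z : E)} =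
      if x ∈ A then 0 else Nat.card A := by
    intro x
    by_cases hx : x ∈ A
    · rw [if_pos hx]
      haveI : IsEmpty {a : A // x ∉ A ∧ (x * (a : E)) ^ 2 = (z : E)} := ⟨fun a => a.2.1 hx⟩
      rw [Nat.card_of_isEmpty]
    · rw [if_neg hx]
      obtain ⟨χ, hχ⟩ : ∃ χ : A →* Subgroup.center E, χ = (commHom5 hcc x).comp A.subtype :=
        ⟨_, rfl⟩
      have hχ1 : ∀ a : A, χ a = 1 ↔ (a : E) * x = x * a := by
        intro a
        rw [hχ]
        exact commHom5_eq_one_iff hcc x (a : E)
      have hhalf : 2 * Nat.card {a : A // χ a = 1} = Nat.card A := by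
        rcases hom_half5 hZ χ with h | h
        · exfalso
          apply hx
          rw [← hCA, Subgroup.mem_centralizer_iff]
          intro b hb
          exact (hχ1 ⟨b, hb⟩).1 (h ⟨b, hb⟩)
        · exact h
      have hx2c : ∀ a : E, x ^ 2 * a = a * x ^ 2 := fun a =>
        (Subgroup.mem_center_iff.mp (hsqc x) a).symm
      have hkey : ∀ a : A, (x * (a : E)) ^ 2 = ((χ a : Subgroup.center E) : E) * x ^ 2 := by
        intro a
        have hc : ((χ a : Subgroup.center E) : E) = x * (a : E) * x⁻¹ * (a : E)⁻¹ := by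
          rw [hχ]; rfl
        have haa : (a : E) * (a : E) = 1 := by
          have := hAe (a : E) a.2
          rwa [pow_two] at this
        have hxa : x * (a : E) = ((χ a : Subgroup.center E) : E) * (a : E) * x := by
          rw [hc]; group
        calc (x * (a : E)) ^ 2 = (x * (a : E)) * (x * (a : E)) := pow_two _
          _ = (((χ a : Subgroup.center E) : E) * (a : E) * x) * (x * (a : E)) := by rw [← hxa]
          _ = ((χ a : Subgroup.center E) : E) * ((a : E) * (x ^ 2 * (a : E))) := by
              rw [pow_two]; simp only [mul_assoc]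
          _ = ((χ a : Subgroup.center E) : E) * ((a : E) * ((a : E) * x ^ 2)) := by rw [hx2c]
          _ = ((χ a : Subgroup.center E) : E) * (((a : E) * (a : E)) * x ^ 2) := by
              simp only [mul_assoc]
          _ = ((χ a : Subgroup.center E) : E) * x ^ 2 := by rw [haa, one_mul]
      rcases hdich _ (hsqc x) with hx2 | hx2
      · -- x^2 = 1 : need χ a ≠ 1
        have e1 : Nat.card {a : A // x ∉ A ∧ (x * (a : E)) ^ 2 = (z : E)} =
            Nat.card {a : A // ¬ χ a = 1} := by
          apply Nat.card_congr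
          apply Equiv.subtypeEquivRight
          intro a
          rw [hkey a, hx2, mul_one]
          constructor
          · intro h h'
            have : ((χ a : Subgroup.center E) : E) = 1 := by rw [h']; rfl
            rw [this] at h
            exact hz1' h.2.symm
          · intro h
            refine ⟨hx, ?_⟩
            exact congrArg Subtype.val (hzu _ h)
        have e2 : Nat.card {a : A // ¬ χ a = 1} = Nat.card A - Nat.card {a : A // χ a = 1} := by
          rw [Nat.card_eq_fintype_card, Nat.card_eq_fintype_card, Nat.card_eq_fintype_card,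
            Fintype.card_subtype_compl]
        rw [e1, e2]
        omega
      · -- x^2 = z : need χ a = 1
        have e1 : Nat.card {a : A // x ∉ A ∧ (x * (a : E)) ^ 2 = (z : E)} =
            Nat.card {a : A // χ a = 1} := by
          apply Nat.card_congr
          apply Equiv.subtypeEquivRight
          intro a
          rw [hkey a, hx2]
          constructor
          · intro h
            have h1 : ((χ a : Subgroup.center E) : E) = 1 := by
              have := h.2
              exact mul_eq_right.mp this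
            exact Subtype.ext h1
          · intro h
            refine ⟨hx, ?_⟩
            rw [h]
            exact one_mul _
        rw [e1, hhalf]
  have e1 : ∑ a : A, Nat.card {x : E // x ∉ A ∧ (x * (a : E)) ^ 2 = (z : E)} =
      Nat.card A * Nat.card {y : E // y ^ 2 = (z : E)} := by
    rw [Finset.sum_congr rfl (fun a _ => hL a), Finset.sum_const, Finset.card_univ, smul_eq_mul,
      ← Nat.card_eq_fintype_card]
  have e2 : 2 * ∑ x : E, Nat.card {a : A // x ∉ A ∧ (x * (a : E)) ^ 2 = (z : E)} =
      (Nat.card E - Nat.card {x : E // x ∈ A}) * Nat.card A := by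
    rw [Finset.mul_sum, Finset.sum_congr rfl (fun x _ => hR x)]
    exact sum_ite_zero5 (fun x : E => x ∈ A) (Nat.card A)
  have e3 : Nat.card {x : E // x ∈ A} = Nat.card A := rfl
  rw [← hdc, e1, e3] at e2
  have e4 : 2 * Nat.card {y : E // y ^ 2 = (z : E)} = Nat.card E - Nat.card A := by
    have : Nat.card A * (2 * Nat.card {y : E // y ^ 2 = (z : E)}) =
        Nat.card A * (Nat.card E - Nat.card A) := by
      rw [mul_comm (Nat.card A) (Nat.card E - Nat.card A), ← e2]; ring
    exact Nat.eq_of_mul_eq_mul_left hApos this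
  have e5 : Nat.card {x : E // orderOf x = 4} = Nat.card {y : E // y ^ 2 = (z : E)} :=
    Nat.card_congr (Equiv.subtypeEquivRight hord)
  rw [e5]
  rw [hcard, hAcard] at e4
  have p1 : 2 ^ (2 * m + 1) = 2 * 2 ^ (2 * m) := by rw [pow_succ]; ring
  have p2 : 2 ^ (m + 1) = 2 * 2 ^ m := by rw [pow_succ]; ring
  rw [p1, p2] at e4
  omega

end Cfsg.Agent.Lib.Helper5
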