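import Mathlib
import Cfsg.Prelude.Def_Transfer
import Cfsg.Agent.Lib.Helper5.ESPlus5

set_option autoImplicit false

namespace Cfsg.Agent.Lib.Helper5

universe u

theorem es_plus_aut5 {E : Type u} [Group E] [Finite E] (m : ℕ)
    (hE : Cfsg.IsExtraspecial 2 E) (hcard : Nat.card E = 2 ^ (2 * m + 1))
    (hplus : ∃ A : Subgroup E, Cfsg.IsElementaryAbelian 2 A ∧ Nat.card A = 2 ^ (m + 1))
    (ω : E ≃* E) (hω : orderOf ω = 5) (hfix : ∀ x : E, ω x = x ↔ x ∈ Subgroup.center E) :
    4 ∣ m := by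
  classical
  haveI : Fintype E := Fintype.ofFinite E
  haveI : Fact (Nat.Prime 5) := ⟨by norm_num⟩
  have hcount := es_plus_count5 m hE hcard hplus
  have hZ : Nat.card (Subgroup.center E) = 2 := hE.2
  obtain ⟨f, hf⟩ : ∃ f : Function.End {x : E // orderOf x = 4},
      ∀ x, ((f x : {x : E // orderOf x = 4}) : E) = ω x.1 :=
    ⟨fun x => ⟨ω x.1, by rw [MulEquiv.orderOf_eq]; exact x.2⟩, fun x => rfl⟩
  have hpow : ∀ (k : ℕ) (x : {x : E // orderOf x = 4}),
      (((f ^ k) x : {x : E // orderOf x = 4}) : E) = (ω ^ k) x.1 := by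
    intro k
    induction k with
    | zero => intro x; rw [pow_zero, pow_zero]; rfl
    | succ k ih =>
      intro x
      rw [pow_succ, Function.End.mul_def]
      show (((f ^ k) (f x) : {x : E // orderOf x = 4}) : E) = _
      rw [ih, hf, pow_succ]
      rfl
  have hf5 : f ^ 5 ^ 1 = 1 := by
    funext x
    apply Subtype.ext
    rw [pow_one, hpow, ← hω, pow_orderOf_eq_one]
    rfl
  have hmod := Equiv.Perm.card_fixedPoints_modEq (p := 5) (n := 1) hf5
  have hfp : IsEmpty (Function.fixedPoints f) := by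
    constructor
    rintro ⟨x, hx⟩
    have h1 : ω x.1 = x.1 := by
      have h0 : f x = x := hx
      have := congrArg Subtype.val h0
      rw [hf] at this; exact this
    have h2 := (hfix x.1).1 h1
    have h3 : (x.1) ^ 2 = 1 := by
      have : (⟨x.1, h2⟩ : Subgroup.center E) ^ Nat.card (Subgroup.center E) = 1 :=
        pow_card_eq_one'
      rw [hZ] at this
      exact congrArg Subtype.val this
    have h4 : orderOf x.1 ∣ 2 := orderOf_dvd_of_pow_eq_one h3
    rw [x.2] at h4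
    omega
  have hfp0 : ∀ (inst : Fintype (Function.fixedPoints f)), @Fintype.card _ inst = 0 :=
    fun inst => @Fintype.card_eq_zero _ inst hfp
  rw [hfp0] at hmod
  have h5 : 5 ∣ 2 ^ (2 * m) - 2 ^ m := by
    rw [← hcount, Nat.card_eq_fintype_card]
    exact (Nat.modEq_zero_iff_dvd).1 hmod
  have h6 : 2 ^ (2 * m) - 2 ^ m = 2 ^ m * (2 ^ m - 1) := by
    rw [Nat.mul_sub, mul_one, ← pow_add]
    congr 2
    omega
  rw [h6] at h5
  have h7 : 5 ∣ 2 ^ m - 1 := by
    have hc : Nat.Coprime 5 (2 ^ m) := Nat.Coprime.pow_right m (by norm_num)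
    exact hc.dvd_of_dvd_mul_left h5
  have h8 : 2 ^ m % 5 = 1 := by
    have : 1 ≤ 2 ^ m := Nat.one_le_two_pow
    omega
  have h9 : 2 ^ m % 5 = 2 ^ (m % 4) % 5 := by
    conv_lhs => rw [← Nat.div_add_mod m 4, pow_add, pow_mul]
    rw [Nat.mul_mod, Nat.pow_mod]
    norm_num
  have h10 : m % 4 < 4 := Nat.mod_lt _ (by norm_num)
  rw [h9] at h8
  have h11 : m % 4 = 0 := by
    interval_cases (m % 4) <;> simp_all
  exact Nat.dvd_of_mod_eq_zero h11

end Cfsg.Agent.Lib.Helper5
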