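import Mathlib
import Cfsg.Agent.Lib.Helper5.PGroupBasics
import Cfsg.Agent.Lib.Helper5.StronglyEmb

set_option autoImplicit false

namespace Cfsg.Agent.Lib.Helper5

open Subgroup MulAction

section

/-- The quotient by a normal coatom is commutative (it is cyclic). -/
theorem quotient_comm_of_coatom {X : Type*} [Group X] (M : Subgroup X) [M.Normal]
    (hM : IsCoatom M) : ∀ a b : X ⧸ M, a * b = b * a := by
  obtain ⟨x, hx⟩ : ∃ x, x ∉ M := by
    by_contra h
    push Not at h
    exact hM.1 (eq_top_iff.mpr (fun y _ => h y))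
  have htop : M ⊔ Subgroup.zpowers x = ⊤ := by
    apply hM.2
    apply lt_of_le_of_ne le_sup_left
    intro h
    apply hx
    have h2 : x ∈ M ⊔ Subgroup.zpowers x :=
      (le_sup_right : Subgroup.zpowers x ≤ M ⊔ Subgroup.zpowers x) (Subgroup.mem_zpowers x)
    rw [← h] at h2
    exact h2
  have hall : ∀ a : X ⧸ M, a ∈ Subgroup.zpowers (QuotientGroup.mk' M x) := by
    intro a
    induction a using QuotientGroup.induction_on with
    | H g =>
      have hg : g ∈ M ⊔ Subgroup.zpowers x := by rw [htop]; trivial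
      have h2 : (QuotientGroup.mk' M) g ∈ (M ⊔ Subgroup.zpowers x).map (QuotientGroup.mk' M) :=
        ⟨g, hg, rfl⟩
      rw [Subgroup.map_sup, QuotientGroup.map_mk'_self, bot_sup_eq, MonoidHom.map_zpowers] at h2
      exact h2
  intro a b
  obtain ⟨i, rfl⟩ := Subgroup.mem_zpowers_iff.mp (hall a)
  obtain ⟨j, rfl⟩ := Subgroup.mem_zpowers_iff.mp (hall b)
  rw [← zpow_add, ← zpow_add, add_comm]

variable {G : Type*} [Group G]

theorem mem_normalizer_sup5 [Finite G] (A B : Subgroup G) (x : G)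
    (hA : x ∈ Subgroup.normalizer (A : Set G)) (hB : x ∈ Subgroup.normalizer (B : Set G)) :
    x ∈ Subgroup.normalizer ((A ⊔ B : Subgroup G) : Set G) := by
  apply mem_normalizer_of_conj_mem5
  intro a ha
  have h1 : (A ⊔ B).map (MulAut.conj x).toMonoidHom ≤ A ⊔ B := by
    rw [Subgroup.map_sup]
    apply sup_le_sup
    · rintro _ ⟨y, hy, rfl⟩
      exact (Subgroup.mem_normalizer_iff.mp hA y).mp hy
    · rintro _ ⟨y, hy, rfl⟩
      exact (Subgroup.mem_normalizer_iff.mp hB y).mp hy
  exact h1 ⟨a, ha, rfl⟩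

/-- An "extremely closed" maximal subgroup `H` of a maximal subgroup `M` of `G`: the normal
closure of `H` meets `M` in `H`. -/
theorem extremely_closed_normalClosure [Finite G] (H M : Subgroup G) (hHM : H ≤ M)
    (hcl : ∀ g : G, (H ⊔ H.map (MulAut.conj g).toMonoidHom) ⊓ M = H)
    (hmaxH : IsCoatom (H.subgroupOf M)) (hmaxM : IsCoatom M) :
    Subgroup.normalClosure (H : Set G) ⊓ M = H := by
  classical
  apply le_antisymm _ (le_inf Subgroup.le_normalClosure hHM)
  -- `M` normalizes `H`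
  have hconjM : ∀ m ∈ M, ∀ a ∈ H, m * a * m⁻¹ ∈ H := by
    intro m hm a ha
    have h1 : m * a * m⁻¹ ∈ (H ⊔ H.map (MulAut.conj m).toMonoidHom) ⊓ M :=
      ⟨(le_sup_right : H.map (MulAut.conj m).toMonoidHom ≤ H ⊔ H.map (MulAut.conj m).toMonoidHom)
        ⟨a, ha, rfl⟩, M.mul_mem (M.mul_mem hm (hHM ha)) (M.inv_mem hm)⟩
    rw [hcl m] at h1
    exact h1
  have hMN : M ≤ Subgroup.normalizer (H : Set G) :=
    fun m hm => mem_normalizer_of_conj_mem5 H m (hconjM m hm)
  -- subgroups between `H` and `M`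
  have hbetween : ∀ X : Subgroup G, H ≤ X → X ≤ M → X = H ∨ X = M := by
    intro X hHX hXM
    have h1 : H.subgroupOf M ≤ X.subgroupOf M := fun y hy => hHX hy
    rcases eq_or_lt_of_le h1 with h2 | h2
    · left
      rw [← Subgroup.map_subgroupOf_eq_of_le hXM, ← h2, Subgroup.map_subgroupOf_eq_of_le hHM]
    · right
      have h3 := hmaxH.2 _ h2
      rw [Subgroup.subgroupOf_eq_top] at h3
      exact le_antisymm hXM h3
  have hHneM : H ≠ M := by
    intro h
    apply hmaxH.1
    rw [Subgroup.subgroupOf_eq_top, h]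
  rcases eq_or_lt_of_le hMN with hN | hN
  swap
  · -- `H` is normal in `G`
    have h1 := hmaxM.2 _ hN
    have hn : H.Normal := Subgroup.normalizer_eq_top_iff.mp h1
    rw [Subgroup.normalClosure_eq_self]
    exact inf_le_left
  -- now `N_G(H) = M`
  have hnotM : ∀ g : G, g ∉ M → ¬ H.map (MulAut.conj g).toMonoidHom ≤ M := by
    intro g hg hle
    apply hg
    rw [hN]
    apply mem_normalizer_of_conj_mem5
    intro a ha
    have h1 : g * a * g⁻¹ ∈ (H ⊔ H.map (MulAut.conj g).toMonoidHom) ⊓ M :=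
      ⟨(le_sup_right : H.map (MulAut.conj g).toMonoidHom ≤ H ⊔ H.map (MulAut.conj g).toMonoidHom)
        ⟨a, ha, rfl⟩, hle ⟨a, ha, rfl⟩⟩
    rw [hcl g] at h1
    exact h1
  by_cases hB : ∃ g : G, g ∉ M ∧ ¬ (M ⊓ M.map (MulAut.conj g).toMonoidHom ≤ H)
  · obtain ⟨g, hgM, hD⟩ := hB
    obtain ⟨L, hL⟩ : ∃ L : Subgroup G, L = H ⊔ H.map (MulAut.conj g).toMonoidHom := ⟨_, rfl⟩
    have hDL : M ⊓ M.map (MulAut.conj g).toMonoidHom ≤ Subgroup.normalizer (L : Set G) := by
      rintro d ⟨hd1, m, hm, rfl⟩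
      rw [hL]
      apply mem_normalizer_sup5
      · exact hMN hd1
      · exact conj_mem_normalizer_map H g m (hMN hm)
    have hHL : H ≤ Subgroup.normalizer (L : Set G) :=
      le_trans (by rw [hL]; exact le_sup_left) Subgroup.le_normalizer
    have hsup : H ⊔ (M ⊓ M.map (MulAut.conj g).toMonoidHom) = M := by
      rcases hbetween (H ⊔ (M ⊓ M.map (MulAut.conj g).toMonoidHom)) le_sup_left
        (sup_le hHM inf_le_left) with h | h
      · exfalso
        apply hD
        rw [← h]
        exact le_sup_right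
      · exact h
    have hMNL : M ≤ Subgroup.normalizer (L : Set G) := by
      rw [← hsup]
      exact sup_le hHL hDL
    have hLnotM : ¬ L ≤ M := by
      intro h
      apply hnotM g hgM
      have hle2 : H.map (MulAut.conj g).toMonoidHom ≤ L := by rw [hL]; exact le_sup_right
      exact le_trans hle2 h
    have hNL : Subgroup.normalizer (L : Set G) = ⊤ := by
      apply hmaxM.2
      apply lt_of_le_of_ne hMNL
      intro h
      apply hLnotM
      rw [h]
      exact Subgroup.le_normalizer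
    have hLn : L.Normal := Subgroup.normalizer_eq_top_iff.mp hNL
    have hHL' : H ≤ L := by rw [hL]; exact le_sup_left
    have h1 : Subgroup.normalClosure (H : Set G) ≤ L :=
      Subgroup.normalClosure_le_normal hHL'
    calc Subgroup.normalClosure (H : Set G) ⊓ M ≤ L ⊓ M := inf_le_inf_right M h1
      _ = H := by rw [hL]; exact hcl g
  · push Not at hB
    -- transfer into `M / H`
    have hHn : (H.subgroupOf M).Normal :=
      (Subgroup.normal_subgroupOf_iff_le_normalizer hHM).mpr hMN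
    have hcomm := quotient_comm_of_coatom (H.subgroupOf M) hmaxH
    letI : CommGroup (↥M ⧸ H.subgroupOf M) :=
      { QuotientGroup.Quotient.group (H.subgroupOf M) with mul_comm := hcomm }
    obtain ⟨ϕ, hϕ⟩ : ∃ ϕ : ↥M →* ↥M ⧸ H.subgroupOf M, ϕ = QuotientGroup.mk' (H.subgroupOf M) :=
      ⟨_, rfl⟩
    have hϕ1 : ∀ (x : G) (hx : x ∈ M), x ∈ H → ϕ ⟨x, hx⟩ = 1 := by
      intro x hx hxH
      rw [hϕ]
      exact (QuotientGroup.eq_one_iff (N := H.subgroupOf M) (⟨x, hx⟩ : M)).mpr hxH
    have hϕ2 : ∀ (x : G) (hx : x ∈ M), ϕ ⟨x, hx⟩ = 1 → x ∈ H := by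
      intro x hx h
      rw [hϕ] at h
      exact (QuotientGroup.eq_one_iff (N := H.subgroupOf M) (⟨x, hx⟩ : M)).mp h
    -- conjugates of elements of `H` that land in `M` lie in `H`
    have hback : ∀ (t x : G), x ∈ H → t⁻¹ * x * t ∈ M → t⁻¹ * x * t ∈ H := by
      intro t x hx hm
      have h1 : t⁻¹ * x * t ∈ (H ⊔ H.map (MulAut.conj t⁻¹).toMonoidHom) ⊓ M := by
        refine ⟨(le_sup_right : H.map (MulAut.conj t⁻¹).toMonoidHom ≤
          H ⊔ H.map (MulAut.conj t⁻¹).toMonoidHom) ⟨x, hx, ?_⟩, hm⟩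
        show t⁻¹ * x * t⁻¹⁻¹ = t⁻¹ * x * t
        rw [inv_inv]
      rw [hcl t⁻¹] at h1
      exact h1
    have hV1 : ∀ h ∈ H, MonoidHom.transfer ϕ h = 1 := by
      intro h hh
      letI : Fintype (Quotient (orbitRel (zpowers h) (G ⧸ M))) := Fintype.ofFinite _
      rw [MonoidHom.transfer_eq_prod_quotient_orbitRel_zpowers_quot]
      apply Finset.prod_eq_one
      intro q _
      apply hϕ1
      exact hback _ _ (H.pow_mem hh _) (QuotientGroup.out_conj_pow_minimalPeriod_mem M h q.out)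
    have hV2 : ∀ (m : G) (hm : m ∈ M), m ∉ H → MonoidHom.transfer ϕ m = ϕ ⟨m, hm⟩ := by
      intro m hm hmH
      letI : Fintype (Quotient (orbitRel (zpowers m) (G ⧸ M))) := Fintype.ofFinite _
      rw [MonoidHom.transfer_eq_prod_quotient_orbitRel_zpowers_quot]
      have hfix : m • (QuotientGroup.mk 1 : G ⧸ M) = QuotientGroup.mk 1 := by
        rw [MulAction.Quotient.smul_mk, QuotientGroup.eq]
        simpa using hm
      have hfac : ∀ q : Quotient (orbitRel (zpowers m) (G ⧸ M)),
          q ≠ Quotient.mk'' (QuotientGroup.mk 1 : G ⧸ M) →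
          ϕ ⟨q.out.out⁻¹ * m ^ Function.minimalPeriod (m • ·) q.out * q.out.out,
            QuotientGroup.out_conj_pow_minimalPeriod_mem M m q.out⟩ = 1 := by
        intro q hq
        have htM : q.out.out ∉ M := by
          intro ht
          apply hq
          have h1 : q.out = (QuotientGroup.mk 1 : G ⧸ M) := by
            rw [← QuotientGroup.out_eq' q.out, QuotientGroup.eq]
            simpa using ht
          rw [← h1, Quotient.out_eq']
        have hmem := QuotientGroup.out_conj_pow_minimalPeriod_mem M m q.out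
        apply hϕ1
        apply hback _ _ _ hmem
        apply hB q.out.out htM
        refine ⟨M.pow_mem hm _, ⟨_, hmem, ?_⟩⟩
        show q.out.out * (q.out.out⁻¹ * m ^ Function.minimalPeriod (m • ·) q.out * q.out.out) *
          q.out.out⁻¹ = m ^ Function.minimalPeriod (m • ·) q.out
        group
      rw [Finset.prod_eq_single (Quotient.mk'' (QuotientGroup.mk 1 : G ⧸ M))
        (fun q _ hq => hfac q hq) (fun h => absurd (Finset.mem_univ _) h)]
      -- the orbit of the trivial coset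
      have hout : (Quotient.mk'' (QuotientGroup.mk 1 : G ⧸ M) :
          Quotient (orbitRel (zpowers m) (G ⧸ M))).out = (QuotientGroup.mk 1 : G ⧸ M) := by
        have h1 := Quotient.mk_out' (s₁ := orbitRel (zpowers m) (G ⧸ M))
          (QuotientGroup.mk 1 : G ⧸ M)
        obtain ⟨⟨z, hz⟩, hz2⟩ := h1
        obtain ⟨k, rfl⟩ := Subgroup.mem_zpowers_iff.mp hz
        rw [← hz2]
        show m ^ k • (QuotientGroup.mk 1 : G ⧸ M) = QuotientGroup.mk 1
        rw [MulAction.Quotient.smul_mk, QuotientGroup.eq]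
        simpa using M.zpow_mem hm k
      have hper : Function.minimalPeriod (m • ·) (QuotientGroup.mk 1 : G ⧸ M) = 1 :=
        Function.minimalPeriod_eq_one_iff_isFixedPt.mpr hfix
      obtain ⟨t, ht⟩ : ∃ t : G, t = (QuotientGroup.mk 1 : G ⧸ M).out := ⟨_, rfl⟩
      have htM : t ∈ M := by
        have h1 : (QuotientGroup.mk t : G ⧸ M) = QuotientGroup.mk 1 := by
          rw [ht]; exact QuotientGroup.out_eq' _
        rw [QuotientGroup.eq] at h1
        have h2 := M.inv_mem h1
        simpa using h2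
      have hgoal : ∀ (hmem : t⁻¹ * m ^ 1 * t ∈ M), ϕ ⟨t⁻¹ * m ^ 1 * t, hmem⟩ = ϕ ⟨m, hm⟩ := by
        intro hmem
        have e : (⟨t⁻¹ * m ^ 1 * t, hmem⟩ : M) = (⟨t, htM⟩ : M)⁻¹ * ⟨m, hm⟩ * ⟨t, htM⟩ := by
          apply Subtype.ext
          simp
        rw [e, map_mul, map_mul, map_inv, mul_comm (ϕ ⟨t, htM⟩)⁻¹, mul_assoc, inv_mul_cancel,
          mul_one]
      have hgen : ∀ (β : G ⧸ M), β = (QuotientGroup.mk 1 : G ⧸ M) →
          ∀ (hmem : β.out⁻¹ * m ^ Function.minimalPeriod (m • ·) β * β.out ∈ M),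
          ϕ ⟨β.out⁻¹ * m ^ Function.minimalPeriod (m • ·) β * β.out, hmem⟩ = ϕ ⟨m, hm⟩ := by
        intro β hβ
        subst hβ
        rw [hper, ← ht]
        exact hgoal
      exact hgen _ hout _
    intro x ⟨hxN, hxM⟩
    by_contra hxH
    have hker : Subgroup.normalClosure (H : Set G) ≤ (MonoidHom.transfer ϕ).ker :=
      Subgroup.normalClosure_le_normal (fun h hh => hV1 h hh)
    have h1 : MonoidHom.transfer ϕ x = 1 := hker hxN
    rw [hV2 x hxM hxH] at h1
    exact hxH (hϕ2 x hxM h1)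

end

end Cfsg.Agent.Lib.Helper5
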