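import Mathlib
import Cfsg.Agent.Lib.Helper5.ExtClosed

set_option autoImplicit false

namespace Cfsg.Agent.Lib.Helper5

open Subgroup MulAction
open scoped commutatorElement

section

variable {G : Type*} [Group G]

/-- Transfer into `M / H`: if `H` is a normal maximal subgroup of `M` and `M ∩ M^g ≤ H` for all
`g ∉ M`, then some normal subgroup `N` of `G` with abelian quotient contains `H` and meets `M`
in `H`. -/
theorem exists_normal_of_inter_le [Finite G] (H M : Subgroup G) (hHM : H ≤ M)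
    (hMN : M ≤ Subgroup.normalizer (H : Set G))
    (hmaxH : IsCoatom (H.subgroupOf M))
    (hB : ∀ g : G, g ∉ M → M ⊓ M.map (MulAut.conj g).toMonoidHom ≤ H) :
    ∃ N : Subgroup G, N.Normal ∧ H ≤ N ∧ N ⊓ M ≤ H ∧ commutator G ≤ N := by
  classical
  have hHn : (H.subgroupOf M).Normal :=
    (Subgroup.normal_subgroupOf_iff_le_normalizer hHM).mpr hMN
  have hcomm := quotient_comm_of_coatom (H.subgroupOf M) hmaxH
  letI : CommGroup (↥M ⧸ H.subgroupOf M) :=
    { QuotientGroup.Quotient.group (H.subgroupOf M) with mul_comm := hcomm }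
  obtain ⟨ϕ, hϕ⟩ : ∃ ϕ : ↥M →* ↥M ⧸ H.subgroupOf M, ϕ = QuotientGroup.mk' (H.subgroupOf M) :=
    ⟨_, rfl⟩
  have hϕ1 : ∀ (x : G) (hx : x ∈ M), x ∈ H → ϕ ⟨x, hx⟩ = 1 := by
    intro x hx hxH
    rw [hϕ]
    exact (QuotientGroup.eq_one_iff (N := H.subgroupOf M) (⟨x, hx⟩ : M)).mpr hxH
  have hϕ2 : ∀ (x : G) (hx : x ∈ M), ϕ ⟨x, hx⟩ = 1 → x ∈ H := by
    intro x hx h
    rw [hϕ] at h
    exact (QuotientGroup.eq_one_iff (N := H.subgroupOf M) (⟨x, hx⟩ : M)).mp h
  have hback : ∀ (t x : G), x ∈ H → t⁻¹ * x * t ∈ M → t⁻¹ * x * t ∈ H := by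
    intro t x hx hm
    by_cases ht : t ∈ M
    · have h1 := (Subgroup.mem_normalizer_iff.mp (hMN (M.inv_mem ht)) x).mp hx
      rw [inv_inv] at h1
      exact h1
    · have ht' : t⁻¹ ∉ M := fun h => ht (by simpa using M.inv_mem h)
      apply hB t⁻¹ ht'
      refine ⟨hm, ⟨x, hHM hx, ?_⟩⟩
      show t⁻¹ * x * t⁻¹⁻¹ = t⁻¹ * x * t
      rw [inv_inv]
  have hV1 : ∀ h ∈ H, MonoidHom.transfer ϕ h = 1 := by
    intro h hh
    letI : Fintype (Quotient (orbitRel (zpowers h) (G ⧸ M))) := Fintype.ofFinite _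
    rw [MonoidHom.transfer_eq_prod_quotient_orbitRel_zpowers_quot]
    apply Finset.prod_eq_one
    intro q _
    apply hϕ1
    exact hback _ _ (H.pow_mem hh _) (QuotientGroup.out_conj_pow_minimalPeriod_mem M h q.out)
  have hV2 : ∀ (m : G) (hm : m ∈ M), m ∉ H → MonoidHom.transfer ϕ m = ϕ ⟨m, hm⟩ := by
    intro m hm hmH
    letI : Fintype (Quotient (orbitRel (zpowers m) (G ⧸ M))) := Fintype.ofFinite _
    rw [MonoidHom.transfer_eq_prod_quotient_orbitRel_zpowers_quot]
    have hfix : m • (QuotientGroup.mk 1 : G ⧸ M) = QuotientGroup.mk 1 := by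
      rw [MulAction.Quotient.smul_mk, QuotientGroup.eq]
      simpa using hm
    have hfac : ∀ q : Quotient (orbitRel (zpowers m) (G ⧸ M)),
        q ≠ Quotient.mk'' (QuotientGroup.mk 1 : G ⧸ M) →
        ϕ ⟨q.out.out⁻¹ * m ^ Function.minimalPeriod (m • ·) q.out * q.out.out,
          QuotientGroup.out_conj_pow_minimalPeriod_mem M m q.out⟩ = 1 := by
      intro q hq
      have htM : q.out.out ∉ M := by
        intro ht
        apply hq
        have h1 : q.out = (QuotientGroup.mk 1 : G ⧸ M) := by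
          rw [← QuotientGroup.out_eq' q.out, QuotientGroup.eq]
          simpa using ht
        rw [← h1, Quotient.out_eq']
      have hmem := QuotientGroup.out_conj_pow_minimalPeriod_mem M m q.out
      apply hϕ1
      apply hback _ _ _ hmem
      apply hB q.out.out htM
      refine ⟨M.pow_mem hm _, ⟨_, hmem, ?_⟩⟩
      show q.out.out * (q.out.out⁻¹ * m ^ Function.minimalPeriod (m • ·) q.out * q.out.out) *
        q.out.out⁻¹ = m ^ Function.minimalPeriod (m • ·) q.out
      group
    rw [Finset.prod_eq_single (Quotient.mk'' (QuotientGroup.mk 1 : G ⧸ M))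
      (fun q _ hq => hfac q hq) (fun h => absurd (Finset.mem_univ _) h)]
    have hout : (Quotient.mk'' (QuotientGroup.mk 1 : G ⧸ M) :
        Quotient (orbitRel (zpowers m) (G ⧸ M))).out = (QuotientGroup.mk 1 : G ⧸ M) := by
      have h1 := Quotient.mk_out' (s₁ := orbitRel (zpowers m) (G ⧸ M))
        (QuotientGroup.mk 1 : G ⧸ M)
      obtain ⟨⟨z, hz⟩, hz2⟩ := h1
      obtain ⟨k, rfl⟩ := Subgroup.mem_zpowers_iff.mp hz
      rw [← hz2]
      show m ^ k • (QuotientGroup.mk 1 : G ⧸ M) = QuotientGroup.mk 1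
      rw [MulAction.Quotient.smul_mk, QuotientGroup.eq]
      simpa using M.zpow_mem hm k
    have hper : Function.minimalPeriod (m • ·) (QuotientGroup.mk 1 : G ⧸ M) = 1 :=
      Function.minimalPeriod_eq_one_iff_isFixedPt.mpr hfix
    obtain ⟨t, ht⟩ : ∃ t : G, t = (QuotientGroup.mk 1 : G ⧸ M).out := ⟨_, rfl⟩
    have htM : t ∈ M := by
      have h1 : (QuotientGroup.mk t : G ⧸ M) = QuotientGroup.mk 1 := by
        rw [ht]; exact QuotientGroup.out_eq' _
      rw [QuotientGroup.eq] at h1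
      have h2 := M.inv_mem h1
      simpa using h2
    have hgoal : ∀ (hmem : t⁻¹ * m ^ 1 * t ∈ M), ϕ ⟨t⁻¹ * m ^ 1 * t, hmem⟩ = ϕ ⟨m, hm⟩ := by
      intro hmem
      have e : (⟨t⁻¹ * m ^ 1 * t, hmem⟩ : M) = (⟨t, htM⟩ : M)⁻¹ * ⟨m, hm⟩ * ⟨t, htM⟩ := by
        apply Subtype.ext
        simp
      rw [e, map_mul, map_mul, map_inv, mul_comm (ϕ ⟨t, htM⟩)⁻¹, mul_assoc, inv_mul_cancel,
        mul_one]
    have hgen : ∀ (β : G ⧸ M), β = (QuotientGroup.mk 1 : G ⧸ M) →
        ∀ (hmem : β.out⁻¹ * m ^ Function.minimalPeriod (m • ·) β * β.out ∈ M),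
        ϕ ⟨β.out⁻¹ * m ^ Function.minimalPeriod (m • ·) β * β.out, hmem⟩ = ϕ ⟨m, hm⟩ := by
      intro β hβ
      subst hβ
      rw [hper, ← ht]
      exact hgoal
    exact hgen _ hout _
  refine ⟨(MonoidHom.transfer ϕ).ker, inferInstance, fun h hh => hV1 h hh, ?_,
    Abelianization.commutator_subset_ker _⟩
  intro x ⟨hxN, hxM⟩
  by_contra hxH
  have h1 : MonoidHom.transfer ϕ x = 1 := hxN
  rw [hV2 x hxM hxH] at h1
  exact hxH (hϕ2 x hxM h1)

theorem isCoatom_subgroupOf_of_prime_relIndex (H M : Subgroup G)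
    (hidx : (H.relIndex M).Prime) : IsCoatom (H.subgroupOf M) := by
  have hidx' : (H.subgroupOf M).index.Prime := hidx
  constructor
  · intro h
    rw [h, Subgroup.index_top] at hidx'
    exact Nat.not_prime_one hidx'
  · intro X hX
    have h1 := Subgroup.relIndex_mul_index hX.le
    have h2 : X.index ∣ (H.subgroupOf M).index := Dvd.intro_left _ h1
    rcases (Nat.dvd_prime hidx').mp h2 with h3 | h3
    · exact Subgroup.index_eq_one.mp h3
    · exfalso
      rw [h3] at h1
      have h4 : (H.subgroupOf M).relIndex X = 1 := by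
        have hpos : 0 < (H.subgroupOf M).index := hidx'.pos
        exact Nat.eq_of_mul_eq_mul_right hpos (by rw [h1, one_mul])
      rw [Subgroup.relIndex_eq_one] at h4
      exact absurd h4 (not_le_of_gt hX)

/-- In a nonabelian finite simple group, a normal subgroup of prime index of a maximal subgroup
generates the group together with one of its conjugates. -/
theorem simple_gen_two_conj [Finite G] [IsSimpleGroup G] (hG : ¬ IsMulCommutative G)
    (M H : Subgroup G) (hmaxM : IsCoatom M) (hHM : H ≤ M) (hHn : (H.subgroupOf M).Normal)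
    (hidx : (H.relIndex M).Prime) : ∃ g : G, H ⊔ H.map (MulAut.conj g).toMonoidHom = ⊤ := by
  by_contra hcon
  push Not at hcon
  obtain ⟨q, hqdef⟩ : ∃ q, q = H.relIndex M := ⟨_, rfl⟩
  have hqp : q.Prime := hqdef ▸ hidx
  haveI : Fact q.Prime := ⟨hqp⟩
  have hMN : M ≤ Subgroup.normalizer (H : Set G) :=
    (Subgroup.normal_subgroupOf_iff_le_normalizer hHM).mp hHn
  have hmaxH : IsCoatom (H.subgroupOf M) := isCoatom_subgroupOf_of_prime_relIndex H M hidx
  have hHneM : H ≠ M := by
    intro h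
    apply hmaxH.1
    rw [Subgroup.subgroupOf_eq_top, h]
  have hMtop : M ≠ ⊤ := hmaxM.1
  have hHtop : H ≠ ⊤ := by
    intro h
    apply hMtop
    rw [eq_top_iff, ← h]
    exact hHM
  have hsimple : ∀ N : Subgroup G, N.Normal → N = ⊥ ∨ N = ⊤ := fun N hN => hN.eq_bot_or_eq_top
  have hbetween : ∀ X : Subgroup G, H ≤ X → X ≤ M → X = H ∨ X = M := by
    intro X hHX hXM
    have h1 : H.subgroupOf M ≤ X.subgroupOf M := fun y hy => hHX hy
    rcases eq_or_lt_of_le h1 with h2 | h2
    · left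
      rw [← Subgroup.map_subgroupOf_eq_of_le hXM, ← h2, Subgroup.map_subgroupOf_eq_of_le hHM]
    · right
      have h3 := hmaxH.2 _ h2
      rw [Subgroup.subgroupOf_eq_top] at h3
      exact le_antisymm hXM h3
  -- Step 1: some `M ∩ M^g` is not inside `H`
  have h1 : ∃ g : G, g ∉ M ∧ ¬ (M ⊓ M.map (MulAut.conj g).toMonoidHom ≤ H) := by
    by_contra hB
    push Not at hB
    obtain ⟨N, hNn, hHN, hNM, hNc⟩ := exists_normal_of_inter_le H M hHM hMN hmaxH hB
    rcases hsimple N hNn with h | h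
    · apply hG
      refine ⟨⟨fun a b => ?_⟩⟩
      have h2 : ⁅a, b⁆ ∈ commutator G :=
        Subgroup.commutator_mem_commutator (Subgroup.mem_top a) (Subgroup.mem_top b)
      have h3 := hNc h2
      rw [h, Subgroup.mem_bot] at h3
      exact (commutatorElement_eq_one_iff_mul_comm.mp h3)
    · rw [h, top_inf_eq] at hNM
      exact hHneM (le_antisymm hHM hNM)
  obtain ⟨g, hgM, hD⟩ := h1
  obtain ⟨K, hK⟩ : ∃ K : Subgroup G, K = H.map (MulAut.conj g).toMonoidHom := ⟨_, rfl⟩
  obtain ⟨D, hDdef⟩ : ∃ D : Subgroup G, D = M ⊓ M.map (MulAut.conj g).toMonoidHom := ⟨_, rfl⟩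
  rw [← hDdef] at hD
  have hDM : D ≤ M := by rw [hDdef]; exact inf_le_left
  have hsup : H ⊔ D = M := by
    rcases hbetween (H ⊔ D) le_sup_left (sup_le hHM hDM) with h | h
    · exfalso
      apply hD
      rw [← h]
      exact le_sup_right
    · exact h
  -- Claim A: `M^g` is not inside `M`
  have hA : ¬ M.map (MulAut.conj g).toMonoidHom ≤ M := by
    intro hle
    have hgN : g ∈ Subgroup.normalizer (M : Set G) :=
      mem_normalizer_of_conj_mem5 M g (fun a ha => hle ⟨a, ha, rfl⟩)
    have hNtop : Subgroup.normalizer (M : Set G) = ⊤ := by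
      apply hmaxM.2
      apply lt_of_le_of_ne Subgroup.le_normalizer
      intro h
      apply hgM
      rw [h]
      exact hgN
    have hMn : M.Normal := Subgroup.normalizer_eq_top_iff.mp hNtop
    rcases hsimple M hMn with h | h
    · apply hD
      intro d hd
      have hd' := hDM hd
      rw [h, Subgroup.mem_bot] at hd'
      rw [hd']
      exact H.one_mem
    · exact hMtop h
  -- Step 2: `K ≤ M`
  have hKM : K ≤ M := by
    by_contra hKM
    have hDL : D ≤ Subgroup.normalizer ((H ⊔ K : Subgroup G) : Set G) := by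
      intro d hd
      rw [hDdef] at hd
      obtain ⟨hd1, m, hm, rfl⟩ := hd
      apply mem_normalizer_sup5
      · exact hMN hd1
      · rw [hK]
        exact conj_mem_normalizer_map H g m (hMN hm)
    have hHL : H ≤ Subgroup.normalizer ((H ⊔ K : Subgroup G) : Set G) :=
      le_trans le_sup_left Subgroup.le_normalizer
    have hMNL : M ≤ Subgroup.normalizer ((H ⊔ K : Subgroup G) : Set G) := by
      rw [← hsup]
      exact sup_le hHL hDL
    have hNL : Subgroup.normalizer ((H ⊔ K : Subgroup G) : Set G) = ⊤ := by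
      apply hmaxM.2
      apply lt_of_le_of_ne hMNL
      intro h
      apply hKM
      rw [h]
      exact le_trans le_sup_right Subgroup.le_normalizer
    have hLn : (H ⊔ K).Normal := Subgroup.normalizer_eq_top_iff.mp hNL
    rcases hsimple _ hLn with h | h
    · apply hKM
      have h2 : K ≤ H ⊔ K := le_sup_right
      rw [h] at h2
      exact le_trans h2 bot_le
    · apply hcon g
      rw [← hK]
      exact h
  -- Step 3
  have hpowq : ∀ m ∈ M, m ^ q ∈ H := by
    intro m hm
    have h2 := Subgroup.pow_index_mem (H.subgroupOf M) (⟨m, hm⟩ : M)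
    have h3 : (H.subgroupOf M).index = q := by rw [hqdef]; rfl
    rw [h3] at h2
    exact h2
  have hKq : ∀ y ∈ K, (orderOf y).Coprime q → y ∈ H := by
    intro y hy hyo
    have h2 : y ^ q ∈ H := hpowq y (hKM hy)
    have h3 : orderOf (y ^ q) = orderOf y := Nat.Coprime.orderOf_pow hyo
    have hle : Subgroup.zpowers (y ^ q) ≤ Subgroup.zpowers y := by
      rw [Subgroup.zpowers_le]
      exact Subgroup.pow_mem _ (Subgroup.mem_zpowers y) q
    have hcard : Nat.card (Subgroup.zpowers y) ≤ Nat.card (Subgroup.zpowers (y ^ q)) := by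
      rw [Nat.card_zpowers, Nat.card_zpowers, h3]
    have heq := Subgroup.eq_of_le_of_card_ge hle hcard
    have h4 : y ∈ Subgroup.zpowers (y ^ q) := by rw [heq]; exact Subgroup.mem_zpowers y
    exact (Subgroup.zpowers_le.mpr h2) h4
  obtain ⟨Y, hY⟩ : ∃ Y : Subgroup G,
      Y = Subgroup.closure {y : G | y ∈ H ∧ (orderOf y).Coprime q} := ⟨_, rfl⟩
  have hYH : Y ≤ H := by
    rw [hY, Subgroup.closure_le]
    rintro y ⟨hy, -⟩
    exact hy
  have hconjY : ∀ x : G, (∀ y ∈ H, (orderOf y).Coprime q → x * y * x⁻¹ ∈ H) →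
      x ∈ Subgroup.normalizer (Y : Set G) := by
    intro x hx
    apply mem_normalizer_of_conj_mem5
    intro a ha
    have h2 : Y.map (MulAut.conj x).toMonoidHom ≤ Y := by
      rw [hY, MonoidHom.map_closure]
      apply Subgroup.closure_mono
      rintro _ ⟨y, ⟨hyH, hyo⟩, rfl⟩
      refine ⟨hx y hyH hyo, ?_⟩
      have h3 := (MulAut.conj x).orderOf_eq y
      have h4 : orderOf (x * y * x⁻¹) = orderOf y := h3
      show (orderOf (x * y * x⁻¹)).Coprime q
      rw [h4]
      exact hyo
    exact h2 ⟨a, ha, rfl⟩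
  have hMY : M ≤ Subgroup.normalizer (Y : Set G) := by
    intro m hm
    apply hconjY
    intro y hy _
    exact (Subgroup.mem_normalizer_iff.mp (hMN hm) y).mp hy
  have hgY : g ∈ Subgroup.normalizer (Y : Set G) := by
    apply hconjY
    intro y hy hyo
    apply hKq
    · rw [hK]; exact ⟨y, hy, rfl⟩
    · have h3 := (MulAut.conj g).orderOf_eq y
      have h4 : orderOf (g * y * g⁻¹) = orderOf y := h3
      rw [h4]
      exact hyo
  have hNY : Subgroup.normalizer (Y : Set G) = ⊤ := by
    apply hmaxM.2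
    apply lt_of_le_of_ne hMY
    intro h
    apply hgM
    rw [h]
    exact hgY
  have hYn : Y.Normal := Subgroup.normalizer_eq_top_iff.mp hNY
  have hYbot : Y = ⊥ := by
    rcases hsimple Y hYn with h | h
    · exact h
    · exfalso
      apply hHtop
      rw [eq_top_iff, ← h]
      exact hYH
  have hHq : IsPGroup q H := by
    apply isPGroup_of_no_pprime_elements
    intro c hc k hk hck
    have h2 : orderOf c ∣ k := orderOf_dvd_of_pow_eq_one hck
    have h3 : (orderOf c).Coprime q := Nat.Coprime.coprime_dvd_left h2 hk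
    have h4 : c ∈ Y := by
      rw [hY]
      exact Subgroup.subset_closure ⟨hc, h3⟩
    rw [hYbot, Subgroup.mem_bot] at h4
    exact h4
  have hMq : IsPGroup q M := by
    rintro ⟨m, hm⟩
    obtain ⟨k, hk⟩ := hHq ⟨m ^ q, hpowq m hm⟩
    refine ⟨k + 1, Subtype.ext ?_⟩
    have h2 : (m ^ q) ^ q ^ k = 1 := congrArg Subtype.val hk
    show m ^ q ^ (k + 1) = 1
    rw [pow_succ, mul_comm, pow_mul]
    exact h2
  have hKneM : K ≠ M := by
    intro h
    apply hHneM
    apply Subgroup.eq_of_le_of_card_ge hHM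
    rw [← h, hK, Subgroup.card_map_of_injective (MulAut.conj g).injective]
  obtain ⟨x, hxM, hxN, hxK⟩ := exists_mem_normalizer_not_mem5 K M hMq (lt_of_le_of_ne hKM hKneM)
  -- `g⁻¹ x g` normalizes `H`
  have hx' : g⁻¹ * x * g ∈ Subgroup.normalizer (H : Set G) := by
    have h2 := conj_mem_normalizer_map K g⁻¹ x hxN
    rw [inv_inv] at h2
    have h3 : K.map (MulAut.conj g⁻¹).toMonoidHom = H := by
      rw [hK, Subgroup.map_map]
      ext z
      constructor
      · rintro ⟨y, hy, rfl⟩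
        have e : ((MulAut.conj g⁻¹).toMonoidHom.comp (MulAut.conj g).toMonoidHom) y = y := by
          show g⁻¹ * (g * y * g⁻¹) * g⁻¹⁻¹ = y
          group
        rw [e]; exact hy
      · intro hz
        refine ⟨z, hz, ?_⟩
        show g⁻¹ * (g * z * g⁻¹) * g⁻¹⁻¹ = z
        group
    rw [h3] at h2
    exact h2
  have hx'H : g⁻¹ * x * g ∉ H := by
    intro h
    apply hxK
    rw [hK]
    refine ⟨g⁻¹ * x * g, h, ?_⟩
    show g * (g⁻¹ * x * g) * g⁻¹ = x
    group
  rcases eq_or_lt_of_le hMN with hN | hN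
  · -- `N_G(H) = M`
    have hx'M : g⁻¹ * x * g ∈ M := by rw [hN]; exact hx'
    have hxD : x ∈ D := by
      rw [hDdef]
      refine ⟨hxM, ⟨g⁻¹ * x * g, hx'M, ?_⟩⟩
      show g * (g⁻¹ * x * g) * g⁻¹ = x
      group
    have hD'M : D.map (MulAut.conj g⁻¹).toMonoidHom ≤ M := by
      rintro _ ⟨d, hd, rfl⟩
      rw [hDdef] at hd
      obtain ⟨-, m, hm, rfl⟩ := hd
      show g⁻¹ * (g * m * g⁻¹) * g⁻¹⁻¹ ∈ M
      have e : g⁻¹ * (g * m * g⁻¹) * g⁻¹⁻¹ = m := by group
      rw [e]; exact hm
    have hsup2 : H ⊔ D.map (MulAut.conj g⁻¹).toMonoidHom = M := by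
      rcases hbetween (H ⊔ D.map (MulAut.conj g⁻¹).toMonoidHom) le_sup_left
        (sup_le hHM hD'M) with h | h
      · exfalso
        apply hx'H
        rw [← h]
        refine (le_sup_right : D.map (MulAut.conj g⁻¹).toMonoidHom ≤
          H ⊔ D.map (MulAut.conj g⁻¹).toMonoidHom) ⟨x, hxD, ?_⟩
        show g⁻¹ * x * g⁻¹⁻¹ = g⁻¹ * x * g
        rw [inv_inv]
      · exact h
    apply hA
    have e0 : M.map (MulAut.conj g).toMonoidHom =
        (H ⊔ D.map (MulAut.conj g⁻¹).toMonoidHom).map (MulAut.conj g).toMonoidHom := by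
      rw [hsup2]
    rw [e0, Subgroup.map_sup]
    apply sup_le
    · rw [← hK]; exact hKM
    · rintro _ ⟨_, ⟨d, hd, rfl⟩, rfl⟩
      have e : (MulAut.conj g).toMonoidHom ((MulAut.conj g⁻¹).toMonoidHom d) = d := by
        show g * (g⁻¹ * d * g⁻¹⁻¹) * g⁻¹ = d
        group
      rw [e]
      exact hDM hd
  · -- `H` is normal in `G`
    have h2 := hmaxM.2 _ hN
    have hn : H.Normal := Subgroup.normalizer_eq_top_iff.mp h2
    rcases hsimple H hn with h | h
    · rcases hbetween D (by rw [h]; exact bot_le) hDM with h3 | h3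
      · apply hD
        rw [h3]
      · apply hA
        have h4 : M ≤ M.map (MulAut.conj g).toMonoidHom := by
          intro y hy
          have hyD : y ∈ D := by rw [h3]; exact hy
          rw [hDdef] at hyD
          exact hyD.2
        have h5 : Nat.card (M.map (MulAut.conj g).toMonoidHom) ≤ Nat.card M := by
          rw [Subgroup.card_map_of_injective (MulAut.conj g).injective]
        exact le_of_eq (Subgroup.eq_of_le_of_card_ge h4 h5).symm
    · exact hHtop h

end

end Cfsg.Agent.Lib.Helper5
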