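import Mathlib
import Cfsg.Prelude
import Cfsg.Agent.Lib.Helper2.PLocal2

set_option autoImplicit false

namespace Cfsg.Agent.Lib.Helper5

open Cfsg.Agent.Lib.Helper2

universe u

/-- If `C₀ ⊴ B`, `B` a `p`-group, and `F*(N(C₀)) = O_p(N(C₀))`, then `F*(N(B)) = O_p(N(B))`. -/
theorem genFitting_normalizer_of_normal_sub5 {G : Type u} [Group G] [Finite G] (p : ℕ)
    [hp : Fact p.Prime]
    (T C₀ C N : Subgroup G) (hT : IsPGroup p ↥T) (hCT : C₀ ≤ T) (hCn : (C₀.subgroupOf T).Normal)
    (hCdef : C = Subgroup.normalizer (C₀ : Set G)) (hNdef : N = Subgroup.normalizer (T : Set G))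
    (hC : Cfsg.generalizedFittingSubgroup ↥C = Cfsg.pCore p ↥C) :
    Cfsg.generalizedFittingSubgroup ↥N = Cfsg.pCore p ↥N := by
  have hTC : T ≤ C := by
    rw [hCdef]
    exact (Subgroup.normal_subgroupOf_iff_le_normalizer hCT).mp hCn
  have hTN : T ≤ N := by rw [hNdef]; exact Subgroup.le_normalizer
  -- the local subgroup inside C
  have hM' := genFitting_local_eq_pCore p hC (T.subgroupOf C) (N.subgroupOf C)
    (hT.comap_of_injective C.subtype C.subtype_injective) (Subgroup.comap_mono hTN)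
    (by
      intro m hm
      rw [Subgroup.mem_subgroupOf, hNdef] at hm
      rw [Subgroup.mem_normalizer_iff]
      intro x
      rw [Subgroup.mem_subgroupOf, Subgroup.mem_subgroupOf]
      exact Subgroup.mem_normalizer_iff.mp hm (x : G))
    (by
      rintro c ⟨-, hc⟩
      rw [Subgroup.mem_subgroupOf, hNdef]
      apply Subgroup.centralizer_le_normalizer
      rw [Subgroup.mem_centralizer_iff]
      intro x hx
      have := Subgroup.mem_centralizer_iff.mp hc ⟨x, hTC hx⟩ (Subgroup.mem_subgroupOf.mpr hx)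
      exact congrArg Subtype.val this)
  obtain ⟨hM1, hM2⟩ := no_comp_of_genFitting_eq_pCore p hM'
  -- transport to the subgroup of N
  have e1 : ↥((N ⊓ C).subgroupOf C) ≃* ↥(N ⊓ C) := Subgroup.subgroupOfEquivOfLe inf_le_right
  have e2 : ↥((N ⊓ C).subgroupOf N) ≃* ↥(N ⊓ C) := Subgroup.subgroupOfEquivOfLe inf_le_left
  have h1 : (N ⊓ C).subgroupOf C = N.subgroupOf C := Subgroup.inf_subgroupOf_right N C
  have h2 : (N ⊓ C).subgroupOf N = C.subgroupOf N := Subgroup.inf_subgroupOf_left C N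
  have e : ↥(N.subgroupOf C) ≃* ↥(C.subgroupOf N) :=
    (MulEquiv.subgroupCongr h1.symm).trans (e1.trans (e2.symm.trans (MulEquiv.subgroupCongr h2)))
  have hR1 : Cfsg.pPrimeCore p ↥(C.subgroupOf N) = ⊥ := pPrimeCore_eq_bot_of_mulEquiv p e hM1
  have hR2 : ∀ K : Subgroup ↥(C.subgroupOf N), ¬ Cfsg.IsComponent K := no_comp_of_mulEquiv e hM2
  have hT' : T.subgroupOf N ≤ Cfsg.pCore p ↥N :=
    le_sSup ⟨(Subgroup.normal_subgroupOf_iff_le_normalizer hTN).mpr (le_of_eq hNdef),
      hT.comap_of_injective N.subtype N.subtype_injective⟩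
  have hcomm : ∀ l : ↥N, QuotientGroup.mk' (Cfsg.pPrimeCore p ↥N) l ∈
      Cfsg.layer (↥N ⧸ Cfsg.pPrimeCore p ↥N) → l ∈ C.subgroupOf N := by
    intro l hl
    rw [Subgroup.mem_subgroupOf, hCdef]
    apply Subgroup.centralizer_le_normalizer
    rw [Subgroup.mem_centralizer_iff]
    intro c hc
    have := pprime_layer_commute_pCore p l ⟨c, hTN (hCT hc)⟩ hl
      (hT' (Subgroup.mem_subgroupOf.mpr (hCT hc)))
    exact (congrArg Subtype.val this).symm
  apply genFitting_eq_pCore_of_no_comp p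
  · have hDR : Cfsg.pPrimeCore p ↥N ≤ C.subgroupOf N := by
      intro d hd
      apply hcomm d
      have h3 : QuotientGroup.mk' (Cfsg.pPrimeCore p ↥N) d = 1 := (QuotientGroup.eq_one_iff d).mpr hd
      rw [h3]
      exact Subgroup.one_mem _
    have hX : (Cfsg.pPrimeCore p ↥N).subgroupOf (C.subgroupOf N) ≤
        Cfsg.pPrimeCore p ↥(C.subgroupOf N) := by
      refine le_sSup ⟨Subgroup.normal_subgroupOf, ?_⟩
      rw [Nat.card_congr (Subgroup.subgroupOfEquivOfLe hDR).toEquiv]
      exact pPrimeCore_card_coprime p _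
    rw [hR1] at hX
    rw [eq_bot_iff]
    intro d hd
    have h4 := hX (show (⟨d, hDR hd⟩ : ↥(C.subgroupOf N)) ∈
      (Cfsg.pPrimeCore p ↥N).subgroupOf (C.subgroupOf N) from hd)
    rw [Subgroup.mem_bot] at h4 ⊢
    exact congrArg Subtype.val h4
  · intro K hK
    have hKR : K ≤ C.subgroupOf N := fun k hk =>
      hcomm k (layer_map_quotient_le _ ⟨k, component_le_layer K hK hk, rfl⟩)
    exact hR2 _ (isComponent_subgroupOf K _ hKR hK)

/-- If `F*(Y) = O_p(Y)` and `M ⊴ Y` then `F*(M) = O_p(M)`. -/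
theorem genFitting_normal_sub5 {Y : Type u} [Group Y] [Finite Y] (p : ℕ) [hp : Fact p.Prime]
    (M : Subgroup Y) [hM : M.Normal]
    (h : Cfsg.generalizedFittingSubgroup Y = Cfsg.pCore p Y) :
    Cfsg.generalizedFittingSubgroup ↥M = Cfsg.pCore p ↥M := by
  obtain ⟨h1, h2⟩ := no_comp_of_genFitting_eq_pCore p h
  apply genFitting_eq_pCore_of_no_comp p
  · haveI : (Cfsg.pPrimeCore p ↥M).Characteristic := pPrimeCore_characteristic' p ↥M
    have hn : ((Cfsg.pPrimeCore p ↥M).map M.subtype).Normal :=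
      ConjAct.normal_of_characteristic_of_normal
    have hle : (Cfsg.pPrimeCore p ↥M).map M.subtype ≤ Cfsg.pPrimeCore p Y := by
      refine le_sSup ⟨hn, ?_⟩
      rw [Subgroup.card_map_of_injective M.subtype_injective]
      exact pPrimeCore_card_coprime p _
    rw [h1, le_bot_iff, Subgroup.map_eq_bot_iff_of_injective _ M.subtype_injective] at hle
    exact hle
  · intro K hK
    exact h2 _ (isComponent_map_subtype M (Subgroup.Normal.isSubnormal hM) K hK)

end Cfsg.Agent.Lib.Helper5
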