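import Mathlib
import Cfsg.Agent.Lib.Helper7.SylowConj
import Cfsg.Agent.Lib.Helper5.PGroupBasics

set_option autoImplicit false

namespace Cfsg.Agent.Lib.Helper5

theorem card_dvd_of_free5 (H : Type*) [Group H] [Finite H] (X : Type*) [Finite X] [MulAction H X]
    (hfree : ∀ (h : H) (x : X), h • x = x → h = 1) : Nat.card H ∣ Nat.card X := by
  classical
  haveI := Fintype.ofFinite (MulAction.orbitRel.Quotient H X)
  have e := MulAction.selfEquivSigmaOrbitsQuotientStabilizer H X
  rw [Nat.card_congr e, Nat.card_sigma]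
  apply Finset.dvd_sum
  intro ω _
  have h2 : MulAction.stabilizer H (Quotient.out ω) = ⊥ := by
    rw [eq_bot_iff]; intro h hh; exact Subgroup.mem_bot.mpr (hfree h _ hh)
  rw [h2]
  have h3 : Nat.card (H ⧸ (⊥ : Subgroup H)) = Nat.card H := by
    have := Subgroup.index_bot (G := H)
    exact this
  rw [h3]

theorem sylow_card_of_le5 {G : Type*} [Group G] [Finite G] {p : ℕ} [Fact p.Prime]
    (P : Sylow p G) (K : Subgroup G) (h : (P : Subgroup G) ≤ K) :
    Nat.card (P : Subgroup G) = p ^ (Nat.card K).factorization p := by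
  have hp : p.Prime := Fact.out
  have h1 : Nat.card (P : Subgroup G) = p ^ (Nat.card G).factorization p := Sylow.card_eq_multiplicity P
  rw [h1]
  congr 1
  apply le_antisymm
  · have h2 : p ^ (Nat.card G).factorization p ∣ Nat.card K := by
      rw [← h1]; exact Subgroup.card_dvd_of_le h
    exact (hp.pow_dvd_iff_le_factorization Nat.card_pos.ne').mp h2
  · have h3 : Nat.card K ∣ Nat.card G := Subgroup.card_subgroup_dvd_card K
    exact (Nat.factorization_le_iff_dvd Nat.card_pos.ne' Nat.card_pos.ne').mpr h3 p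

section
variable {G : Type*} [Group G] [Finite G] {Ω : Type*} [Fintype Ω] [MulAction G Ω]

theorem fixity_center5 [FaithfulSMul G Ω] (htr : MulAction.IsPretransitive G Ω) (k : ℕ)
    (hex : ∃ g : G, g ≠ 1 ∧ Nat.card (MulAction.fixedBy Ω g) = k) :
    Nat.card (Subgroup.center G) ∣ k := by
  obtain ⟨g, hg1, hgk⟩ := hex
  let S : SubMulAction (Subgroup.center G) Ω :=
    { carrier := MulAction.fixedBy Ω g
      smul_mem' := by
        intro z x hx
        rw [MulAction.mem_fixedBy] at hx ⊢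
        show g • ((z : G) • x) = (z : G) • x
        rw [← mul_smul, (Subgroup.mem_center_iff.mp z.2 g), mul_smul, hx] }
  have hS : Nat.card S = k := by rw [← hgk]; rfl
  rw [← hS]
  apply card_dvd_of_free5
  intro z x hzx
  have hzx' : (z : G) • (x : Ω) = x := congrArg Subtype.val hzx
  apply Subtype.ext
  show (z : G) = 1
  apply FaithfulSMul.eq_of_smul_eq_smul (α := Ω)
  intro β
  obtain ⟨y, rfl⟩ := MulAction.exists_smul_eq G (x : Ω) β
  rw [one_smul, ← mul_smul, ← (Subgroup.mem_center_iff.mp z.2 y), mul_smul, hzx']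

theorem fixity_prime5 (htr : MulAction.IsPretransitive G Ω) (k : ℕ)
    (hfix : ∀ g : G, g ≠ 1 → Nat.card (MulAction.fixedBy Ω g) ≤ k)
    (p : ℕ) (hp : p.Prime) (hkp : k < p) (α : Ω)
    (hdvd : p ∣ Nat.card (MulAction.stabilizer G α)) :
    ¬ p ∣ (MulAction.stabilizer G α).index := by
  haveI : Fact p.Prime := ⟨hp⟩
  obtain ⟨h, hh⟩ := exists_prime_orderOf_dvd_card' p hdvd
  have hh' : orderOf (h : G) = p := by rw [Subgroup.orderOf_coe]; exact hh
  have hh1 : (h : G) ≠ 1 := by
    intro h1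
    rw [h1, orderOf_one] at hh'
    exact hp.one_lt.ne hh'
  have hP : IsPGroup p (Subgroup.zpowers (h : G)) := by
    apply IsPGroup.of_card (n := 1)
    rw [Nat.card_zpowers, hh', pow_one]
  have hmod := hP.card_modEq_card_fixedPoints Ω
  rw [MulAction.index_stabilizer_of_transitive]
  intro hdvdΩ
  have h0 : Nat.card (MulAction.fixedPoints (Subgroup.zpowers (h : G)) Ω) % p = 0 := by
    rw [← hmod]; exact Nat.mod_eq_zero_of_dvd hdvdΩ
  have hle : Nat.card (MulAction.fixedPoints (Subgroup.zpowers (h : G)) Ω) ≤ k := by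
    refine le_trans ?_ (hfix _ hh1)
    rw [Nat.card_coe_set_eq, Nat.card_coe_set_eq]
    apply Set.ncard_le_ncard _ (Set.toFinite _)
    intro x hx
    rw [MulAction.mem_fixedBy]
    exact hx ⟨(h : G), Subgroup.mem_zpowers _⟩
  have hpos : 0 < Nat.card (MulAction.fixedPoints (Subgroup.zpowers (h : G)) Ω) := by
    rw [Nat.card_pos_iff]
    refine ⟨⟨⟨α, ?_⟩⟩, Set.toFinite _ |>.to_subtype⟩
    rintro ⟨y, hy⟩
    rw [Subgroup.mem_zpowers_iff] at hy
    obtain ⟨n, rfl⟩ := hy
    show ((h : G) ^ n) • α = α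
    have : ((h : G) ^ n) ∈ MulAction.stabilizer G α := zpow_mem h.2 n
    exact this
  have hlt : Nat.card (MulAction.fixedPoints (Subgroup.zpowers (h : G)) Ω) < p := lt_of_le_of_lt hle hkp
  rw [Nat.mod_eq_of_lt hlt] at h0
  omega

theorem fixity_two_even5 (htr : MulAction.IsPretransitive G Ω)
    (hfix : ∀ g : G, g ≠ 1 → Nat.card (MulAction.fixedBy Ω g) ≤ 2)
    (hex : ∃ g : G, g ≠ 1 ∧ Nat.card (MulAction.fixedBy Ω g) = 2) : 2 ∣ Nat.card G := by
  by_contra hodd
  have hswap : ∀ (x : G) (α β : Ω), x • α = β → x • β = α → α = β := by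
    intro x α β h1 h2
    have hox : ¬ 2 ∣ orderOf x := fun h => hodd (h.trans (orderOf_dvd_natCard x))
    obtain ⟨m, hm⟩ : ∃ m, orderOf x = 2 * m + 1 := ⟨orderOf x / 2, by omega⟩
    have h3 : x ^ 2 ∈ MulAction.stabilizer G α := by
      rw [MulAction.mem_stabilizer_iff, pow_two, mul_smul, h1, h2]
    have h4 : (x ^ 2) ^ m ∈ MulAction.stabilizer G α := pow_mem h3 m
    have h5 : x ^ (2 * m + 1) = 1 := by rw [← hm]; exact pow_orderOf_eq_one x
    have h6 : x ^ (2 * m + 1) • α = β := by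
      rw [pow_succ', mul_smul, pow_mul, MulAction.mem_stabilizer_iff.mp h4, h1]
    rw [h5, one_smul] at h6
    exact h6
  obtain ⟨g, hg1, hg2⟩ := hex
  rw [Nat.card_coe_set_eq, Set.ncard_eq_two] at hg2
  obtain ⟨α, β, hαβ, hFg⟩ := hg2
  have hgα : g • α = α := by
    have : α ∈ MulAction.fixedBy Ω g := by rw [hFg]; simp
    exact this
  have hgβ : g • β = β := by
    have : β ∈ MulAction.fixedBy Ω g := by rw [hFg]; simp
    exact this
  have hFix : ∀ h : G, h ≠ 1 → h • α = α → h • β = β → MulAction.fixedBy Ω h = {α, β} := by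
    intro h hh1 hα hβ
    symm
    apply Set.eq_of_subset_of_ncard_le
    · intro x hx
      rcases hx with rfl | hx
      · exact hα
      · rw [Set.mem_singleton_iff] at hx
        rw [hx]; exact hβ
    · rw [Set.ncard_pair hαβ, ← Nat.card_coe_set_eq]; exact hfix h hh1
    · exact Set.toFinite _
  have hB' : ∀ x : G, x • α ∈ ({α, β} : Set Ω) → x • β ∈ ({α, β} : Set Ω) →
      x • α = α ∧ x • β = β := by
    intro x h1 h2
    rw [Set.mem_insert_iff, Set.mem_singleton_iff] at h1 h2
    rcases h1 with h1 | h1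
    · rcases h2 with h2 | h2
      · exfalso; apply hαβ; exact MulAction.injective x (h1.trans h2.symm)
      · exact ⟨h1, h2⟩
    · rcases h2 with h2 | h2
      · exact absurd (hswap x α β h1 h2) hαβ
      · exfalso; apply hαβ; exact MulAction.injective x (h1.trans h2.symm)
  have hB : ∀ (h : G), h ≠ 1 → h • α = α → h • β = β → ∀ x : G, x * h = h * x →
      x • α = α ∧ x • β = β := by
    intro h hh1 hα hβ x hx
    have hF := hFix h hh1 hα hβ
    have h1 : x • α ∈ MulAction.fixedBy Ω h := by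
      rw [MulAction.mem_fixedBy, ← mul_smul, ← hx, mul_smul, hα]
    have h2 : x • β ∈ MulAction.fixedBy Ω h := by
      rw [MulAction.mem_fixedBy, ← mul_smul, ← hx, mul_smul, hβ]
    rw [hF] at h1 h2
    exact hB' x h1 h2
  have hog : orderOf g ≠ 1 := by rwa [Ne, orderOf_eq_one_iff]
  obtain ⟨p, hp, hpd⟩ := Nat.exists_prime_and_dvd hog
  haveI : Fact p.Prime := ⟨hp⟩
  obtain ⟨g', hg'def⟩ : ∃ g', g' = g ^ (orderOf g / p) := ⟨_, rfl⟩
  have hg'o : orderOf g' = p := by
    rw [hg'def]; exact orderOf_pow_orderOf_div (orderOf_pos g).ne' hpd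
  have hg'1 : g' ≠ 1 := by
    intro h; rw [h, orderOf_one] at hg'o; exact hp.one_lt.ne hg'o
  have hg'α : g' • α = α := by
    have : g' ∈ MulAction.stabilizer G α := by
      rw [hg'def]; exact pow_mem (show g ∈ MulAction.stabilizer G α from hgα) _
    exact this
  have hg'β : g' • β = β := by
    have : g' ∈ MulAction.stabilizer G β := by
      rw [hg'def]; exact pow_mem (show g ∈ MulAction.stabilizer G β from hgβ) _
    exact this
  have hPg : IsPGroup p (Subgroup.zpowers g') :=
    IsPGroup.of_card (n := 1) (by rw [Nat.card_zpowers, hg'o, pow_one])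
  obtain ⟨P, hP⟩ := hPg.exists_le_sylow
  have hg'P : g' ∈ (P : Subgroup G) := hP (Subgroup.mem_zpowers g')
  haveI : Nontrivial (P : Subgroup G) :=
    ⟨⟨⟨g', hg'P⟩, 1, fun h => hg'1 (congrArg Subtype.val h)⟩⟩
  haveI : Nontrivial (Subgroup.center (P : Subgroup G)) := P.2.center_nontrivial
  obtain ⟨z, hz1⟩ := exists_ne (1 : Subgroup.center (P : Subgroup G))
  have hzG1 : ((z : (P : Subgroup G)) : G) ≠ 1 := by
    intro h
    apply hz1
    apply Subtype.ext
    apply Subtype.ext
    exact h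
  have hzc : ∀ y : (P : Subgroup G), (y : G) * ((z : (P : Subgroup G)) : G) =
      ((z : (P : Subgroup G)) : G) * (y : G) := by
    intro y
    have := Subgroup.mem_center_iff.mp z.2 y
    exact congrArg Subtype.val this
  have hzfix := hB g' hg'1 hg'α hg'β ((z : (P : Subgroup G)) : G) (hzc ⟨g', hg'P⟩).symm
  have hPfix : ∀ x ∈ (P : Subgroup G), x • α = α ∧ x • β = β := by
    intro x hx
    exact hB _ hzG1 hzfix.1 hzfix.2 x (hzc ⟨x, hx⟩)
  have hNfix : ∀ n ∈ Subgroup.normalizer ((P : Subgroup G) : Set G), n • α = α ∧ n • β = β := by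
    intro n hn
    have hF := hFix g' hg'1 hg'α hg'β
    have hn' : n⁻¹ * g' * n ∈ (P : Subgroup G) := by
      have := (Subgroup.mem_normalizer_iff.mp (inv_mem hn) g').mp hg'P
      simpa using this
    have h1 : n • α ∈ MulAction.fixedBy Ω g' := by
      rw [MulAction.mem_fixedBy]
      have h0 := (hPfix _ hn').1
      calc g' • n • α = n • ((n⁻¹ * g' * n) • α) := by simp [mul_smul]
        _ = n • α := by rw [h0]
    have h2 : n • β ∈ MulAction.fixedBy Ω g' := by
      rw [MulAction.mem_fixedBy]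
      have h0 := (hPfix _ hn').2
      calc g' • n • β = n • ((n⁻¹ * g' * n) • β) := by simp [mul_smul]
        _ = n • β := by rw [h0]
    rw [hF] at h1 h2
    exact hB' n h1 h2
  obtain ⟨x, hx⟩ := MulAction.exists_smul_eq G α β
  have hxinv : x⁻¹ • β = α := by rw [← hx, inv_smul_smul]
  have hPα : (P : Subgroup G) ≤ MulAction.stabilizer G α := fun y hy => (hPfix y hy).1
  have hQα : (P : Subgroup G).map (MulAut.conj x⁻¹).toMonoidHom ≤ MulAction.stabilizer G α := by
    rintro _ ⟨y, hy, rfl⟩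
    rw [MulAction.mem_stabilizer_iff]
    show (x⁻¹ * y * x⁻¹⁻¹) • α = α
    rw [inv_inv, mul_smul, mul_smul, hx, (hPfix y hy).2, hxinv]
  have c1 := sylow_card_of_le5 P _ hPα
  have c2 : Nat.card ((P : Subgroup G).map (MulAut.conj x⁻¹).toMonoidHom) =
      p ^ (Nat.card (MulAction.stabilizer G α)).factorization p := by
    rw [← c1]; exact Subgroup.card_map_of_injective (MulAut.conj x⁻¹).injective
  obtain ⟨h, hhK, hh⟩ := Cfsg.Agent.Lib.Helper7.exists_conj_of_card_eq
    (MulAction.stabilizer G α) (P : Subgroup G) _ hPα hQα c1 c2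
  have hnorm : (x * h)⁻¹ ∈ Subgroup.normalizer ((P : Subgroup G) : Set G) := by
    apply mem_normalizer_of_conj_mem5
    intro a ha
    have h1 : x⁻¹ * a * x ∈ (P : Subgroup G).map (MulAut.conj x⁻¹).toMonoidHom := by
      refine ⟨a, ha, ?_⟩
      show x⁻¹ * a * x⁻¹⁻¹ = _
      rw [inv_inv]
    have h2 := (hh _).mp h1
    have h3 : (x * h)⁻¹ * a * ((x * h)⁻¹)⁻¹ = h⁻¹ * (x⁻¹ * a * x) * h := by group
    rw [h3]; exact h2
  have h4 := (hNfix _ hnorm).1
  have h5 : (x * h) • α = α := by
    have := congrArg (fun t => (x * h) • t) h4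
    simp only [smul_inv_smul] at this
    exact this.symm
  rw [mul_smul, MulAction.mem_stabilizer_iff.mp hhK, hx] at h5
  exact hαβ h5.symm

theorem fixity_main5 [FaithfulSMul G Ω]
    (htr : MulAction.IsPretransitive G Ω) (k : ℕ) (hk : 1 ≤ k)
    (hfix : ∀ g : G, g ≠ 1 → Nat.card (MulAction.fixedBy Ω g) ≤ k)
    (hex : ∃ g : G, g ≠ 1 ∧ Nat.card (MulAction.fixedBy Ω g) = k) :
    Nat.card (Subgroup.center G) ∣ k ∧ (k = 2 → 2 ∣ Nat.card G) ∧
      ∀ (p : ℕ), p.Prime → k < p → p ∣ Nat.card G → ∀ α : Ω,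
        ¬ p ∣ Nat.card (MulAction.stabilizer G α) ∨ ¬ p ∣ (MulAction.stabilizer G α).index := by
  refine ⟨fixity_center5 htr k hex, ?_, ?_⟩
  · intro hk2
    subst hk2
    exact fixity_two_even5 htr hfix hex
  · intro p hp hkp _ α
    by_cases h : p ∣ Nat.card (MulAction.stabilizer G α)
    · right; exact fixity_prime5 htr k hfix p hp hkp α h
    · left; exact h

end

end Cfsg.Agent.Lib.Helper5
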