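import Mathlib
import Cfsg.Prelude
import Cfsg.Agent.Lib.Helper5.WCCharP
import Cfsg.Agent.Lib.Helper4.PClosed
import Cfsg.Agent.Lib.Helper4.PReduced2

set_option autoImplicit false

namespace Cfsg.Agent.Lib.Helper5

section

variable {G : Type*} [Group G] {p : ℕ}

/-- If `M` normalizes `C` and `M ∩ C` is `p`-closed, every `p`-subgroup of `M ∩ C` lies in
`O_p(M)`. -/
theorem le_pCoreOf_of_isPClosed5 [Finite G] [Fact p.Prime] {M C X : Subgroup G}
    (hMC : M ≤ Subgroup.normalizer (C : Set G)) (hcl : Cfsg.IsPClosed p ↥(M ⊓ C))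
    (hX : X ≤ M ⊓ C) (hXp : IsPGroup p ↥X) : X ≤ Cfsg.pCoreOf p M := by
  have hn : ((M ⊓ C).subgroupOf M).Normal :=
    (Subgroup.normal_subgroupOf_iff_le_normalizer inf_le_left).mpr
      (Cfsg.Agent.Lib.Helper4.le_normalizer_inf Subgroup.le_normalizer hMC)
  have hcl' : Cfsg.IsPClosed p ↥((M ⊓ C).subgroupOf M) :=
    Cfsg.Agent.Lib.Helper4.isPClosed_of_equiv
      (Subgroup.subgroupOfEquivOfLe (inf_le_left : M ⊓ C ≤ M)).symm hcl
  have h1 : X.subgroupOf M ≤ Cfsg.pCore p ↥M :=
    Cfsg.Agent.Lib.Helper4.le_pCore_of_le_isPClosed_normal ((M ⊓ C).subgroupOf M) hcl'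
      (by
        intro x hx
        rw [Subgroup.mem_subgroupOf] at hx ⊢
        exact hX hx)
      (hXp.comap_of_injective M.subtype M.subtype_injective)
  intro x hx
  exact ⟨⟨x, (hX hx).1⟩, h1 (Subgroup.mem_subgroupOf.mpr hx), rfl⟩

/-- `O_p(M)` is weakly closed in `M† = M C_G(Y_M)` when `C_M(Y_M)` is `p`-closed (S2848). -/
theorem pCoreOf_weaklyClosed_dagger5 [Finite G] [Fact p.Prime] (S : Sylow p G)
    (M : Subgroup G) (hSM : (S : Subgroup G) ≤ M)
    (hcl : Cfsg.IsPClosed p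
      ↥(M ⊓ Subgroup.centralizer (((Cfsg.largestPReducedOf p M) : Subgroup G) : Set G))) :
    Cfsg.IsWeaklyClosedSubgroup p (((Cfsg.pCoreOf p M)).subgroupOf
      (M ⊔ Subgroup.centralizer (((Cfsg.largestPReducedOf p M) : Subgroup G) : Set G))) := by
  obtain ⟨C, hCdef⟩ : ∃ C : Subgroup G,
      C = Subgroup.centralizer (((Cfsg.largestPReducedOf p M) : Subgroup G) : Set G) := ⟨_, rfl⟩
  rw [← hCdef] at hcl ⊢
  obtain ⟨P, hPdef⟩ : ∃ P : Subgroup G, P = Cfsg.pCoreOf p M := ⟨_, rfl⟩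
  rw [← hPdef]
  have hMC : M ≤ Subgroup.normalizer (C : Set G) := by
    rw [hCdef]
    exact Cfsg.Agent.Lib.Helper4.le_normalizer_centralizer
      (Cfsg.Agent.Lib.Helper4.le_normalizer_largestPReducedOf M)
  have hPC : P ≤ C := by
    rw [hPdef, hCdef]; exact Cfsg.Agent.Lib.Helper4.pCoreOf_le_centralizer_largestPReducedOf M
  have hPS : P ≤ (S : Subgroup G) := by
    rw [hPdef]; exact Cfsg.Agent.Lib.Helper4.pCoreOf_le_sylow S M hSM
  have hMP : M ≤ Subgroup.normalizer (P : Set G) := by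
    rw [hPdef]; exact Subgroup.le_normalizer.trans (normalizer_le_normalizer_pCoreOf5 M)
  have hPp : IsPGroup p ↥P := hPdef ▸ pCoreOf_isPGroup5 M
  have hS : (S : Subgroup G) ≤ M ⊔ C := hSM.trans le_sup_left
  refine ⟨S.subtype hS, ?_, ?_⟩
  · intro x hx
    rw [Sylow.coe_subtype, Subgroup.mem_subgroupOf]
    exact hPS (Subgroup.mem_subgroupOf.mp hx)
  · intro k hk
    have hkN : (k : G) ∈ Subgroup.normalizer (P : Set G) := by
      apply mem_normalizer_of_conj_mem5
      intro a ha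
      have hk' : (k : G) ∈ ((C ⊔ M : Subgroup G) : Set G) := by
        rw [sup_comm]; exact k.2
      rw [Subgroup.coe_mul_of_right_le_normalizer_left C M hMC] at hk'
      obtain ⟨c, hc, m, hm, hcm⟩ := Set.mem_mul.mp hk'
      have ha' : m * a * m⁻¹ ∈ P := Cfsg.Agent.Lib.Helper4.conj_mem_of_mem_normalizer (hMP hm) ha
      have h1 : (k : G) * a * (k : G)⁻¹ = c * (m * a * m⁻¹) * c⁻¹ := by
        rw [← hcm]; group
      have hS' : (k : G) * a * (k : G)⁻¹ ∈ (S : Subgroup G) := by
        have h2 : k * ⟨a, (hPS.trans hS) ha⟩ * k⁻¹ ∈ ((S.subtype hS : Sylow p _) : Subgroup _) :=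
          hk ⟨⟨a, (hPS.trans hS) ha⟩, Subgroup.mem_subgroupOf.mpr ha, rfl⟩
        rw [Sylow.coe_subtype, Subgroup.mem_subgroupOf] at h2
        exact h2
      -- the conjugate P^k is a p-subgroup of M ⊓ C
      have hX : P.map (MulAut.conj (k : G)).toMonoidHom ≤ M ⊓ C := by
        rintro _ ⟨b, hb, rfl⟩
        have hb' : m * b * m⁻¹ ∈ P := Cfsg.Agent.Lib.Helper4.conj_mem_of_mem_normalizer (hMP hm) hb
        have h3 : (MulAut.conj (k : G)).toMonoidHom b = c * (m * b * m⁻¹) * c⁻¹ := by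
          simp only [MulEquiv.coe_toMonoidHom, MulAut.conj_apply]
          rw [← hcm]; group
        constructor
        · have h2 : k * ⟨b, (hPS.trans hS) hb⟩ * k⁻¹ ∈
              ((S.subtype hS : Sylow p _) : Subgroup _) :=
            hk ⟨⟨b, (hPS.trans hS) hb⟩, Subgroup.mem_subgroupOf.mpr hb, rfl⟩
          rw [Sylow.coe_subtype, Subgroup.mem_subgroupOf] at h2
          exact hSM h2
        · rw [h3]
          exact C.mul_mem (C.mul_mem hc (hPC hb')) (C.inv_mem hc)
      have hle := le_pCoreOf_of_isPClosed5 hMC hcl hX (hPp.map _)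
      rw [← hPdef] at hle
      exact hle ⟨a, ha, rfl⟩
    apply Cfsg.Agent.Lib.Helper4.map_conj_eq_of_mem_normalizer
    rw [Subgroup.mem_normalizer_iff] at hkN ⊢
    intro x
    rw [Subgroup.mem_subgroupOf, Subgroup.mem_subgroupOf]
    exact hkN (x : G)

/-- A subgroup generated by pairwise commuting elements of order dividing `p` is elementary
abelian. -/
theorem isElementaryAbelian_closure5 (s : Set G) (hcomm : ∀ x ∈ s, ∀ y ∈ s, x * y = y * x)
    (hpow : ∀ x ∈ s, x ^ p = 1) : Cfsg.IsElementaryAbelian p (Subgroup.closure s) := by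
  have h1 : Subgroup.closure s ≤ Subgroup.centralizer s := by
    rw [Subgroup.closure_le]
    intro x hx
    show x ∈ Subgroup.centralizer s
    rw [Subgroup.mem_centralizer_iff]
    intro y hy
    exact hcomm y hy x hx
  have h2 : Subgroup.closure s ≤ Subgroup.centralizer ((Subgroup.closure s : Subgroup G) : Set G) := by
    rw [Subgroup.closure_le]
    intro x hx
    show x ∈ Subgroup.centralizer ((Subgroup.closure s : Subgroup G) : Set G)
    rw [Subgroup.mem_centralizer_iff]
    intro y hy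
    exact (Subgroup.mem_centralizer_iff.mp (h1 hy) x hx).symm
  have hc : ∀ a ∈ Subgroup.closure s, ∀ b ∈ Subgroup.closure s, a * b = b * a := by
    intro a ha b hb
    exact Subgroup.mem_centralizer_iff.mp (h2 hb) a ha
  refine ⟨⟨⟨fun a b => Subtype.ext (hc a a.2 b b.2)⟩⟩, ?_⟩
  intro a ha
  induction ha using Subgroup.closure_induction with
  | mem x hx => exact hpow x hx
  | one => exact one_pow p
  | mul x y hx hy ihx ihy =>
    have hcm : Commute x y := hc x hx y hy
    rw [hcm.mul_pow, ihx, ihy, one_mul]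
  | inv x hx ih => rw [inv_pow, ih, inv_one]

/-- If `Y` is abelian of exponent `p`, asymmetric, `Y ≤ R ≤ N_G(Y)`, then the normal closure of
`Y` in `N_G(R)` is elementary abelian. -/
theorem asymmetric_normalClosure5 (Y R : Subgroup G)
    (hYc : ∀ a ∈ Y, ∀ b ∈ Y, a * b = b * a) (hYp : ∀ a ∈ Y, a ^ p = 1)
    (hasym : ¬ Cfsg.IsSymmetricIn Y) (hYR : Y ≤ R)
    (hRN : R ≤ Subgroup.normalizer (Y : Set G)) :
    Cfsg.IsElementaryAbelian p ((Subgroup.normalClosure
      ((Y.subgroupOf (Subgroup.normalizer (R : Set G)) :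
        Subgroup ↥(Subgroup.normalizer (R : Set G))) :
          Set ↥(Subgroup.normalizer (R : Set G)))).map
      (Subgroup.normalizer (R : Set G)).subtype) := by
  -- conjugates by elements of N(R) commute with Y
  have key : ∀ h ∈ Subgroup.normalizer (R : Set G), ∀ y ∈ Y, ∀ y' ∈ Y,
      y * (h * y' * h⁻¹) = (h * y' * h⁻¹) * y := by
    intro h hh y hy y' hy'
    have h1 : Y.map (MulAut.conj h).toMonoidHom ≤ Subgroup.normalizer (Y : Set G) := by
      rintro _ ⟨z, hz, rfl⟩
      apply hRN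
      exact Cfsg.Agent.Lib.Helper4.conj_mem_of_mem_normalizer hh (hYR hz)
    have h2 : Y ≤ Subgroup.normalizer ((Y.map (MulAut.conj h).toMonoidHom : Subgroup G) : Set G) := by
      intro z hz
      rw [← Subgroup.map_equiv_normalizer_eq]
      refine ⟨h⁻¹ * z * h, hRN ?_, ?_⟩
      · have := Cfsg.Agent.Lib.Helper4.conj_mem_of_mem_normalizer (Subgroup.inv_mem _ hh) (hYR hz)
        simpa using this
      · simp only [MulEquiv.coe_toMonoidHom, MulAut.conj_apply]
        group
    have h3 : ⁅Y, Y.map (MulAut.conj h).toMonoidHom⁆ ≤ Y ⊓ Y.map (MulAut.conj h).toMonoidHom := by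
      rw [commutator_le5]
      intro a ha b hb
      constructor
      · have h4 : a * b * a⁻¹ * b⁻¹ = a * (b * a⁻¹ * b⁻¹) := by group
        rw [h4]
        exact Y.mul_mem ha
          (Cfsg.Agent.Lib.Helper4.conj_mem_of_mem_normalizer (h1 hb) (Y.inv_mem ha))
      · exact Subgroup.mul_mem _ (Cfsg.Agent.Lib.Helper4.conj_mem_of_mem_normalizer (h2 ha) hb)
          (Subgroup.inv_mem _ hb)
    have h5 : ⁅Y, Y.map (MulAut.conj h).toMonoidHom⁆ = ⊥ := by
      by_contra hne
      exact hasym ⟨h, hne, h3⟩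
    rw [Subgroup.commutator_eq_bot_iff_le_centralizer] at h5
    have h6 := Subgroup.mem_centralizer_iff.mp (h5 hy) (h * y' * h⁻¹) ⟨y', hy', rfl⟩
    exact h6.symm
  have hcl : (Subgroup.normalClosure
      ((Y.subgroupOf (Subgroup.normalizer (R : Set G)) :
        Subgroup ↥(Subgroup.normalizer (R : Set G))) :
          Set ↥(Subgroup.normalizer (R : Set G)))).map
      (Subgroup.normalizer (R : Set G)).subtype =
      Subgroup.closure ((Subgroup.normalizer (R : Set G)).subtype ''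
        (Group.conjugatesOfSet ((Y.subgroupOf (Subgroup.normalizer (R : Set G)) :
          Subgroup ↥(Subgroup.normalizer (R : Set G))) :
            Set ↥(Subgroup.normalizer (R : Set G))))) := by
    unfold Subgroup.normalClosure
    rw [MonoidHom.map_closure]
  rw [hcl]
  have hform : ∀ x ∈ (Subgroup.normalizer (R : Set G)).subtype ''
        (Group.conjugatesOfSet ((Y.subgroupOf (Subgroup.normalizer (R : Set G)) :
          Subgroup ↥(Subgroup.normalizer (R : Set G))) :
            Set ↥(Subgroup.normalizer (R : Set G)))),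
      ∃ g ∈ Subgroup.normalizer (R : Set G), ∃ y ∈ Y, x = g * y * g⁻¹ := by
    rintro _ ⟨x, hx, rfl⟩
    rw [Group.mem_conjugatesOfSet_iff] at hx
    obtain ⟨a, ha, hax⟩ := hx
    rw [isConj_iff] at hax
    obtain ⟨c, hc⟩ := hax
    refine ⟨(c : G), c.2, (a : G), Subgroup.mem_subgroupOf.mp ha, ?_⟩
    rw [← hc]
    simp
  apply isElementaryAbelian_closure5
  · intro x hx x' hx'
    obtain ⟨g, hg, y, hy, rfl⟩ := hform x hx
    obtain ⟨g', hg', y', hy', rfl⟩ := hform x' hx'
    have h1 := key (g⁻¹ * g') (Subgroup.mul_mem _ (Subgroup.inv_mem _ hg) hg') y hy y' hy'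
    calc g * y * g⁻¹ * (g' * y' * g'⁻¹)
        = g * (y * ((g⁻¹ * g') * y' * (g⁻¹ * g')⁻¹)) * g⁻¹ := by group
      _ = g * (((g⁻¹ * g') * y' * (g⁻¹ * g')⁻¹) * y) * g⁻¹ := by rw [h1]
      _ = g' * y' * g'⁻¹ * (g * y * g⁻¹) := by group
  · intro x hx
    obtain ⟨g, hg, y, hy, rfl⟩ := hform x hx
    rw [conj_pow, hYp y hy]
    group

end

end Cfsg.Agent.Lib.Helper5
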