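import Mathlib
import Cfsg.Prelude.Def_CaseTheorems
import Cfsg.Agent.S4143
import Cfsg.Agent.S4399
import Cfsg.Agent.Lib.Helper8.NilpClass
import Cfsg.Agent.Lib.Helper5.QuatSolv5

set_option autoImplicit false

namespace Cfsg.Agent.Lib.Helper5

open scoped commutatorElement

/-- In a group whose abelianization is cyclic, the commutator subgroup lies in `γ₃`. -/
theorem comm_le_lcs_two_of_cyclic5 {S : Type*} [Group S]
    (hc : IsCyclic (Abelianization S)) :
    commutator S ≤ (⊤ : Subgroup S).lowerCentralSeries 2 := by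
  obtain ⟨gb, hgb⟩ := hc.exists_generator
  obtain ⟨g, rfl⟩ := QuotientGroup.mk_surjective gb
  have htop : Subgroup.zpowers g ⊔ commutator S = ⊤ := by
    rw [eq_top_iff]
    intro s _
    obtain ⟨k, hk⟩ := Subgroup.mem_zpowers_iff.mp (hgb (QuotientGroup.mk s))
    have h1 : (QuotientGroup.mk (g ^ k) : Abelianization S) = QuotientGroup.mk s := by
      rw [← hk]; rfl
    have h2 : (g ^ k)⁻¹ * s ∈ commutator S := QuotientGroup.eq.mp h1
    have e : s = g ^ k * ((g ^ k)⁻¹ * s) := by group
    rw [e]
    exact Subgroup.mul_mem _ (Subgroup.mem_sup_left (Subgroup.zpow_mem_zpowers g k))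
      (Subgroup.mem_sup_right h2)
  have hab : IsMulCommutative (Subgroup.zpowers g) := inferInstance
  have h := Cfsg.Agent.Lib.Helper8.abelian_sup_commutator_comm (P := S) hab
  rw [htop] at h
  rw [commutator_def]
  exact h

theorem maxclass_abelianization5 {S : Type*} [Group S] [Finite S] (hS : IsPGroup 2 S)
    (n : ℕ) (hn : 3 ≤ n) (hcard : Nat.card S = 2 ^ n)
    (hcl : Group.nilpotencyClass S = n - 1) :
    Nat.card (Abelianization S) = 4 ∧ ∀ x : Abelianization S, x ^ 2 = 1 := by
  haveI : Fact (Nat.Prime 2) := ⟨Nat.prime_two⟩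
  haveI : Group.IsNilpotent S := hS.isNilpotent
  set γ : ℕ → Subgroup S := fun k => (⊤ : Subgroup S).lowerCentralSeries k with hγ
  have hne : ∀ k, k ≤ n - 2 → γ k ≠ ⊥ := by
    intro k hk h
    have := Subgroup.lowerCentralSeries_eq_bot_iff_nilpotencyClass_le.mp h
    omega
  have hanti : ∀ k, γ (k + 1) ≤ γ k := fun k =>
    Subgroup.lowerCentralSeries_antitone _ (Nat.le_succ k)
  have hstrict : ∀ k, k ≤ n - 2 → γ (k + 1) < γ k := by
    intro k hk
    refine lt_of_le_of_ne (hanti k) ?_
    intro heq
    have hall : ∀ j, γ (k + j) = γ k := by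
      intro j
      induction j with
      | zero => rfl
      | succ j ih =>
        have h1 : γ (k + (j + 1)) = ⁅γ (k + j), (⊤ : Subgroup S)⁆ := rfl
        rw [h1, ih]
        exact heq
    have h2 := hall (n - 1 - k)
    have h3 : γ (k + (n - 1 - k)) = ⊥ := by
      have : k + (n - 1 - k) = n - 1 := by omega
      rw [this]
      exact Subgroup.lowerCentralSeries_eq_bot_iff_nilpotencyClass_le.mpr (le_of_eq hcl)
    exact hne k hk (h2 ▸ h3)
  -- cardinalities
  have hcardγ : ∀ j, j ≤ n - 1 → 2 ^ j ≤ Nat.card (γ (n - 1 - j)) := by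
    intro j
    induction j with
    | zero => intro _; exact Nat.card_pos
    | succ j ih =>
      intro hj
      have h1 := ih (by omega)
      have h2 : γ (n - 1 - j) < γ (n - 1 - (j + 1)) := by
        have := hstrict (n - 1 - (j + 1)) (by omega)
        have e : n - 1 - (j + 1) + 1 = n - 1 - j := by omega
        rwa [e] at this
      have h3 : Nat.card (γ (n - 1 - j)) ∣ Nat.card (γ (n - 1 - (j + 1))) :=
        Subgroup.card_dvd_of_le h2.le
      have h4 : Nat.card (γ (n - 1 - j)) < Nat.card (γ (n - 1 - (j + 1))) := by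
        by_contra hge
        push Not at hge
        exact h2.ne (Subgroup.eq_of_le_of_card_ge h2.le hge)
      obtain ⟨c, hc⟩ := h3
      have hc2 : 2 ≤ c := by
        by_contra hlt
        have : c = 0 ∨ c = 1 := by omega
        rcases this with rfl | rfl
        · rw [mul_zero] at hc; rw [hc] at h4; omega
        · rw [mul_one] at hc; omega
      rw [hc, pow_succ]
      exact Nat.mul_le_mul h1 hc2
  have hγ1 : γ 1 = commutator S := Subgroup.top_lowerCentralSeries_one
  have hc1 : 2 ^ (n - 2) ≤ Nat.card (commutator S) := by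
    have := hcardγ (n - 2) (by omega)
    have e : n - 1 - (n - 2) = 1 := by omega
    rw [e, hγ1] at this
    exact this
  have hidx : Nat.card (Abelianization S) * Nat.card (commutator S) = 2 ^ n := by
    have h := Subgroup.card_mul_index (commutator S)
    rw [hcard, Subgroup.index_eq_card] at h
    rw [mul_comm]
    exact h
  have hab4 : Nat.card (Abelianization S) ≤ 4 := by
    by_contra hgt
    push Not at hgt
    have : 5 * 2 ^ (n - 2) ≤ 2 ^ n := by
      calc 5 * 2 ^ (n - 2) ≤ Nat.card (Abelianization S) * Nat.card (commutator S) :=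
            Nat.mul_le_mul hgt hc1
        _ = 2 ^ n := hidx
    have e : 2 ^ n = 4 * 2 ^ (n - 2) := by
      have : n = 2 + (n - 2) := by omega
      conv_lhs => rw [this, pow_add]
      norm_num
    have hpos : 0 < 2 ^ (n - 2) := by positivity
    omega
  have hnc : ¬ IsCyclic (Abelianization S) := by
    intro hc
    have h1 := comm_le_lcs_two_of_cyclic5 hc
    have h2 := hstrict 1 (by omega)
    rw [hγ1] at h2
    exact absurd h1 (not_le_of_gt h2)
  have habdvd : Nat.card (Abelianization S) ∣ 2 ^ n := ⟨_, hidx.symm⟩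
  obtain ⟨j, hj, habj⟩ := (Nat.dvd_prime_pow Nat.prime_two).mp habdvd
  have hj2 : j = 2 := by
    have hjle : j ≤ 2 := by
      by_contra h
      push Not at h
      have : 2 ^ 3 ≤ 2 ^ j := Nat.pow_le_pow_right (by norm_num) h
      rw [habj] at hab4
      omega
    interval_cases j
    · exfalso
      apply hnc
      rw [pow_zero] at habj
      haveI : Subsingleton (Abelianization S) := (Nat.card_eq_one_iff_unique.mp habj).1
      infer_instance
    · exfalso
      apply hnc
      rw [pow_one] at habj
      exact isCyclic_of_prime_card habj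
    · rfl
  rw [hj2] at habj
  refine ⟨by rw [habj]; norm_num, ?_⟩
  intro x
  have h1 : orderOf x ∣ 4 := by
    have := orderOf_dvd_natCard x
    rw [habj] at this
    exact this
  have h2 : orderOf x ≠ 4 := by
    intro h
    apply hnc
    apply isCyclic_of_orderOf_eq_card x
    rw [h, habj]; norm_num
  have h3 : orderOf x ∣ 2 := by
    have h4 : orderOf x ∈ Nat.divisors 4 := Nat.mem_divisors.mpr ⟨h1, by norm_num⟩
    have h5 : Nat.divisors 4 = {1, 2, 4} := by decide
    rw [h5] at h4
    simp only [Finset.mem_insert, Finset.mem_singleton] at h4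
    rcases h4 with h | h | h
    · rw [h]; norm_num
    · rw [h]
    · exact absurd h h2
  exact orderOf_dvd_iff_pow_eq_one.mp h3

theorem inv_cent_four5 {S : Type*} [Group S] [Finite S] (hS : IsPGroup 2 S)
    (x : S) (hx : orderOf x = 2) (hC : Nat.card ↥(Subgroup.centralizer ({x} : Set S)) = 4) :
    (∃ n : ℕ, Nonempty (S ≃* DihedralGroup n)) ∨ Cfsg.IsQuasiDihedral S ∨ Nat.card S = 4 := by
  haveI : Fact (Nat.Prime 2) := ⟨Nat.prime_two⟩
  obtain ⟨n, hn⟩ := (IsPGroup.iff_card).mp hS
  set A : Subgroup S := Subgroup.centralizer ({x} : Set S) with hA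
  have hxA : x ∈ A := Subgroup.mem_centralizer_singleton_iff.mpr rfl
  have hCA : Subgroup.centralizer (A : Set S) ≤ A := by
    intro g hg
    apply Subgroup.mem_centralizer_singleton_iff.mpr
    exact (Subgroup.mem_centralizer_iff.mp hg x hxA).symm
  have hcl := Cfsg.Agent.S4143.suzuki 2 n S hn A (by rw [hC]; norm_num) hCA
  have h4 : 4 ∣ 2 ^ n := by
    rw [← hn, ← hC]
    exact Subgroup.card_subgroup_dvd_card A
  have hn2 : 2 ≤ n := by
    by_contra h
    push Not at h
    interval_cases n <;> omega
  rcases Nat.lt_or_ge n 3 with hlt | hge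
  · have : n = 2 := by omega
    right; right
    rw [hn, this]; norm_num
  obtain ⟨hab, hexp⟩ := maxclass_abelianization5 hS n hge hn hcl
  rcases Cfsg.Agent.S4399.result hS hab hexp with h | ⟨k, hk⟩ | ⟨k, hk, a, b, ha, hb, hab'⟩ | ⟨k, ⟨e⟩⟩
  · right; right; exact h
  · left; exact ⟨_, hk⟩
  · right; left
    refine ⟨k + 3, by omega, hk, a, b, ha, hb, ?_⟩
    have : k + 3 - 1 = k + 2 := by omega
    rw [this]
    exact hab'
  · -- quaternion: the involution is central
    right; right
    haveI : NeZero (2 ^ (k + 1)) := ⟨by positivity⟩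
    have hx1 : x ≠ 1 := by
      intro h
      rw [h, orderOf_one] at hx
      omega
    have hx2 : x ^ 2 = 1 := by rw [← hx]; exact pow_orderOf_eq_one x
    have hinv : ∀ y : S, y ≠ 1 → y ^ 2 = 1 → y = x := by
      intro y hy1 hy2
      have h1 := quat_invol5 (2 ^ (k + 1)) (e y) (by
        intro h; apply hy1; exact e.injective (by rw [h, map_one])) (by
        rw [← map_pow, hy2, map_one])
      have h2 := quat_invol5 (2 ^ (k + 1)) (e x) (by
        intro h; apply hx1; exact e.injective (by rw [h, map_one])) (by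
        rw [← map_pow, hx2, map_one])
      exact e.injective (h1.trans h2.symm)
    have htop : A = ⊤ := by
      rw [eq_top_iff]
      intro g _
      apply Subgroup.mem_centralizer_singleton_iff.mpr
      have h1 : g * x * g⁻¹ = x := by
        apply hinv
        · intro h
          apply hx1
          have : x = g⁻¹ * (g * x * g⁻¹) * g := by group
          rw [this, h]; group
        · have : (g * x * g⁻¹) ^ 2 = g * x ^ 2 * g⁻¹ := by rw [sq, sq]; group
          rw [this, hx2]; group
      calc g * x = g * x * g⁻¹ * g := by group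
        _ = x * g := by rw [h1]
    rw [← hC, htop]
    exact (Nat.card_congr Subgroup.topEquiv.toEquiv).symm

end Cfsg.Agent.Lib.Helper5
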