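import Mathlib
import Cfsg.Prelude.Def_Solvable
import Cfsg.Agent.Lib.Lead.CharFrob
import Cfsg.Agent.Lib.Lead.SylowAux
import Cfsg.Agent.Lib.Helper4.Index
import Cfsg.Agent.Lib.Helper5.PGroupBasics

set_option autoImplicit false

namespace Cfsg.Agent.Lib.Helper5

open scoped Pointwise

universe u

theorem isPGroup_zpowers5 {G : Type*} [Group G] {p : ℕ} (x : G) (k : ℕ) (h : x ^ p ^ k = 1) :
    IsPGroup p (Subgroup.zpowers x) := by
  rintro ⟨y, hy⟩
  obtain ⟨j, rfl⟩ := Subgroup.mem_zpowers_iff.mp hy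
  refine ⟨k, ?_⟩
  apply Subtype.ext
  show (x ^ j) ^ p ^ k = 1
  rw [← zpow_natCast, ← zpow_mul, mul_comm, zpow_mul, zpow_natCast, h, one_zpow]

/-- a conjugate of `x` lying in a common `p`-subgroup with `x` equals `x`. -/
theorem iso_conj_eq5 {G : Type*} [Group G] [Finite G] {p : ℕ} [Fact p.Prime]
    (S : Sylow p G) (x : G)
    (hU : ∀ g : G, g⁻¹ * x * g ∈ S → g⁻¹ * x * g = x)
    (P : Subgroup G) (hP : IsPGroup p P) (hxP : x ∈ P) (g : G) (hg : g⁻¹ * x * g ∈ P) :
    g⁻¹ * x * g = x := by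
  obtain ⟨h, hh⟩ := Cfsg.Agent.Lib.Helper4.exists_conj_le_of_not_dvd_index P hP
    (S : Subgroup G) S.not_dvd_index
  have h1 : h⁻¹ * x * h = x := hU h (hh x hxP)
  have h2 : (g * h)⁻¹ * x * (g * h) = x := by
    apply hU
    have h3 := hh _ hg
    have e : (g * h)⁻¹ * x * (g * h) = h⁻¹ * (g⁻¹ * x * g) * h := by group
    rw [e]; exact h3
  have e : g⁻¹ * x * g = h * ((g * h)⁻¹ * x * (g * h)) * h⁻¹ := by group
  rw [e, h2]
  have e2 : h * x * h⁻¹ = h * (h⁻¹ * x * h) * h⁻¹ := by rw [h1]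
  rw [e2]; group

theorem isolated_central5 : ∀ (n : ℕ) {G : Type u} [Group G] [Finite G] {p : ℕ} [Fact p.Prime]
    (S : Sylow p G) (x : G), Nat.card G = n → x ∈ S →
    (∀ g : G, g⁻¹ * x * g ∈ S → g⁻¹ * x * g = x) →
    (∀ H : Subgroup G, (Nat.card H).Coprime p → (∀ h ∈ H, x * h * x⁻¹ ∈ H) →
      ∀ h ∈ H, x * h = h * x) →
    x ∈ Subgroup.center G := by
  intro n
  induction n using Nat.strong_induction_on with
  | _ n ih =>
  intro G _ _ p _ S x hn hx hU hb
  by_contra hxZ
  obtain ⟨C, hC⟩ : ∃ C : Subgroup G, ∀ g, g ∈ C ↔ x * g = g * x :=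
    ⟨Subgroup.centralizer {x}, fun g => by simp [Subgroup.mem_centralizer_iff]⟩
  have hxC : x ∈ C := (hC x).mpr rfl
  have hCtop : C ≠ ⊤ := by
    intro h
    apply hxZ
    rw [Subgroup.mem_center_iff]
    intro g
    have hg : g ∈ C := by rw [h]; trivial
    exact ((hC g).mp hg).symm
  obtain ⟨k, hk⟩ : ∃ k, x ^ p ^ k = 1 := by
    obtain ⟨k, hk⟩ := S.isPGroup' ⟨x, hx⟩
    exact ⟨k, congrArg Subtype.val hk⟩
  have hb' : ∀ (P : Subgroup G), IsPGroup p P → x ∈ P → ∀ g, g⁻¹ * x * g ∈ P →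
      g⁻¹ * x * g = x :=
    fun P hP hxP g hg => iso_conj_eq5 S x hU P hP hxP g hg
  have hcomm : ∀ g, x * (g⁻¹ * x * g) = (g⁻¹ * x * g) * x → g⁻¹ * x * g = x := by
    intro g hg
    have hyk : (g⁻¹ * x * g) ^ p ^ k = 1 := by
      have e := conj_pow (a := g⁻¹) (b := x) (i := p ^ k)
      rw [inv_inv] at e
      rw [e, hk]; group
    have h1 : IsPGroup p (Subgroup.zpowers x) := isPGroup_zpowers5 x k hk
    have h2 : IsPGroup p (Subgroup.zpowers (g⁻¹ * x * g)) := isPGroup_zpowers5 _ k hyk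
    have h3 : Subgroup.zpowers x ≤ Subgroup.normalizer
        ((Subgroup.zpowers (g⁻¹ * x * g) : Subgroup G) : Set G) := by
      rw [Subgroup.zpowers_le]
      apply mem_normalizer_of_conj_mem5
      intro a ha
      obtain ⟨j, rfl⟩ := Subgroup.mem_zpowers_iff.mp ha
      have hc : Commute x ((g⁻¹ * x * g) ^ j) := Commute.zpow_right hg j
      have e : x * (g⁻¹ * x * g) ^ j * x⁻¹ = (g⁻¹ * x * g) ^ j := by
        rw [hc.eq]; group
      rw [e]; exact ha
    have h4 := IsPGroup.to_sup_of_normal_right' h1 h2 h3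
    exact hb' _ h4 (Subgroup.mem_sup_left (Subgroup.mem_zpowers x)) g
      (Subgroup.mem_sup_right (Subgroup.mem_zpowers _))
  have hstar : ∀ M : Subgroup G, x ∈ M → M ≠ ⊤ → M ≤ C := by
    intro M hxM hM m hm
    rw [hC]
    have hcard : Nat.card M < n := by
      rw [← hn]
      exact lt_of_le_of_ne (Subgroup.card_le_card_group M)
        (fun h => hM ((Subgroup.card_eq_iff_eq_top M).mp h))
    have hkM : (⟨x, hxM⟩ : M) ^ p ^ k = 1 := Subtype.ext (by simpa using hk)
    obtain ⟨PM, hPM⟩ := (isPGroup_zpowers5 (⟨x, hxM⟩ : M) k hkM).exists_le_sylow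
    have hxPM : (⟨x, hxM⟩ : M) ∈ PM := hPM (Subgroup.mem_zpowers _)
    have key : (⟨x, hxM⟩ : M) ∈ Subgroup.center M := by
      refine ih (Nat.card M) hcard PM ⟨x, hxM⟩ rfl hxPM ?_ ?_
      · intro g hg
        have hP : IsPGroup p ((PM : Subgroup M).map M.subtype) := PM.isPGroup'.map _
        have h1 := hb' _ hP ⟨_, hxPM, rfl⟩ (g : G) ⟨_, hg, by simp⟩
        exact Subtype.ext (by simpa using h1)
      · intro H hH hHx h hh
        have hc : Nat.card (H.map M.subtype) = Nat.card H :=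
          Subgroup.card_map_of_injective M.subtype_injective
        have h1 := hb (H.map M.subtype) (by rw [hc]; exact hH) ?_ (h : G) ⟨h, hh, rfl⟩
        · exact Subtype.ext h1
        · rintro _ ⟨h', hh', rfl⟩
          exact ⟨_, hHx h' hh', by simp⟩
    rw [Subgroup.mem_center_iff] at key
    have h1 := key ⟨m, hm⟩
    exact (congrArg Subtype.val h1).symm
  have hspade : ∀ M : Subgroup G, M.Normal → x ∈ M → M = ⊤ := by
    intro M hMn hxM
    by_contra hM
    apply hxZ
    rw [Subgroup.mem_center_iff]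
    intro g
    have h1 : g⁻¹ * x * g ∈ C := hstar M hxM hM (by
      have h0 := hMn.conj_mem x hxM g⁻¹
      simpa using h0)
    have h2 := hcomm g ((hC _).mp h1)
    calc g * x = g * (g⁻¹ * x * g) := by rw [h2]
      _ = x * g := by group
  have hTI : ∀ g, g ∉ C → ∀ c ∈ C, g⁻¹ * c * g ∈ C → c ∈ C.normalCore := by
    intro g hg c hc hgc
    obtain ⟨U, hmemU⟩ : ∃ U : Subgroup G, ∀ u, u ∈ U ↔ u ∈ C ∧ g⁻¹ * u * g ∈ C :=
      ⟨C ⊓ (MulAut.conj g • C), fun u => by
        rw [Subgroup.mem_inf, Cfsg.Agent.Lib.Lead.mem_conj_smul]⟩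
    have hUC : U ≤ C := fun u hu => ((hmemU u).mp hu).1
    have hUn : Subgroup.normalizer (U : Set G) = ⊤ := by
      by_contra hne
      have hxN : x ∈ Subgroup.normalizer (U : Set G) := by
        apply mem_normalizer_of_conj_mem5
        intro u hu
        have e : x * u * x⁻¹ = u := by rw [(hC u).mp (hUC hu)]; group
        rw [e]; exact hu
      have hle := hstar _ hxN hne
      have hgx : g * x * g⁻¹ ∈ Subgroup.normalizer (U : Set G) := by
        apply mem_normalizer_of_conj_mem5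
        intro u hu
        have h1 := (hC _).mp ((hmemU u).mp hu).2
        have e : g * x * g⁻¹ * u * (g * x * g⁻¹)⁻¹ = u := by
          calc g * x * g⁻¹ * u * (g * x * g⁻¹)⁻¹
              = g * (x * (g⁻¹ * u * g)) * x⁻¹ * g⁻¹ := by group
            _ = g * ((g⁻¹ * u * g) * x) * x⁻¹ * g⁻¹ := by rw [h1]
            _ = u := by group
        rw [e]; exact hu
      have h3 : g * x * g⁻¹ ∈ C := hle hgx
      have h3' := (hC _).mp h3
      have h4 := hcomm g⁻¹ (by rw [inv_inv]; exact h3')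
      rw [inv_inv] at h4
      apply hg
      rw [hC]
      calc x * g = (g * x * g⁻¹) * g := by rw [h4]
        _ = g * x := by group
    have hUnormal : U.Normal := Subgroup.normalizer_eq_top_iff.mp hUn
    have hUle : U ≤ C.normalCore := Subgroup.normal_le_normalCore.mpr hUC
    exact hUle ((hmemU c).mpr ⟨hc, hgc⟩)
  have hN0C : C.normalCore ≤ C := Subgroup.normalCore_le C
  have hN0Z : ∀ z ∈ C.normalCore, ∀ g : G, g * z = z * g := by
    have h1 := hspade (Subgroup.centralizer (C.normalCore : Set G)) inferInstance (by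
      rw [Subgroup.mem_centralizer_iff]
      intro z hz
      exact ((hC z).mp (hN0C hz)).symm)
    intro z hz g
    have hg : g ∈ Subgroup.centralizer (C.normalCore : Set G) := by rw [h1]; trivial
    exact (Subgroup.mem_centralizer_iff.mp hg z hz).symm
  have hxN0 : x ∉ C.normalCore := by
    intro h
    apply hxZ
    rw [Subgroup.mem_center_iff]
    intro g; exact hN0Z x h g
  obtain ⟨π, hπs, hker⟩ : ∃ π : G →* G ⧸ C.normalCore, Function.Surjective π ∧
      ∀ g, π g = 1 ↔ g ∈ C.normalCore :=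
    ⟨QuotientGroup.mk' C.normalCore, QuotientGroup.mk'_surjective _, fun g => by
      rw [← MonoidHom.mem_ker, QuotientGroup.ker_mk']⟩
  have hkerle : π.ker ≤ C := fun g hg => hN0C ((hker g).mp hg)
  have hFrob : Cfsg.IsFrobeniusComplement (C.map π) := by
    refine ⟨?_, ?_, ?_⟩
    · intro h
      apply hxN0
      have h1 : π x ∈ C.map π := Subgroup.mem_map_of_mem π hxC
      rw [h, Subgroup.mem_bot] at h1
      exact (hker x).mp h1
    · intro h
      apply hCtop
      have h2 := congrArg (Subgroup.comap π) h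
      rw [Subgroup.comap_map_eq, sup_of_le_left hkerle, Subgroup.comap_top] at h2
      exact h2
    · intro gb hgb
      obtain ⟨g, rfl⟩ := hπs gb
      have hg : g ∉ C := fun h => hgb (Subgroup.mem_map_of_mem π h)
      rw [eq_bot_iff]
      intro y hy
      rw [Subgroup.mem_inf] at hy
      obtain ⟨hy1, hy2⟩ := hy
      rw [Subgroup.mem_bot]
      obtain ⟨c, hc, rfl⟩ := hy1
      rw [Cfsg.Agent.Lib.Lead.mem_conj_smul] at hy2
      obtain ⟨c', hc', hcc'⟩ := hy2
      have h1 : g⁻¹ * c * g ∈ C := by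
        have h2 : π (c'⁻¹ * (g⁻¹ * c * g)) = 1 := by
          rw [map_mul, map_inv, hcc', map_mul, map_mul, map_inv]; group
        have h3 := C.mul_mem hc' (hN0C ((hker _).mp h2))
        have e : c' * (c'⁻¹ * (g⁻¹ * c * g)) = g⁻¹ * c * g := by group
        rw [e] at h3; exact h3
      exact (hker c).mpr (hTI g hg c hc h1)
  obtain ⟨Fb, -, hFbn, hFbc⟩ := Cfsg.Agent.Lib.Lead.frobenius_kernel (C.map π) hFrob
  obtain ⟨F, hF⟩ : ∃ F : Subgroup G, ∀ g, g ∈ F ↔ π g ∈ Fb :=
    ⟨Fb.comap π, fun g => Subgroup.mem_comap⟩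
  have hFn : F.Normal := by
    constructor
    intro f hf g
    rw [hF] at hf ⊢
    rw [map_mul, map_mul, map_inv]
    exact hFbn.conj_mem _ hf _
  have hSC : (S : Subgroup G) ≤ C := by
    intro s hs
    rw [hC]
    have h1 := hU s ((S : Subgroup G).mul_mem ((S : Subgroup G).mul_mem
      ((S : Subgroup G).inv_mem hs) hx) hs)
    calc x * s = s * (s⁻¹ * x * s) := by group
      _ = s * x := by rw [h1]
  have hFbcard : (Nat.card Fb).Coprime p := by
    have h1 : (C.map π).index = Nat.card Fb := hFbc.index_eq_card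
    have h2 : (C.map π).index = C.index := Subgroup.index_map_eq C hπs hkerle
    have h3 : ¬ p ∣ C.index := fun h =>
      S.not_dvd_index (dvd_trans h (Subgroup.index_dvd_of_le hSC))
    rw [← h1, h2]
    exact (Nat.Coprime.symm ((Nat.Prime.coprime_iff_not_dvd Fact.out).mpr h3))
  have hpF : ∀ a ∈ F, ∀ j : ℕ, a ^ p ^ j = 1 → a ∈ C.normalCore := by
    intro a ha j hj
    rw [← hker]
    have h1 : orderOf (π a) ∣ p ^ j :=
      orderOf_dvd_of_pow_eq_one (by rw [← map_pow, hj, map_one])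
    have h2 : orderOf (π a) ∣ Nat.card Fb := by
      have h0 := orderOf_dvd_natCard (⟨π a, (hF a).mp ha⟩ : Fb)
      rwa [Subgroup.orderOf_mk] at h0
    have h3 : orderOf (π a) ∣ 1 := by
      have h4 := Nat.dvd_gcd h1 h2
      rwa [Nat.Coprime.gcd_eq_one (Nat.Coprime.pow_left j hFbcard.symm)] at h4
    exact orderOf_eq_one_iff.mp (Nat.dvd_one.mp h3)
  obtain ⟨PF⟩ : Nonempty (Sylow p F) := inferInstance
  have hPFN : ∀ a : F, a ∈ PF → (a : G) ∈ C.normalCore := by
    intro a ha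
    obtain ⟨j, hj⟩ := PF.isPGroup' ⟨a, ha⟩
    have hj' : (a : G) ^ p ^ j = 1 := by
      have h0 := congrArg Subtype.val (congrArg Subtype.val hj)
      simpa using h0
    exact hpF a a.2 j hj'
  have hPFn : (PF : Subgroup F).Normal := by
    constructor
    intro a ha f
    have e : f * a * f⁻¹ = a := by
      apply Subtype.ext
      have h0 := hN0Z a (hPFN a ha) f
      show (f : G) * a * (f : G)⁻¹ = a
      rw [h0]; group
    rw [e]; exact ha
  obtain ⟨Q, hQ⟩ := Subgroup.exists_right_complement'_of_coprime PF.card_coprime_index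
  have hQcard : (Nat.card Q).Coprime p := by
    rw [← hQ.symm.index_eq_card]
    exact (Nat.Coprime.symm ((Nat.Prime.coprime_iff_not_dvd Fact.out).mpr PF.not_dvd_index))
  have hdecomp : ∀ f : F, ∃ a ∈ (PF : Subgroup F), ∃ q ∈ Q, f = a * q := by
    intro f
    have hf : f ∈ (PF : Subgroup F) ⊔ Q := by rw [hQ.sup_eq_top]; trivial
    rw [← SetLike.mem_coe, Subgroup.normal_mul] at hf
    obtain ⟨a, ha, q, hq, rfl⟩ := Set.mem_mul.mp hf
    exact ⟨a, ha, q, hq, rfl⟩
  have hQx : ∀ h ∈ Q.map F.subtype, x * h * x⁻¹ ∈ Q.map F.subtype := by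
    rintro _ ⟨q, hq, rfl⟩
    have hmem : x * (q : G) * x⁻¹ ∈ F := hFn.conj_mem _ q.2 x
    obtain ⟨a, ha, q', hq', hdec⟩ := hdecomp ⟨_, hmem⟩
    have hqm : q ^ Nat.card Q = 1 := by
      have h0 := pow_card_eq_one' (G := Q) (x := ⟨q, hq⟩)
      exact congrArg Subtype.val h0
    have hq'm : q' ^ Nat.card Q = 1 := by
      have h0 := pow_card_eq_one' (G := Q) (x := ⟨q', hq'⟩)
      exact congrArg Subtype.val h0
    have h1 : (⟨x * (q : G) * x⁻¹, hmem⟩ : F) ^ Nat.card Q = 1 := by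
      apply Subtype.ext
      show (x * (q : G) * x⁻¹) ^ Nat.card Q = 1
      have h0 : (q : G) ^ Nat.card Q = 1 := by
        have h00 := congrArg Subtype.val hqm
        simpa using h00
      rw [conj_pow, h0]; group
    have hcomm' : Commute a q' := by
      apply Subtype.ext
      exact (hN0Z a (hPFN a ha) q').symm
    have h2 : a ^ Nat.card Q = 1 := by
      rw [hdec, hcomm'.mul_pow, hq'm, mul_one] at h1
      exact h1
    obtain ⟨j, hj⟩ := PF.isPGroup' ⟨a, ha⟩
    have hj' : a ^ p ^ j = 1 := congrArg Subtype.val hj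
    have h3 : a ^ Nat.gcd (Nat.card Q) (p ^ j) = 1 := pow_gcd_eq_one.mpr ⟨h2, hj'⟩
    rw [Nat.Coprime.gcd_eq_one (Nat.Coprime.pow_right j hQcard), pow_one] at h3
    refine ⟨q', hq', ?_⟩
    have h4 := congrArg Subtype.val hdec
    rw [h3, one_mul] at h4
    exact h4.symm
  have hQc := hb (Q.map F.subtype) (by
    rw [Subgroup.card_map_of_injective F.subtype_injective]; exact hQcard) hQx
  have hFC : F ≤ C := by
    intro f hf
    rw [hC]
    obtain ⟨a, ha, q, hq, hdec⟩ := hdecomp ⟨f, hf⟩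
    have e : f = (a : G) * (q : G) := congrArg Subtype.val hdec
    have h1 : x * (a : G) = a * x := (hC _).mp (hN0C (hPFN a ha))
    have h2 : x * (q : G) = q * x := hQc q ⟨q, hq, rfl⟩
    rw [e, ← mul_assoc, h1, mul_assoc, h2, mul_assoc]
  apply hFrob.2.1
  have hle : Fb ≤ C.map π := by
    intro fb hfb
    obtain ⟨f, rfl⟩ := hπs fb
    exact Subgroup.mem_map_of_mem π (hFC ((hF f).mpr hfb))
  have h := hFbc.sup_eq_top
  rwa [sup_of_le_right hle] at h

end Cfsg.Agent.Lib.Helper5
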