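import Mathlib

set_option autoImplicit false

namespace Cfsg.Agent.Lib.Helper5

section

variable {G : Type*} [Group G]

/-- an element of odd order has a square root among its powers -/
theorem exists_sq_root_of_odd (h : G) (hodd : Odd (orderOf h)) :
    ∃ k : ℕ, h ^ k * h ^ k = h := by
  obtain ⟨j, hj⟩ := hodd
  refine ⟨j + 1, ?_⟩
  rw [← pow_add]
  have e : j + 1 + (j + 1) = orderOf h + 1 := by omega
  rw [e, pow_succ, pow_orderOf_eq_one, one_mul]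

theorem conj_pow_inv5 (x h : G) (hx : x * h * x⁻¹ = h⁻¹) (k : ℕ) :
    x * h ^ k * x⁻¹ = (h ^ k)⁻¹ := by
  rw [← conj_pow, hx, inv_pow]

theorem conj_pow_comm5 (x h : G) (hx : x * h * x⁻¹ = h) (k : ℕ) :
    x * h ^ k * x⁻¹ = h ^ k := by
  rw [← conj_pow, hx]

theorem eq_one_of_odd_of_mul_self (h : G) (hodd : Odd (orderOf h)) (h2 : h * h = 1) : h = 1 := by
  have h3 : h ^ 2 = 1 := by rw [pow_two]; exact h2
  have h4 : orderOf h ∣ 2 := orderOf_dvd_of_pow_eq_one h3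
  have h5 : orderOf h = 1 := by
    rcases (Nat.dvd_prime Nat.prime_two).mp h4 with h6 | h6
    · exact h6
    · rw [h6] at hodd
      exact absurd hodd (by decide)
  exact orderOf_eq_one_iff.mp h5

/-- an element of odd order cannot invert a nontrivial element of odd order -/
theorem eq_one_of_odd_inverts (x h : G) (hoddx : Odd (orderOf x)) (hodd : Odd (orderOf h))
    (hx : x * h * x⁻¹ = h⁻¹) : h = 1 := by
  have h2 : Commute (x ^ 2) h := by
    show x ^ 2 * h = h * x ^ 2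
    have e1 : x ^ 2 * h = x * (x * h * x⁻¹) * x := by rw [pow_two]; group
    have e2 : x * h⁻¹ = h * x := by
      have e3 : x * h⁻¹ * x⁻¹ = h := by
        have e4 : x * h⁻¹ * x⁻¹ = (x * h * x⁻¹)⁻¹ := by group
        rw [e4, hx, inv_inv]
      exact eq_mul_of_mul_inv_eq e3
    rw [e1, hx, e2, pow_two, mul_assoc]
  obtain ⟨j, hj⟩ := exists_pow_eq_self_of_coprime ((Nat.coprime_two_left).mpr hoddx)
  have h3 : Commute x h := by
    have h4 := h2.pow_left j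
    rw [hj] at h4
    exact h4
  have h5 : h⁻¹ = h := by
    rw [← hx, h3.eq, mul_inv_cancel_right]
  apply eq_one_of_odd_of_mul_self h hodd
  calc h * h = h * h⁻¹ := by rw [h5]
    _ = 1 := mul_inv_cancel h

/-- Key computation for a four-group `{1, v, w, vw}` each of whose conjugates commutes with one of
its involutions. -/
theorem klein_key (A : Subgroup G) (hcomm : ∀ x ∈ A, ∀ y ∈ A, x * y = y * x)
    (hsq : ∀ x ∈ A, x * x = 1)
    (hyp : ∀ a ∈ A, a ≠ 1 → ∀ g : G, ∃ x ∈ A, x ≠ 1 ∧ x * (g * a * g⁻¹) = (g * a * g⁻¹) * x)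
    (v w : G) (hv : v ∈ A) (hw : w ∈ A) (hvw : v ≠ w)
    (h3 : ∀ x ∈ A, x ≠ 1 → x = v ∨ x = w ∨ x = v * w)
    (h h' : G) (hodd : Odd (orderOf h)) (hodd' : Odd (orderOf h')) (hne : h ≠ 1) (hne' : h' ≠ 1)
    (hvh : v * h * v⁻¹ = h⁻¹) (hwh : w * h * w⁻¹ = h) (hwh' : w * h' * w⁻¹ = h'⁻¹)
    (hvh' : v * h' * v⁻¹ = h') : h' * h * h' = h⁻¹ := by
  have hvinv : v⁻¹ = v := by
    rw [inv_eq_iff_eq_inv, eq_inv_iff_mul_eq_one]; exact hsq v hv
  have hwinv : w⁻¹ = w := by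
    rw [inv_eq_iff_eq_inv, eq_inv_iff_mul_eq_one]; exact hsq w hw
  obtain ⟨c, hc⟩ : ∃ c, c = v * w := ⟨_, rfl⟩
  have hcA : c ∈ A := by rw [hc]; exact A.mul_mem hv hw
  have hc1 : c ≠ 1 := by
    rw [hc]
    intro h1
    apply hvw
    have h2 : v = w⁻¹ := eq_inv_of_mul_eq_one_left h1
    rw [h2, hwinv]
  have hcinv : c⁻¹ = c := by
    rw [inv_eq_iff_eq_inv, eq_inv_iff_mul_eq_one]; exact hsq c hcA
  have hch : c * h * c⁻¹ = h⁻¹ := by
    have e : c * h * c⁻¹ = v * (w * h * w⁻¹) * v⁻¹ := by rw [hc]; group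
    rw [e, hwh, hvh]
  have hch' : c * h' * c⁻¹ = h'⁻¹ := by
    have e : c * h' * c⁻¹ = w * (v * h' * v⁻¹) * w⁻¹ := by
      rw [hc, hcomm v hv w hw]; group
    rw [e, hvh', hwh']
  obtain ⟨k, hk⟩ := exists_sq_root_of_odd h hodd
  obtain ⟨k', hk'⟩ := exists_sq_root_of_odd h' hodd'
  obtain ⟨u, hu⟩ : ∃ u, u = h ^ k := ⟨_, rfl⟩
  obtain ⟨u', hu'⟩ : ∃ u', u' = h' ^ k' := ⟨_, rfl⟩
  rw [← hu] at hk
  rw [← hu'] at hk'
  have hvu : v * u * v⁻¹ = u⁻¹ := by rw [hu]; exact conj_pow_inv5 v h hvh k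
  have hwu : w * u * w⁻¹ = u := by rw [hu]; exact conj_pow_comm5 w h hwh k
  have hcu : c * u * c⁻¹ = u⁻¹ := by rw [hu]; exact conj_pow_inv5 c h hch k
  have hcu' : c * u' * c⁻¹ = u'⁻¹ := by rw [hu']; exact conj_pow_inv5 c h' hch' k'
  -- the conjugate `t` of `c`
  obtain ⟨t, ht⟩ : ∃ t, t = u⁻¹ * c * h' * u := ⟨_, rfl⟩
  have htconj : t = (u' * u)⁻¹ * c * ((u' * u)⁻¹)⁻¹ := by
    have e1 : u'⁻¹ * c = c * u' := by
      have e2 : c * u' = u'⁻¹ * c := by rw [← hcu']; group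
      rw [e2]
    have e3 : (u' * u)⁻¹ * c * ((u' * u)⁻¹)⁻¹ = u⁻¹ * (u'⁻¹ * c) * u' * u := by group
    rw [e3, e1, ht, ← hk']
    group
  obtain ⟨x, hxA, hx1, hxt⟩ := hyp c hcA hc1 ((u' * u)⁻¹)
  rw [← htconj] at hxt
  have hxt' : x * t * x⁻¹ = t := by rw [hxt, mul_inv_cancel_right]
  have hgen : x * t * x⁻¹ = (x * u * x⁻¹)⁻¹ * (x * c * x⁻¹) * (x * h' * x⁻¹) * (x * u * x⁻¹) := by
    rw [ht]; group
  have hxc : x * c * x⁻¹ = c := by rw [hcomm x hxA c hcA, mul_inv_cancel_right]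
  rw [hxt', hxc] at hgen
  -- `h * c = c * h⁻¹`
  have hhc : h * c = c * h⁻¹ := by
    have e : c * h⁻¹ * c⁻¹ = h := by
      have e4 : c * h⁻¹ * c⁻¹ = (c * h * c⁻¹)⁻¹ := by group
      rw [e4, hch, inv_inv]
    exact (eq_mul_of_mul_inv_eq e).symm
  rcases h3 x hxA hx1 with rfl | rfl | hxc'
  · -- `x = v`
    exfalso
    rw [hvu, hvh', inv_inv, ht] at hgen
    -- u⁻¹ * c * h' * u = u * c * h' * u⁻¹
    have e1 : h * c * h' = c * h' * h := by
      have e2 : u * (u⁻¹ * c * h' * u) * u = u * (u * c * h' * u⁻¹) * u := by rw [hgen]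
      have e3 : u * (u⁻¹ * c * h' * u) * u = c * h' * (u * u) := by group
      have e4 : u * (u * c * h' * u⁻¹) * u = (u * u) * c * h' := by group
      rw [e3, e4, hk] at e2
      exact e2.symm
    rw [hhc] at e1
    have e5 : h⁻¹ * h' = h' * h := by
      have e6 : c * (h⁻¹ * h') = c * (h' * h) := by
        rw [← mul_assoc, ← mul_assoc]; exact e1
      exact mul_left_cancel e6
    have e7 : h'⁻¹ * h * h'⁻¹⁻¹ = h⁻¹ := by
      rw [inv_inv]
      have e8 : h'⁻¹ * h * h' = (h'⁻¹ * (h⁻¹ * h'))⁻¹ := by group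
      rw [e8, e5]; group
    have hoddinv : Odd (orderOf h'⁻¹) := by rw [orderOf_inv]; exact hodd'
    exact hne (eq_one_of_odd_inverts h'⁻¹ h hoddinv hodd e7)
  · -- `x = w`
    exfalso
    rw [hwu, hwh', ht] at hgen
    have e1 : h' = h'⁻¹ := by
      have e2 : u⁻¹ * c * h' * u = u⁻¹ * c * h'⁻¹ * u := hgen
      have e3 := mul_right_cancel e2
      exact mul_left_cancel e3
    apply hne'
    apply eq_one_of_odd_of_mul_self h' hodd'
    calc h' * h' = h' * h'⁻¹ := by rw [← e1]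
      _ = 1 := mul_inv_cancel h'
  · -- `x = c`
    rw [hxc', ← hc] at hgen
    rw [hcu, hch', inv_inv, ht] at hgen
    -- u⁻¹ * c * h' * u = u * c * h'⁻¹ * u⁻¹
    have e1 : h * c * h'⁻¹ = c * h' * h := by
      have e2 : u * (u⁻¹ * c * h' * u) * u = u * (u * c * h'⁻¹ * u⁻¹) * u := by rw [hgen]
      have e3 : u * (u⁻¹ * c * h' * u) * u = c * h' * (u * u) := by group
      have e4 : u * (u * c * h'⁻¹ * u⁻¹) * u = (u * u) * c * h'⁻¹ := by group
      rw [e3, e4, hk] at e2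
      exact e2.symm
    rw [hhc] at e1
    have e5 : h⁻¹ * h'⁻¹ = h' * h := by
      have e6 : c * (h⁻¹ * h'⁻¹) = c * (h' * h) := by
        rw [← mul_assoc, ← mul_assoc]; exact e1
      exact mul_left_cancel e6
    calc h' * h * h' = (h⁻¹ * h'⁻¹) * h' := by rw [e5]
      _ = h⁻¹ := by group

theorem klein_mixed_false (A : Subgroup G) (hcomm : ∀ x ∈ A, ∀ y ∈ A, x * y = y * x)
    (hsq : ∀ x ∈ A, x * x = 1)
    (hyp : ∀ a ∈ A, a ≠ 1 → ∀ g : G, ∃ x ∈ A, x ≠ 1 ∧ x * (g * a * g⁻¹) = (g * a * g⁻¹) * x)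
    (v w : G) (hv : v ∈ A) (hw : w ∈ A) (hvw : v ≠ w)
    (h3 : ∀ x ∈ A, x ≠ 1 → x = v ∨ x = w ∨ x = v * w)
    (h h' : G) (hodd : Odd (orderOf h)) (hodd' : Odd (orderOf h')) (hne : h ≠ 1) (hne' : h' ≠ 1)
    (hvh : v * h * v⁻¹ = h⁻¹) (hwh : w * h * w⁻¹ = h) (hwh' : w * h' * w⁻¹ = h'⁻¹)
    (hvh' : v * h' * v⁻¹ = h') : False := by
  have E1 := klein_key A hcomm hsq hyp v w hv hw hvw h3 h h' hodd hodd' hne hne' hvh hwh hwh' hvh'
  have hne2 : h * h ≠ 1 := fun e => hne (eq_one_of_odd_of_mul_self h hodd e)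
  have hodd2 : Odd (orderOf (h * h)) := by
    rw [← pow_two]
    exact Odd.of_dvd_nat hodd (orderOf_pow_dvd 2)
  have hvh2 : v * (h * h) * v⁻¹ = (h * h)⁻¹ := by
    have h1 := conj_pow_inv5 v h hvh 2
    rw [pow_two] at h1
    exact h1
  have hwh2 : w * (h * h) * w⁻¹ = h * h := by
    have h1 := conj_pow_comm5 w h hwh 2
    rw [pow_two] at h1
    exact h1
  have E2 := klein_key A hcomm hsq hyp v w hv hw hvw h3 (h * h) h' hodd2 hodd' hne2 hne' hvh2 hwh2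
    hwh' hvh'
  have e3 : h'⁻¹ * h * h'⁻¹⁻¹ = h⁻¹ := by
    rw [inv_inv]
    have e4 : h' * (h * h) * h' = (h' * h * h') * (h'⁻¹ * h * h') := by group
    rw [e4, E1] at E2
    have e5 : h'⁻¹ * h * h' = h * (h * h)⁻¹ := by rw [← E2]; group
    rw [e5]; group
  have hoddinv : Odd (orderOf h'⁻¹) := by rw [orderOf_inv]; exact hodd'
  exact hne (eq_one_of_odd_inverts h'⁻¹ h hoddinv hodd e3)

/-- A four-group all of whose involutions invert nontrivial elements of odd order cannot have the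
property that every conjugate of its involutions commutes with one of its involutions. -/
theorem klein_false_of_inverting (A : Subgroup G) (hA : IsKleinFour ↥A)
    (hyp : ∀ a ∈ A, a ≠ 1 → ∀ g : G, ∃ x ∈ A, x ≠ 1 ∧ x * (g * a * g⁻¹) = (g * a * g⁻¹) * x)
    (hinv : ∀ v ∈ A, v ≠ 1 → ∃ h : G, h ≠ 1 ∧ Odd (orderOf h) ∧ v * h * v⁻¹ = h⁻¹) : False := by
  have hsq : ∀ x ∈ A, x * x = 1 := by
    intro x hx
    have h1 := IsKleinFour.mul_self (⟨x, hx⟩ : A)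
    exact congrArg Subtype.val h1
  have hinvs : ∀ x ∈ A, x⁻¹ = x := by
    intro x hx
    rw [inv_eq_iff_eq_inv, eq_inv_iff_mul_eq_one]; exact hsq x hx
  have hcomm : ∀ x ∈ A, ∀ y ∈ A, x * y = y * x := by
    intro x hx y hy
    have h1 := hsq (x * y) (A.mul_mem hx hy)
    have h2 : x * y = (x * y)⁻¹ := eq_inv_of_mul_eq_one_left h1
    rw [mul_inv_rev, hinvs x hx, hinvs y hy] at h2
    exact h2
  have hA1 : A ≠ ⊥ := by
    intro h1
    have h2 := hA.card_four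
    rw [h1, Subgroup.card_bot] at h2
    omega
  -- type of an inverted element
  have htype : ∀ v ∈ A, v ≠ 1 → ∀ h : G, h ≠ 1 → Odd (orderOf h) → v * h * v⁻¹ = h⁻¹ →
      ∃ w ∈ A, w ≠ 1 ∧ w ≠ v ∧ w * h * w⁻¹ = h := by
    intro v hv hv1 h hne hodd hvh
    obtain ⟨k, hk⟩ := exists_sq_root_of_odd h hodd
    obtain ⟨u, hu⟩ : ∃ u, u = h ^ k := ⟨_, rfl⟩
    rw [← hu] at hk
    have hvu : v * u * v⁻¹ = u⁻¹ := by rw [hu]; exact conj_pow_inv5 v h hvh k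
    have e : u⁻¹ * v * u⁻¹⁻¹ = v * h := by
      rw [inv_inv]
      have e1 : v * u = u⁻¹ * v := by rw [← hvu]; group
      rw [← e1, mul_assoc, hk]
    obtain ⟨x, hxA, hx1, hxc⟩ := hyp v hv hv1 u⁻¹
    rw [e] at hxc
    have hxh : x * h = h * x := by
      have e2 : v * (x * h) = v * (h * x) := by
        rw [← mul_assoc, ← hcomm x hxA v hv, mul_assoc, hxc, mul_assoc]
      exact mul_left_cancel e2
    refine ⟨x, hxA, hx1, ?_, by rw [hxh, mul_inv_cancel_right]⟩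
    rintro rfl
    apply hne
    apply eq_one_of_odd_of_mul_self h hodd
    have e3 : h⁻¹ = h := by rw [← hvh, hxh, mul_inv_cancel_right]
    calc h * h = h * h⁻¹ := by rw [e3]
      _ = 1 := mul_inv_cancel h
  obtain ⟨⟨v₁, hv₁A⟩, hv₁ne⟩ := (Subgroup.ne_bot_iff_exists_ne_one).mp hA1
  have hv₁1 : v₁ ≠ 1 := fun e => hv₁ne (Subtype.ext e)
  obtain ⟨h₁, hne₁, hodd₁, hinv₁⟩ := hinv v₁ hv₁A hv₁1
  obtain ⟨w, hwA, hw1, hwv, hwh₁⟩ := htype v₁ hv₁A hv₁1 h₁ hne₁ hodd₁ hinv₁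
  obtain ⟨h₂, hne₂, hodd₂, hinv₂⟩ := hinv w hwA hw1
  obtain ⟨w₂, hw₂A, hw₂1, hw₂w, hw₂h₂⟩ := htype w hwA hw1 h₂ hne₂ hodd₂ hinv₂
  have h3 : ∀ x ∈ A, x ≠ 1 → x = v₁ ∨ x = w ∨ x = v₁ * w := by
    intro x hx hx1
    by_cases e1 : x = v₁
    · exact Or.inl e1
    by_cases e2 : x = w
    · exact Or.inr (Or.inl e2)
    right; right
    have h4 := IsKleinFour.eq_mul_of_ne_all (G := A) (x := ⟨v₁, hv₁A⟩) (y := ⟨w, hwA⟩)
      (z := ⟨x, hx⟩) (fun e => hv₁1 (congrArg Subtype.val e))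
      (fun e => hw1 (congrArg Subtype.val e)) (fun e => hwv (congrArg Subtype.val e).symm)
      (fun e => hx1 (congrArg Subtype.val e)) (fun e => e1 (congrArg Subtype.val e))
      (fun e => e2 (congrArg Subtype.val e))
    exact congrArg Subtype.val h4
  by_cases hcase : w₂ = v₁
  · rw [hcase] at hw₂h₂
    exact klein_mixed_false A hcomm hsq hyp v₁ w hv₁A hwA (fun e => hwv e.symm) h3 h₁ h₂ hodd₁ hodd₂
      hne₁ hne₂ hinv₁ hwh₁ hinv₂ hw₂h₂
  · have hw₂eq : w₂ = v₁ * w := by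
      rcases h3 w₂ hw₂A hw₂1 with e | e | e
      · exact absurd e hcase
      · exact absurd e hw₂w
      · exact e
    have hww : w * w = 1 := hsq w hwA
    have h3' : ∀ x ∈ A, x ≠ 1 → x = w₂ ∨ x = w ∨ x = w₂ * w := by
      intro x hx hx1
      have e4 : w₂ * w = v₁ := by rw [hw₂eq, mul_assoc, hww, mul_one]
      rw [e4]
      rcases h3 x hx hx1 with e | e | e
      · exact Or.inr (Or.inr e)
      · exact Or.inr (Or.inl e)
      · exact Or.inl (by rw [hw₂eq]; exact e)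
    have hw₂h₁ : w₂ * h₁ * w₂⁻¹ = h₁⁻¹ := by
      have e5 : w₂ * h₁ * w₂⁻¹ = v₁ * (w * h₁ * w⁻¹) * v₁⁻¹ := by rw [hw₂eq]; group
      rw [e5, hwh₁, hinv₁]
    exact klein_mixed_false A hcomm hsq hyp w₂ w hw₂A hwA hw₂w h3' h₁ h₂ hodd₁ hodd₂
      hne₁ hne₂ hw₂h₁ hwh₁ hinv₂ hw₂h₂

end

end Cfsg.Agent.Lib.Helper5
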