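import Mathlib
import Cfsg.Prelude
import Cfsg.Agent.Lib.Helper5.Large5

set_option autoImplicit false

namespace Cfsg.Agent.Lib.Helper5

section

variable {H : Type*} [Group H] {p : ℕ}

/-- If a large `p`-subgroup `Q` normalizes a nontrivial `p`-subgroup `Y`, then `C_H(Y)`
normalizes `Q`. -/
theorem large_centralizer_le_normalizer5 [Finite H] [Fact p.Prime] (Q : Subgroup H)
    (hQp : IsPGroup p ↥Q) (hL : Cfsg.IsLarge Q) (Y : Subgroup H)
    (hYp : IsPGroup p ↥Y) (hY1 : Y ≠ ⊥) (hQY : Q ≤ Subgroup.normalizer (Y : Set H)) :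
    Subgroup.centralizer (Y : Set H) ≤ Subgroup.normalizer (Q : Set H) := by
  obtain ⟨y, hyY, hy1, hyQ⟩ := exists_fixed_of_normalized5 Y Q hYp hQp hQY hY1
  have hU : Subgroup.zpowers y ≤ Subgroup.centralizer (Q : Set H) := by
    rw [Subgroup.zpowers_le, Subgroup.mem_centralizer_iff]
    intro q hq
    exact hyQ q hq
  have hU1 : Subgroup.zpowers y ≠ ⊥ := by
    rw [Ne, Subgroup.zpowers_eq_bot]; exact hy1
  have hNU := hL.2 _ hU hU1
  intro d hd
  apply hNU
  apply Subgroup.centralizer_le_normalizer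
  rw [Subgroup.mem_centralizer_iff]
  intro z hz
  obtain ⟨k, rfl⟩ := Subgroup.mem_zpowers_iff.mp hz
  have h1 : Commute y d := Subgroup.mem_centralizer_iff.mp hd y hyY
  exact (h1.zpow_left k).eq

/-- The same for conjugates of `Q`. -/
theorem large_conj_centralizer_le_normalizer5 [Finite H] [Fact p.Prime] (Q : Subgroup H)
    (hQp : IsPGroup p ↥Q) (hQ1 : Q ≠ ⊥) (hL : Cfsg.IsLarge Q) (Y : Subgroup H)
    (hYp : IsPGroup p ↥Y) (hY1 : Y ≠ ⊥) (a : H)
    (hQY : Q.map (MulAut.conj a).toMonoidHom ≤ Subgroup.normalizer (Y : Set H)) :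
    Subgroup.centralizer (Y : Set H) ≤
      Subgroup.normalizer ((Q.map (MulAut.conj a).toMonoidHom : Subgroup H) : Set H) :=
  large_centralizer_le_normalizer5 _ (hQp.map _) (isLarge_map_equiv5 Q hL (MulAut.conj a)) Y hYp
    hY1 hQY

/-- Weak closures of a large subgroup in `L` and in `L C_H(Y)`. -/
theorem large_weakClosure_centralizer5 [Finite H] [Fact p.Prime] (Q : Subgroup H)
    (hQp : IsPGroup p ↥Q) (hQ1 : Q ≠ ⊥) (hL : Cfsg.IsLarge Q) (L : Subgroup H) (hQL : Q ≤ L)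
    (Y : Subgroup H) (hYp : IsPGroup p ↥Y) (hY1 : Y ≠ ⊥)
    (hLY : L ≤ Subgroup.normalizer ((Y : Subgroup H) : Set H)) :
    Cfsg.weakClosure Q L = Cfsg.weakClosure Q (L ⊔ Subgroup.centralizer ((Y : Subgroup H) : Set H)) ∧
      ⁅Cfsg.weakClosure Q L, Subgroup.centralizer ((Y : Subgroup H) : Set H)⁆ ≤
        (Cfsg.pCoreOf p (Cfsg.weakClosure Q L)) ∧
      Subgroup.centralizer ((Y : Subgroup H) : Set H) ≤
        Subgroup.normalizer (((Cfsg.weakClosure Q L) : Subgroup H) : Set H) := by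
  have hwc := large_weaklyClosed5 Q hQp hQ1 hL
  obtain ⟨C, hCdef⟩ : ∃ C : Subgroup H, C = Subgroup.centralizer (Y : Set H) := ⟨_, rfl⟩
  rw [← hCdef]
  have hLC : L ≤ Subgroup.normalizer (C : Set H) := by
    rw [hCdef]; exact Cfsg.Agent.Lib.Helper4.le_normalizer_centralizer hLY
  -- `C` normalizes every conjugate of `Q` inside `L`
  have hCN : ∀ a : H, Q.map (MulAut.conj a).toMonoidHom ≤ L →
      C ≤ Subgroup.normalizer ((Q.map (MulAut.conj a).toMonoidHom : Subgroup H) : Set H) := by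
    intro a ha
    rw [hCdef]
    exact large_conj_centralizer_le_normalizer5 Q hQp hQ1 hL Y hYp hY1 a (ha.trans hLY)
  obtain ⟨W, hWdef⟩ : ∃ W : Subgroup H, W = Cfsg.weakClosure Q L := ⟨_, rfl⟩
  rw [← hWdef]
  have hgenW : ∀ a : H, Q.map (MulAut.conj a).toMonoidHom ≤ L →
      Q.map (MulAut.conj a).toMonoidHom ≤ W := by
    intro a ha
    rw [hWdef]; exact le_weakClosure5 Q L a ha
  have hWle : ∀ X : Subgroup H, (∀ a : H, Q.map (MulAut.conj a).toMonoidHom ≤ L →
      Q.map (MulAut.conj a).toMonoidHom ≤ X) → W ≤ X := by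
    intro X hX
    rw [hWdef]
    unfold Cfsg.weakClosure
    apply iSup_le
    rintro ⟨a, ha⟩
    exact hX a ha
  have hWL : W ≤ L := hWle L (fun a ha => ha)
  -- third claim
  have hCW : C ≤ Subgroup.normalizer (W : Set H) := by
    apply Cfsg.Agent.Lib.Helper4.le_normalizer_of_conj_mem
    intro c hc w hw
    have h1 : W ≤ W.comap (MulAut.conj c).toMonoidHom := by
      apply hWle
      intro a ha x hx
      rw [Subgroup.mem_comap]
      exact hgenW a ha (Cfsg.Agent.Lib.Helper4.conj_mem_of_mem_normalizer (hCN a ha hc) hx)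
    exact h1 hw
  refine ⟨?_, ?_, hCW⟩
  · -- first claim
    rw [hWdef]
    apply le_antisymm
    · rw [← hWdef]
      apply hWle
      intro a ha
      exact le_weakClosure5 Q _ a (ha.trans le_sup_left)
    · unfold Cfsg.weakClosure
      apply iSup_le
      rintro ⟨g, hg⟩
      have hgL : Q.map (MulAut.conj g).toMonoidHom ≤ L := by
        obtain ⟨x, hxK, hx⟩ := weaklyClosed_frattini5 Q hQp hwc (L ⊔ C) (hQL.trans le_sup_left) g
          (fun q hq => hg ⟨q, hq, rfl⟩)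
        have hset := Subgroup.coe_mul_of_left_le_normalizer_right L C hLC
        have hx' : x ∈ ((L ⊔ C : Subgroup H) : Set H) := hxK
        rw [sup_comm] at hx'
        have hset2 := Subgroup.coe_mul_of_right_le_normalizer_left C L hLC
        rw [hset2] at hx'
        obtain ⟨c, hc, l, hl, rfl⟩ := Set.mem_mul.mp hx'
        have hlL : Q.map (MulAut.conj l).toMonoidHom ≤ L := by
          rintro _ ⟨q, hq, rfl⟩
          exact L.mul_mem (L.mul_mem hl (hQL hq)) (L.inv_mem hl)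
        rintro _ ⟨q, hq, rfl⟩
        have hq' : (c * l)⁻¹ * g * q * ((c * l)⁻¹ * g)⁻¹ ∈ Q :=
          Cfsg.Agent.Lib.Helper4.conj_mem_of_mem_normalizer hx hq
        have h1 : (MulAut.conj g).toMonoidHom q =
            c * (l * ((c * l)⁻¹ * g * q * ((c * l)⁻¹ * g)⁻¹) * l⁻¹) * c⁻¹ := by
          simp only [MulEquiv.coe_toMonoidHom, MulAut.conj_apply]
          group
        rw [h1]
        exact hlL (Cfsg.Agent.Lib.Helper4.conj_mem_of_mem_normalizer (hCN l hlL hc)
          ⟨_, hq', rfl⟩)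
      exact le_weakClosure5 Q L g hgL
  · -- second claim
    obtain ⟨O, hOdef⟩ : ∃ O : Subgroup H, O = Cfsg.pCoreOf p W := ⟨_, rfl⟩
    rw [← hOdef]
    have hWO : W ≤ Subgroup.normalizer (O : Set H) := by
      rw [hOdef]; exact Subgroup.le_normalizer.trans (normalizer_le_normalizer_pCoreOf5 W)
    obtain ⟨Z₀, hZdef⟩ : ∃ Z₀ : Subgroup H, Z₀ = W ⊓ C := ⟨_, rfl⟩
    have hZW : Z₀ ≤ W := hZdef ▸ inf_le_left
    have hZC : Z₀ ≤ C := hZdef ▸ inf_le_right
    have hWZ : W ≤ Subgroup.normalizer (Z₀ : Set H) := by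
      rw [hZdef]
      exact Cfsg.Agent.Lib.Helper4.le_normalizer_inf Subgroup.le_normalizer (hWL.trans hLC)
    have hOZ : Cfsg.pCoreOf p Z₀ ≤ O := by
      rw [hOdef]
      exact le_pCoreOf5 ((pCoreOf_le5 Z₀).trans hZW)
        (hWZ.trans (normalizer_le_normalizer_pCoreOf5 Z₀)) (pCoreOf_isPGroup5 Z₀)
    have hgen : ∀ a : H, Q.map (MulAut.conj a).toMonoidHom ≤ L →
        ∀ q ∈ Q.map (MulAut.conj a).toMonoidHom, ∀ c ∈ C, q * c * q⁻¹ * c⁻¹ ∈ O := by
      intro a ha q hq c hc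
      apply hOZ
      have hX : Q.map (MulAut.conj a).toMonoidHom ⊓ Z₀ ≤ Cfsg.pCoreOf p Z₀ :=
        le_pCoreOf5 inf_le_right
          (Cfsg.Agent.Lib.Helper4.le_normalizer_inf (hZC.trans (hCN a ha)) Subgroup.le_normalizer)
          ((hQp.map _).to_le inf_le_left)
      apply hX
      have hqQ : q * c * q⁻¹ * c⁻¹ ∈ Q.map (MulAut.conj a).toMonoidHom := by
        have h1 : q * c * q⁻¹ * c⁻¹ = q * (c * q⁻¹ * c⁻¹) := by group
        rw [h1]
        exact Subgroup.mul_mem _ hq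
          (Cfsg.Agent.Lib.Helper4.conj_mem_of_mem_normalizer (hCN a ha hc) (Subgroup.inv_mem _ hq))
      refine ⟨hqQ, ?_⟩
      rw [hZdef]
      exact ⟨hgenW a ha hqQ,
        C.mul_mem (Cfsg.Agent.Lib.Helper4.conj_mem_of_mem_normalizer (hLC (ha hq)) hc)
          (C.inv_mem hc)⟩
    let S₁ : Subgroup H :=
      { carrier := {w | w ∈ Subgroup.normalizer (O : Set H) ∧ ∀ c ∈ C, w * c * w⁻¹ * c⁻¹ ∈ O}
        one_mem' := ⟨Subgroup.one_mem _, fun c _ => by simp [Subgroup.one_mem]⟩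
        mul_mem' := by
          rintro x y ⟨hx, hx'⟩ ⟨hy, hy'⟩
          refine ⟨Subgroup.mul_mem _ hx hy, fun c hc => ?_⟩
          have h1 : x * y * c * (x * y)⁻¹ * c⁻¹ =
              x * (y * c * y⁻¹ * c⁻¹) * x⁻¹ * (x * c * x⁻¹ * c⁻¹) := by group
          rw [h1]
          exact O.mul_mem (Cfsg.Agent.Lib.Helper4.conj_mem_of_mem_normalizer hx (hy' c hc))
            (hx' c hc)
        inv_mem' := by
          rintro x ⟨hx, hx'⟩
          refine ⟨Subgroup.inv_mem _ hx, fun c hc => ?_⟩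
          have h1 : x⁻¹ * c * x⁻¹⁻¹ * c⁻¹ = x⁻¹ * (x * c * x⁻¹ * c⁻¹)⁻¹ * x⁻¹⁻¹ := by group
          rw [h1]
          exact Cfsg.Agent.Lib.Helper4.conj_mem_of_mem_normalizer (Subgroup.inv_mem _ hx)
            (O.inv_mem (hx' c hc)) }
    have hWS : W ≤ S₁ := by
      apply hWle
      intro a ha q hq
      exact ⟨hWO (hgenW a ha hq), hgen a ha q hq⟩
    rw [commutator_le5]
    intro w hw c hc
    exact (hWS hw).2 c hc

end

end Cfsg.Agent.Lib.Helper5
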