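import Mathlib
import Cfsg.Prelude.Def_CaseTheorems
import Cfsg.Prelude.Def_IsolatedElements
import Cfsg.Agent.Lib.Lead.UniqueSub
import Cfsg.Agent.Lib.Helper7.CyclicSylow
import Cfsg.Agent.Lib.Helper5.IsolatedCentral5

set_option autoImplicit false

namespace Cfsg.Agent.Lib.Helper5

theorem closure_pair_comm5 {G : Type*} [Group G] (y z : G) (h : y * z = z * y) :
    ∀ a ∈ Subgroup.closure ({y, z} : Set G), ∀ b ∈ Subgroup.closure ({y, z} : Set G),
      a * b = b * a := by
  have h2 : Subgroup.closure ({y, z} : Set G) ≤ Subgroup.centralizer ({y, z} : Set G) := by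
    rw [Subgroup.closure_le]
    intro a ha
    rw [SetLike.mem_coe, Subgroup.mem_centralizer_iff]
    intro b hb
    rcases ha with rfl | ha <;> rcases hb with rfl | hb
    · rfl
    · rw [Set.mem_singleton_iff] at hb; subst hb; exact h.symm
    · rw [Set.mem_singleton_iff] at ha; subst ha; exact h
    · rw [Set.mem_singleton_iff] at ha hb; subst ha; subst hb; rfl
  intro a ha b hb
  have h3 : Subgroup.closure ({y, z} : Set G) ≤ Subgroup.centralizer ({a} : Set G) := by
    rw [Subgroup.closure_le]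
    intro c hc
    rw [SetLike.mem_coe, Subgroup.mem_centralizer_iff]
    intro d hd
    rw [Set.mem_singleton_iff] at hd; subst hd
    exact (Subgroup.mem_centralizer_iff.mp (h2 ha) c hc).symm
  exact Subgroup.mem_centralizer_iff.mp (h3 hb) a rfl

theorem closure_pair_exp5 {G : Type*} [Group G] (y z : G) (h : y * z = z * y) (n : ℕ)
    (hy : y ^ n = 1) (hz : z ^ n = 1) :
    ∀ a ∈ Subgroup.closure ({y, z} : Set G), a ^ n = 1 := by
  intro a ha
  induction ha using Subgroup.closure_induction with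
  | mem x hx =>
    rcases hx with rfl | hx
    · exact hy
    · rw [Set.mem_singleton_iff] at hx; subst hx; exact hz
  | one => simp
  | mul x w hx hw ihx ihw =>
    have hc : Commute x w := closure_pair_comm5 y z h x hx w hw
    rw [hc.mul_pow, ihx, ihw, one_mul]
  | inv x hx ihx => rw [inv_pow, ihx, inv_one]

theorem prank_one_isolated5 {G : Type*} [Group G] [Finite G] {p : ℕ} [Fact p.Prime] (hp : p ≠ 2)
    (hrk : Cfsg.PRankLE p 1 G) (x : G) (hx : orderOf x = p) (hiso : Cfsg.IsIsolated x) :
    Cfsg.InZStar p x := by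
  have hpp : p.Prime := Fact.out
  have hxp : x ^ p ^ 1 = 1 := by rw [pow_one, ← hx]; exact pow_orderOf_eq_one x
  obtain ⟨P, hP⟩ := (isPGroup_zpowers5 x 1 hxp).exists_le_sylow
  have hxP : x ∈ P := hP (Subgroup.mem_zpowers x)
  have hx1 : x ≠ 1 := by
    intro h; rw [h, orderOf_one] at hx; exact hpp.one_lt.ne hx
  haveI : Nontrivial (P : Subgroup G) :=
    ⟨⟨⟨x, hxP⟩, 1, fun h => hx1 (congrArg Subtype.val h)⟩⟩
  haveI : Nontrivial (Subgroup.center (P : Subgroup G)) := P.isPGroup'.center_nontrivial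
  have hdvd : p ∣ Nat.card (Subgroup.center (P : Subgroup G)) := by
    have hZp : IsPGroup p (Subgroup.center (P : Subgroup G)) :=
      P.isPGroup'.to_subgroup _
    rcases hZp.card_eq_or_dvd with h | h
    · exfalso
      have := (Nat.card_eq_one_iff_unique.mp h).1
      exact not_subsingleton _ this
    · exact h
  obtain ⟨z0, hz0⟩ := exists_prime_orderOf_dvd_card' p hdvd
  -- z : G
  obtain ⟨z, hzP, hzo, hzc⟩ : ∃ z : G, z ∈ P ∧ orderOf z = p ∧ ∀ y ∈ P, y * z = z * y := by
    refine ⟨((z0 : (P : Subgroup G)) : G), (z0 : (P : Subgroup G)).2, ?_, ?_⟩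
    · rw [Subgroup.orderOf_coe, Subgroup.orderOf_coe]; exact hz0
    · intro y hy
      have h1 := Subgroup.mem_center_iff.mp z0.2 ⟨y, hy⟩
      exact congrArg Subtype.val h1
  have hzp : z ^ p = 1 := by rw [← hzo]; exact pow_orderOf_eq_one z
  have hzcard : Nat.card (Subgroup.zpowers z) = p := by rw [Nat.card_zpowers, hzo]
  have hkey : ∀ y : G, y ∈ P → y ^ p = 1 → y ∈ Subgroup.zpowers z := by
    intro y hy hyp
    have hyz : y * z = z * y := hzc y hy
    have hAc : IsMulCommutative (Subgroup.closure ({y, z} : Set G)) :=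
      IsMulCommutative.of_setLike_mul_comm (closure_pair_comm5 y z hyz)
    have hAe := closure_pair_exp5 y z hyz p hyp hzp
    have hAcard := hrk _ hAc hAe
    rw [pow_one] at hAcard
    have hle : Subgroup.zpowers z ≤ Subgroup.closure ({y, z} : Set G) := by
      rw [Subgroup.zpowers_le]
      exact Subgroup.subset_closure (by simp)
    have heq := Subgroup.eq_of_le_of_card_ge hle (by rw [hzcard]; exact hAcard)
    rw [heq]
    exact Subgroup.subset_closure (by simp)
  have huniq : ∀ H K : Subgroup (P : Subgroup G), Nat.card H = p → Nat.card K = p → H = K := by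
    have hone : ∀ H : Subgroup (P : Subgroup G), Nat.card H = p →
        H = Subgroup.zpowers (⟨z, hzP⟩ : (P : Subgroup G)) := by
      intro H hH
      have hle : H ≤ Subgroup.zpowers (⟨z, hzP⟩ : (P : Subgroup G)) := by
        intro h hh
        have h1 : (⟨h, hh⟩ : H) ^ Nat.card H = 1 := pow_card_eq_one'
        have h2 : ((h : (P : Subgroup G)) : G) ^ p = 1 := by
          rw [hH] at h1
          have h3 := congrArg Subtype.val (congrArg Subtype.val h1)
          simpa using h3
        obtain ⟨j, hj⟩ := Subgroup.mem_zpowers_iff.mp (hkey _ h.2 h2)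
        rw [Subgroup.mem_zpowers_iff]
        refine ⟨j, ?_⟩
        apply Subtype.ext
        rw [Subgroup.coe_zpow]
        exact hj
      have hc : Nat.card (Subgroup.zpowers (⟨z, hzP⟩ : (P : Subgroup G))) = p := by
        rw [Nat.card_zpowers, Subgroup.orderOf_mk]; exact hzo
      exact Subgroup.eq_of_le_of_card_ge hle (by rw [hc, hH])
    intro H K hH hK
    rw [hone H hH, hone K hK]
  have hcyc : IsCyclic (P : Subgroup G) := by
    rcases Cfsg.Agent.Lib.Lead.unique_sub_cyclic_or_quat p P.isPGroup' huniq with h | h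
    · exact h
    · exact absurd h.1 hp
  obtain ⟨N, hNn, hNc, hNcomm⟩ := Cfsg.Agent.Lib.Helper7.burnside_cyclic P hcyc (by
    intro g hg t ht k hzt hgt hmem
    have hxt : x ∈ Subgroup.zpowers t := by rw [hzt]; exact hxP
    obtain ⟨j, hj⟩ := Subgroup.mem_zpowers_iff.mp hxt
    have h1 : g * x * g⁻¹ = x ^ k := by
      rw [← hj, ← zpow_mul, mul_comm, zpow_mul, ← hgt]
      exact (map_zpow (MulAut.conj g) t j)
    have h2 : g * x * g⁻¹ = x := by
      apply hiso g
      rw [h1]
      exact (Commute.refl x).zpow_right k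
    have h3 : x ^ (k - 1) = 1 := by
      rw [zpow_sub_one, ← h1, h2, mul_inv_cancel]
    have h4 : (p : ℤ) ∣ k - 1 := by
      rw [← hx]; exact orderOf_dvd_iff_zpow_eq_one.mpr h3
    obtain ⟨m, hm⟩ := h4
    obtain ⟨i, hi⟩ := Subgroup.mem_zpowers_iff.mp hmem
    have h5 : t ^ ((k - 1) * i - 1) = 1 := by
      rw [zpow_sub_one, zpow_mul, hi, mul_inv_cancel]
    have h6 : (orderOf t : ℤ) ∣ (k - 1) * i - 1 := orderOf_dvd_iff_zpow_eq_one.mpr h5
    have h7 : (p : ℤ) ∣ (orderOf t : ℤ) := by
      have := orderOf_dvd_of_mem_zpowers hxt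
      rw [hx] at this
      exact Int.natCast_dvd_natCast.mpr this
    have h8 : (p : ℤ) ∣ (k - 1) * i - 1 := dvd_trans h7 h6
    have h9 : (p : ℤ) ∣ 1 := by
      have h10 : (p : ℤ) ∣ (k - 1) * i := by rw [hm]; exact ⟨m * i, by ring⟩
      have h11 := dvd_sub h10 h8
      simpa using h11
    have h12 : p ∣ 1 := Int.natCast_dvd_natCast.mp (by simpa using h9)
    exact hpp.one_lt.ne' (Nat.dvd_one.mp h12))
  intro g
  have hcop : (Nat.card N).Coprime p := by
    rw [← hNc.index_eq_card]
    exact (Nat.Coprime.symm ((Nat.Prime.coprime_iff_not_dvd hpp).mpr P.not_dvd_index))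
  have hle : N ≤ Cfsg.pPrimeCore p G := le_sSup ⟨hNn, hcop⟩
  exact hle (hNcomm g x)

end Cfsg.Agent.Lib.Helper5
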