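import Mathlib
import Cfsg.Prelude
import Cfsg.Agent.Lib.Helper5.Large5
import Cfsg.Agent.Lib.Helper5.FStarLocal
import Cfsg.Agent.Lib.Helper4.CharP
import Cfsg.Agent.Lib.Helper4.PReduced2
import Cfsg.Agent.Lib.Helper2.FStar

set_option autoImplicit false

namespace Cfsg.Agent.Lib.Helper5

universe u

section

variable {G : Type u} [Group G] {p : ℕ}

/-- `C_X(O_p(X)) ≤ O_p(X)` implies `F*(X) = O_p(X)`. -/
theorem genFitting_eq_pCore_of_charP5 {X : Type u} [Group X] [Finite X] (p : ℕ) [hp : Fact p.Prime]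
    (h : Subgroup.centralizer (Cfsg.pCore p X : Set X) ≤ Cfsg.pCore p X) :
    Cfsg.generalizedFittingSubgroup X = Cfsg.pCore p X := by
  have hpg := pCore_isPGroup5 p X
  have hPn := pCore_normal5 p X
  apply Cfsg.Agent.Lib.Helper2.genFitting_eq_pCore_of_no_comp p
  · rw [eq_bot_iff]
    intro d hd
    have hDn : (Cfsg.pPrimeCore p X).Normal := Cfsg.pPrimeCore_normal p X
    have hcop := Cfsg.Agent.Lib.Helper2.pPrimeCore_card_coprime p X
    have hdc : d ∈ Subgroup.centralizer (Cfsg.pCore p X : Set X) := by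
      rw [Subgroup.mem_centralizer_iff]
      intro y hy
      have hcD : y * d * y⁻¹ * d⁻¹ ∈ Cfsg.pPrimeCore p X :=
        (Cfsg.pPrimeCore p X).mul_mem (hDn.conj_mem d hd y) ((Cfsg.pPrimeCore p X).inv_mem hd)
      have hcP : y * d * y⁻¹ * d⁻¹ ∈ Cfsg.pCore p X := by
        have h1 : d * y⁻¹ * d⁻¹ ∈ Cfsg.pCore p X :=
          hPn.conj_mem _ ((Cfsg.pCore p X).inv_mem hy) d
        have h2 : y * d * y⁻¹ * d⁻¹ = y * (d * y⁻¹ * d⁻¹) := by group
        rw [h2]
        exact (Cfsg.pCore p X).mul_mem hy h1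
      obtain ⟨k, hk⟩ := hpg ⟨_, hcP⟩
      have hk' : (y * d * y⁻¹ * d⁻¹) ^ (p ^ k) = 1 := congrArg Subtype.val hk
      have hc1 := Cfsg.Agent.Lib.Helper2.eq_one_of_mem_of_pow_prime_pow p _ hcop _ hcD k hk'
      calc y * d = y * d * y⁻¹ * d⁻¹ * (d * y) := by group
        _ = d * y := by rw [hc1, one_mul]
    obtain ⟨k, hk⟩ := hpg ⟨d, h hdc⟩
    have hk' : d ^ (p ^ k) = 1 := congrArg Subtype.val hk
    rw [Subgroup.mem_bot]
    exact Cfsg.Agent.Lib.Helper2.eq_one_of_mem_of_pow_prime_pow p _ hcop d hd k hk'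
  · intro K hK
    apply Cfsg.Agent.Lib.Helper2.component_not_isPGroup p K hK
    have h1 : K ≤ Subgroup.centralizer (Cfsg.pCore p X : Set X) :=
      ((Cfsg.Agent.Lib.Helper2.component_le_layer K hK).trans
        (Cfsg.Agent.Lib.Helper2.layer_le_centralizer_fitting X)).trans
        (Subgroup.centralizer_le (Cfsg.Agent.Lib.Helper2.pCore_le_fitting p X))
    exact hpg.to_le (h1.trans h)

/-- `F*(X) = O_p(X)` implies `C_X(O_p(X)) ≤ O_p(X)`. -/
theorem charP_of_genFitting_eq_pCore5 {X : Type u} [Group X] [Finite X] (p : ℕ)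
    (h : Cfsg.generalizedFittingSubgroup X = Cfsg.pCore p X) :
    Subgroup.centralizer (Cfsg.pCore p X : Set X) ≤ Cfsg.pCore p X := by
  have := Cfsg.Agent.Lib.Helper2.centralizer_genFitting_le X
  rw [h] at this
  exact this

/-- `F* = O_p` transfers along isomorphisms. -/
theorem genFitting_eq_pCore_of_mulEquiv5 {A B : Type u} [Group A] [Group B] [Finite A] [Finite B]
    (p : ℕ) [Fact p.Prime] (e : A ≃* B)
    (h : Cfsg.generalizedFittingSubgroup A = Cfsg.pCore p A) :
    Cfsg.generalizedFittingSubgroup B = Cfsg.pCore p B :=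
  genFitting_eq_pCore_of_charP5 p (charP_of_mulEquiv e (charP_of_genFitting_eq_pCore5 p h))

/-- The isomorphism `C_G(z) ≅ C_G(h z h⁻¹)`. -/
def centralizerConjEquiv5 (z h : G) :
    ↥(Subgroup.centralizer ({z} : Set G)) ≃* ↥(Subgroup.centralizer ({h * z * h⁻¹} : Set G)) where
  toFun x := ⟨h * (x : G) * h⁻¹, by
    have hx := Subgroup.mem_centralizer_singleton_iff.mp x.2
    rw [Subgroup.mem_centralizer_singleton_iff]
    calc h * (x : G) * h⁻¹ * (h * z * h⁻¹) = h * ((x : G) * z) * h⁻¹ := by group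
      _ = h * (z * (x : G)) * h⁻¹ := by rw [hx]
      _ = h * z * h⁻¹ * (h * (x : G) * h⁻¹) := by group⟩
  invFun y := ⟨h⁻¹ * (y : G) * h, by
    have hy := Subgroup.mem_centralizer_singleton_iff.mp y.2
    rw [Subgroup.mem_centralizer_singleton_iff]
    calc h⁻¹ * (y : G) * h * z = h⁻¹ * ((y : G) * (h * z * h⁻¹)) * h := by group
      _ = h⁻¹ * ((h * z * h⁻¹) * (y : G)) * h := by rw [hy]
      _ = z * (h⁻¹ * (y : G) * h) := by group⟩
  left_inv x := by
    apply Subtype.ext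
    show h⁻¹ * (h * (x : G) * h⁻¹) * h = (x : G)
    group
  right_inv y := by
    apply Subtype.ext
    show h * (h⁻¹ * (y : G) * h) * h⁻¹ = (y : G)
    group
  map_mul' x y := by
    apply Subtype.ext
    show h * ((x : G) * (y : G)) * h⁻¹ = h * (x : G) * h⁻¹ * (h * (y : G) * h⁻¹)
    group

theorem centralizer_singleton_eq_zpowers5 (z : G) :
    Subgroup.centralizer ({z} : Set G) =
      Subgroup.centralizer ((Subgroup.zpowers z : Subgroup G) : Set G) := by
  apply le_antisymm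
  · intro c hc
    rw [Subgroup.mem_centralizer_singleton_iff] at hc
    rw [Subgroup.mem_centralizer_iff]
    intro y hy
    obtain ⟨k, rfl⟩ := Subgroup.mem_zpowers_iff.mp hy
    have h1 : Commute z c := hc.symm
    exact (h1.zpow_left k).eq
  · apply Subgroup.centralizer_le
    intro y hy
    rw [Set.mem_singleton_iff] at hy
    rw [hy]
    exact Subgroup.mem_zpowers z

/-- In a group of parabolic characteristic `p`, centralizers of nontrivial central elements of a
Sylow `p`-subgroup have characteristic `p`. -/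
theorem genFitting_centralizer_of_parabolicChar5 [Finite G] [Fact p.Prime]
    (hG : Cfsg.IsOfParabolicCharacteristic p G) (S : Sylow p G) (z : G) (hz1 : z ≠ 1)
    (hzS : z ∈ (S : Subgroup G)) (hzc : ∀ s ∈ (S : Subgroup G), s * z = z * s) :
    Cfsg.generalizedFittingSubgroup ↥(Subgroup.centralizer ({z} : Set G)) =
      Cfsg.pCore p ↥(Subgroup.centralizer ({z} : Set G)) := by
  have hRp : IsPGroup p ↥(Subgroup.zpowers z) :=
    S.isPGroup'.to_le (Subgroup.zpowers_le.mpr hzS)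
  have hR1 : Subgroup.zpowers z ≠ ⊥ := by
    rw [Ne, Subgroup.zpowers_eq_bot]; exact hz1
  have hSC : (S : Subgroup G) ≤ Subgroup.centralizer ((Subgroup.zpowers z : Subgroup G) : Set G) := by
    rw [← centralizer_singleton_eq_zpowers5]
    intro s hs
    rw [Subgroup.mem_centralizer_singleton_iff]
    exact hzc s hs
  have hpar : Cfsg.IsParabolic p
      (Subgroup.normalizer ((Subgroup.zpowers z : Subgroup G) : Set G)) :=
    ⟨S, hSC.trans (Subgroup.centralizer_le_normalizer _)⟩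
  have hchar := hG _ hRp hR1 hpar
  have hn : ((Subgroup.centralizer ((Subgroup.zpowers z : Subgroup G) : Set G)).subgroupOf
      (Subgroup.normalizer ((Subgroup.zpowers z : Subgroup G) : Set G))).Normal :=
    Subgroup.normal_subgroupOf_centralizer_normalizer _
  have h1 := Cfsg.Agent.Lib.Helper4.charP_of_normal hchar _ hn
  have h2 := charP_of_mulEquiv
    (Subgroup.subgroupOfEquivOfLe (Subgroup.centralizer_le_normalizer
      ((Subgroup.zpowers z : Subgroup G) : Set G))) h1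
  have h3 := charP_of_mulEquiv
    (MulEquiv.subgroupCongr (centralizer_singleton_eq_zpowers5 z).symm) h2
  exact genFitting_eq_pCore_of_charP5 p h3

/-- Parabolic characteristic `p` from the centralizers of the central elements of order `p` of
a Sylow `p`-subgroup. -/
theorem parabolicChar_of_central5 [Finite G] [Fact p.Prime] (S : Sylow p G)
    (h : ∀ z : G, z ≠ 1 → z ∈ (S : Subgroup G) → (∀ s ∈ (S : Subgroup G), s * z = z * s) →
      z ^ p = 1 →
      Cfsg.generalizedFittingSubgroup ↥(Subgroup.centralizer ({z} : Set G)) =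
        Cfsg.pCore p ↥(Subgroup.centralizer ({z} : Set G))) :
    Cfsg.IsOfParabolicCharacteristic p G := by
  rintro R hRp hR1 ⟨T', hT'⟩
  obtain ⟨h₀, hh⟩ := MulAction.exists_smul_eq G S T'
  have hRT : R ≤ (T' : Subgroup G) :=
    (le_pCoreOf5 Subgroup.le_normalizer le_rfl hRp).trans
      (Cfsg.Agent.Lib.Helper4.pCoreOf_le_sylow T' _ hT')
  obtain ⟨y, hyR, hy1, hyT⟩ := exists_fixed_of_normalized5 R (T' : Subgroup G) hRp T'.isPGroup'
    hT' hR1
  have hne : R ⊓ Subgroup.centralizer ((T' : Subgroup G) : Set G) ≠ ⊥ := by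
    intro hbot
    have : y ∈ R ⊓ Subgroup.centralizer ((T' : Subgroup G) : Set G) :=
      ⟨hyR, Subgroup.mem_centralizer_iff.mpr hyT⟩
    rw [hbot, Subgroup.mem_bot] at this
    exact hy1 this
  obtain ⟨t, htT, hto, -⟩ := Cfsg.Agent.Lib.Helper2.exists_central_order_p p
    (R ⊓ Subgroup.centralizer ((T' : Subgroup G) : Set G)) (hRp.to_le inf_le_left) hne
  have htR : t ∈ R := htT.1
  have htc : ∀ q ∈ (T' : Subgroup G), q * t = t * q := Subgroup.mem_centralizer_iff.mp htT.2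
  have ht1 : t ≠ 1 := by
    intro h1
    rw [h1, orderOf_one] at hto
    exact (Fact.out : p.Prime).one_lt.ne hto
  have htp : t ^ p = 1 := by rw [← hto]; exact pow_orderOf_eq_one t
  have hzS : h₀⁻¹ * t * h₀ ∈ (S : Subgroup G) := by
    have := hRT htR
    rw [← hh, mem_smul_sylow_iff5] at this
    exact this
  have hz1 : h₀⁻¹ * t * h₀ ≠ 1 := by
    intro h1
    apply ht1
    calc t = h₀ * (h₀⁻¹ * t * h₀) * h₀⁻¹ := by group
      _ = 1 := by rw [h1]; group
  have hzc : ∀ s ∈ (S : Subgroup G), s * (h₀⁻¹ * t * h₀) = (h₀⁻¹ * t * h₀) * s := by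
    intro s hs
    have hs' : h₀ * s * h₀⁻¹ ∈ (T' : Subgroup G) := by
      rw [← hh, mem_smul_sylow_iff5]
      have : h₀⁻¹ * (h₀ * s * h₀⁻¹) * h₀ = s := by group
      rw [this]; exact hs
    have h1 := htc _ hs'
    calc s * (h₀⁻¹ * t * h₀) = h₀⁻¹ * ((h₀ * s * h₀⁻¹) * t) * h₀ := by group
      _ = h₀⁻¹ * (t * (h₀ * s * h₀⁻¹)) * h₀ := by rw [h1]
      _ = (h₀⁻¹ * t * h₀) * s := by group
  have hzp : (h₀⁻¹ * t * h₀) ^ p = 1 := by
    have h1 : h₀⁻¹ * t * h₀ = h₀⁻¹ * t * h₀⁻¹⁻¹ := by group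
    rw [h1, conj_pow, htp]
    group
  have hz := h _ hz1 hzS hzc hzp
  have hz' := genFitting_eq_pCore_of_mulEquiv5 p (centralizerConjEquiv5 (h₀⁻¹ * t * h₀) h₀) hz
  have hconj : h₀ * (h₀⁻¹ * t * h₀) * h₀⁻¹ = t := by group
  rw [hconj] at hz'
  have hN := Cfsg.Agent.Lib.Helper2.genFitting_normalizer_aux p R _ _ t hRp htR rfl rfl hz'
    (fun x hx => htc x (hRT hx))
  exact charP_of_genFitting_eq_pCore5 p hN

/-- Local characteristic `p` from the centralizers of the elements of order `p` of a Sylow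
`p`-subgroup. -/
theorem localChar_of_order_p5 [Finite G] [Fact p.Prime] (hdiv : p ∣ Nat.card G) (S : Sylow p G)
    (h : ∀ z : G, z ∈ (S : Subgroup G) → orderOf z = p →
      Cfsg.generalizedFittingSubgroup ↥(Subgroup.centralizer ({z} : Set G)) =
        Cfsg.pCore p ↥(Subgroup.centralizer ({z} : Set G))) :
    Cfsg.IsOfLocalCharacteristic p G := by
  refine ⟨hdiv, ?_⟩
  intro T hTp hT1
  obtain ⟨T', hT'⟩ := hTp.exists_le_sylow
  obtain ⟨h₀, hh⟩ := MulAction.exists_smul_eq G S T'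
  obtain ⟨t, htT, hto, htc⟩ := Cfsg.Agent.Lib.Helper2.exists_central_order_p p T hTp hT1
  have hzS : h₀⁻¹ * t * h₀ ∈ (S : Subgroup G) := by
    have := hT' htT
    rw [← hh, mem_smul_sylow_iff5] at this
    exact this
  have hzo : orderOf (h₀⁻¹ * t * h₀) = p := by
    have h1 : h₀⁻¹ * t * h₀ = (MulAut.conj h₀⁻¹).toMonoidHom t := by
      simp [MulAut.conj_apply]
    rw [h1, orderOf_injective _ (MulAut.conj h₀⁻¹).injective, hto]
  have hz := h _ hzS hzo
  have hz' := genFitting_eq_pCore_of_mulEquiv5 p (centralizerConjEquiv5 (h₀⁻¹ * t * h₀) h₀) hz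
  have hconj : h₀ * (h₀⁻¹ * t * h₀) * h₀⁻¹ = t := by group
  rw [hconj] at hz'
  have hN := Cfsg.Agent.Lib.Helper2.genFitting_normalizer_aux p T _ _ t hTp htT rfl rfl hz' htc
  exact charP_of_genFitting_eq_pCore5 p hN

/-- The intersection of a Sylow `p`-subgroup with a subnormal subgroup is a Sylow `p`-subgroup
of it. -/
theorem sylow_inf_subnormal5 [Finite G] [Fact p.Prime] (P : Sylow p G) (N : Subgroup G)
    (hN : N.IsSubnormal) : ∃ S : Sylow p ↥N, (S : Subgroup ↥N) = (P : Subgroup G).subgroupOf N := by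
  induction hN with
  | top => exact ⟨P.subtype le_top, Sylow.coe_subtype _ _⟩
  | step H K h_le hSubn hNorm ih =>
    obtain ⟨SK, hSK⟩ := ih
    obtain ⟨S', hS'⟩ := sylow_inf_normal5 SK (H.subgroupOf K)
    let e : ↥(H.subgroupOf K) ≃* ↥H := Subgroup.subgroupOfEquivOfLe h_le
    have hφ : Function.Injective e.symm.toMonoidHom := e.symm.injective
    refine ⟨S'.comapOfInjective e.symm.toMonoidHom hφ (by
      intro x _
      exact ⟨e x, by simp⟩), ?_⟩
    show (S' : Subgroup ↥(H.subgroupOf K)).comap e.symm.toMonoidHom = _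
    ext x
    rw [Subgroup.mem_comap, hS', Subgroup.mem_subgroupOf, hSK, Subgroup.mem_subgroupOf,
      Subgroup.mem_subgroupOf]
    rfl

/-- Subnormal subgroups inherit parabolic characteristic `p` under a condition on centres. -/
theorem parabolicChar_subnormal5 [Finite G] [Fact p.Prime]
    (hG : Cfsg.IsOfParabolicCharacteristic p G) (S : Sylow p G) (G₁ : Subgroup G)
    (hsn : G₁.IsSubnormal)
    (hcent : ∀ z ∈ ((S : Subgroup G) ⊓ G₁) ⊓
        Subgroup.centralizer (((S : Subgroup G) ⊓ G₁ : Subgroup G) : Set G), z ^ p = 1 →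
      z ∈ (S : Subgroup G) ⊓ Subgroup.centralizer ((S : Subgroup G) : Set G)) :
    Cfsg.IsOfParabolicCharacteristic p ↥G₁ := by
  obtain ⟨S₁, hS₁⟩ := sylow_inf_subnormal5 S G₁ hsn
  apply parabolicChar_of_central5 S₁
  intro z₁ hz1 hzS hzc hzp
  have hzS' : (z₁ : G) ∈ (S : Subgroup G) := by
    rw [hS₁, Subgroup.mem_subgroupOf] at hzS
    exact hzS
  have hzp' : (z₁ : G) ^ p = 1 := by
    have := congrArg Subtype.val hzp
    simpa using this
  have hz1' : (z₁ : G) ≠ 1 := fun h => hz1 (Subtype.ext h)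
  have hmem : (z₁ : G) ∈ ((S : Subgroup G) ⊓ G₁) ⊓
      Subgroup.centralizer (((S : Subgroup G) ⊓ G₁ : Subgroup G) : Set G) := by
    refine ⟨⟨hzS', z₁.2⟩, ?_⟩
    show (z₁ : G) ∈ Subgroup.centralizer (((S : Subgroup G) ⊓ G₁ : Subgroup G) : Set G)
    rw [Subgroup.mem_centralizer_iff]
    intro y hy
    have hy' : (⟨y, hy.2⟩ : ↥G₁) ∈ (S₁ : Subgroup ↥G₁) := by
      rw [hS₁, Subgroup.mem_subgroupOf]; exact hy.1
    exact congrArg Subtype.val (hzc _ hy')
  have hZ := hcent _ hmem hzp'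
  have hF := genFitting_centralizer_of_parabolicChar5 hG S (z₁ : G) hz1' hZ.1
    (Subgroup.mem_centralizer_iff.mp hZ.2)
  have hchar := charP_of_genFitting_eq_pCore5 p hF
  obtain ⟨C, hCdef⟩ : ∃ C : Subgroup G, C = Subgroup.centralizer ({(z₁ : G)} : Set G) := ⟨_, rfl⟩
  rw [← hCdef] at hchar
  have h1 := charP_of_subnormal_aux (p := p) (Nat.card ↥C) ↥C le_rfl hchar (G₁.subgroupOf C)
    hsn.subgroupOf
  have e1 : ↥((G₁ ⊓ C).subgroupOf C) ≃* ↥(G₁ ⊓ C) := Subgroup.subgroupOfEquivOfLe inf_le_right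
  have e2 : ↥((G₁ ⊓ C).subgroupOf G₁) ≃* ↥(G₁ ⊓ C) := Subgroup.subgroupOfEquivOfLe inf_le_left
  have hh1 : (G₁ ⊓ C).subgroupOf C = G₁.subgroupOf C := Subgroup.inf_subgroupOf_right G₁ C
  have hh2 : (G₁ ⊓ C).subgroupOf G₁ = C.subgroupOf G₁ := Subgroup.inf_subgroupOf_left C G₁
  have hh3 : C.subgroupOf G₁ = Subgroup.centralizer ({z₁} : Set ↥G₁) := by
    ext x
    rw [Subgroup.mem_subgroupOf, hCdef, Subgroup.mem_centralizer_singleton_iff,
      Subgroup.mem_centralizer_singleton_iff]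
    constructor
    · intro hx; exact Subtype.ext hx
    · intro hx; exact congrArg Subtype.val hx
  have e : ↥(G₁.subgroupOf C) ≃* ↥(Subgroup.centralizer ({z₁} : Set ↥G₁)) :=
    (MulEquiv.subgroupCongr hh1.symm).trans (e1.trans (e2.symm.trans
      ((MulEquiv.subgroupCongr hh2).trans (MulEquiv.subgroupCongr hh3))))
  exact genFitting_eq_pCore_of_charP5 p (charP_of_mulEquiv e h1)

end

end Cfsg.Agent.Lib.Helper5
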