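import Mathlib

set_option autoImplicit false

namespace Cfsg.Agent.Lib.Helper5

universe u v w

open Matrix Polynomial

section SL2

variable {F : Type u} [Field F] [Fintype F]

theorem sl2_two_ne_zero5 (hF : Odd (Fintype.card F)) : (2 : F) ≠ 0 := by
  obtain ⟨p, hp⟩ := CharP.exists F
  haveI := hp
  obtain ⟨n, hpp, hcard⟩ := FiniteField.card F p
  intro h2
  have h3 : ((2 : ℕ) : F) = 0 := by exact_mod_cast h2
  rw [CharP.cast_eq_zero_iff F p 2] at h3
  have hp2 : p = 2 := (Nat.prime_dvd_prime_iff_eq hpp Nat.prime_two).1 h3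
  subst hp2
  rw [hcard] at hF
  exact (Nat.not_even_iff_odd.2 hF) (Nat.even_pow.2 ⟨even_two, n.ne_zero⟩)

/-- the element `J` of order four -/
def sl2J5 (F : Type u) [Field F] : Matrix.SpecialLinearGroup (Fin 2) F :=
  ⟨!![0, -1; 1, 0], by simp [Matrix.det_fin_two_of]⟩

/-- the central involution -/
def sl2Z5 (F : Type u) [Field F] : Matrix.SpecialLinearGroup (Fin 2) F :=
  ⟨!![-1, 0; 0, -1], by simp [Matrix.det_fin_two_of]⟩

omit [Fintype F] in
theorem sl2J5_sq : sl2J5 F * sl2J5 F = sl2Z5 F := by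
  apply Subtype.ext
  show !![(0 : F), -1; 1, 0] * !![(0 : F), -1; 1, 0] = !![-1, 0; 0, -1]
  rw [Matrix.mul_fin_two]; simp

omit [Fintype F] in
theorem sl2Z5_sq : sl2Z5 F * sl2Z5 F = 1 := by
  apply Subtype.ext
  show !![(-1 : F), 0; 0, -1] * !![(-1 : F), 0; 0, -1] = 1
  rw [Matrix.mul_fin_two, Matrix.one_fin_two]; simp

omit [Fintype F] in
theorem sl2Z5_ne (h2 : (2 : F) ≠ 0) : sl2Z5 F ≠ 1 := by
  intro h
  have h1 : (!![(-1 : F), 0; 0, -1] : Matrix (Fin 2) (Fin 2) F) 0 0 =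
      (1 : Matrix (Fin 2) (Fin 2) F) 0 0 := by
    have := congrArg Subtype.val h
    exact congrFun (congrFun this 0) 0
  have h3 : (-1 : F) = 1 := by simpa using h1
  apply h2; linear_combination -h3

omit [Fintype F] in
theorem sl2_sq_one5 (h2 : (2 : F) ≠ 0) (A : Matrix.SpecialLinearGroup (Fin 2) F)
    (h : A * A = 1) : A = 1 ∨ A = sl2Z5 F := by
  induction A using Matrix.SpecialLinearGroup.fin_two_induction with
  | h a b c d hdet =>
    have hm : !![a, b; c, d] * !![a, b; c, d] = (1 : Matrix (Fin 2) (Fin 2) F) :=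
      congrArg Subtype.val h
    rw [Matrix.mul_fin_two, Matrix.one_fin_two] at hm
    have h00 : a * a + b * c = 1 := congrFun (congrFun hm 0) 0
    have h01 : a * b + b * d = 0 := congrFun (congrFun hm 0) 1
    have h10 : c * a + d * c = 0 := congrFun (congrFun hm 1) 0
    by_cases hs : a + d = 0
    · exfalso
      have hd : d = -a := by linear_combination hs
      subst hd
      apply h2; linear_combination -h00 - hdet
    · have hb : b = 0 := by
        have : b * (a + d) = 0 := by linear_combination h01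
        rcases mul_eq_zero.1 this with h | h
        · exact h
        · exact absurd h hs
      have hc : c = 0 := by
        have : c * (a + d) = 0 := by linear_combination h10
        rcases mul_eq_zero.1 this with h | h
        · exact h
        · exact absurd h hs
      subst hb; subst hc
      have ha : a * a = 1 := by linear_combination h00
      have had : a * d = 1 := by linear_combination hdet
      have hda : d = a := by linear_combination a * had - d * ha
      subst hda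
      have hfac : (d - 1) * (d + 1) = 0 := by linear_combination ha
      rcases mul_eq_zero.1 hfac with h | h
      · left
        have h1 : d = 1 := by linear_combination h
        subst h1
        apply Subtype.ext
        exact Matrix.one_fin_two.symm
      · right
        have h1 : d = -1 := by linear_combination h
        subst h1
        rfl

theorem sl2_sq_neg5 (hF : Odd (Fintype.card F)) (A : Matrix.SpecialLinearGroup (Fin 2) F)
    (h : A * A = sl2Z5 F) : ∃ g : Matrix.SpecialLinearGroup (Fin 2) F, g * sl2J5 F * g⁻¹ = A := by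
  have h2 := sl2_two_ne_zero5 hF
  induction A using Matrix.SpecialLinearGroup.fin_two_induction with
  | h a b c d hdet =>
    have hm : !![a, b; c, d] * !![a, b; c, d] = (!![-1, 0; 0, -1] : Matrix (Fin 2) (Fin 2) F) :=
      congrArg Subtype.val h
    rw [Matrix.mul_fin_two] at hm
    have h00 : a * a + b * c = -1 := congrFun (congrFun hm 0) 0
    have h01 : a * b + b * d = 0 := congrFun (congrFun hm 0) 1
    have h10 : c * a + d * c = 0 := congrFun (congrFun hm 1) 0
    have hs : a + d = 0 := by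
      by_contra hs
      have hb : b = 0 := by
        have : b * (a + d) = 0 := by linear_combination h01
        rcases mul_eq_zero.1 this with h | h
        · exact h
        · exact absurd h hs
      have hc : c = 0 := by
        have : c * (a + d) = 0 := by linear_combination h10
        rcases mul_eq_zero.1 this with h | h
        · exact h
        · exact absurd h hs
      subst hb; subst hc
      have ha : a * a = -1 := by linear_combination h00
      have had : a * d = 1 := by linear_combination hdet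
      apply hs; linear_combination -a * had + d * ha
    have hd : d = -a := by linear_combination hs
    subst hd
    obtain ⟨v₁, v₂, hv⟩ : ∃ v₁ v₂ : F, c * v₁ ^ 2 - 2 * a * v₁ * v₂ - b * v₂ ^ 2 = 1 := by
      by_cases hc0 : c = 0
      · subst hc0
        have ha0 : a ≠ 0 := by
          rintro rfl
          simp at hdet
        have h2a : 2 * a * (2 * a)⁻¹ = 1 := mul_inv_cancel₀ (mul_ne_zero h2 ha0)
        refine ⟨-(1 + b) * (2 * a)⁻¹, 1, ?_⟩
        linear_combination (1 + b) * h2a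
      · have hf : degree (C c * X ^ 2 : F[X]) = 2 := by
          rw [degree_C_mul_X_pow 2 hc0]; rfl
        have hg : degree (C c⁻¹ * X ^ 2 - C 1 : F[X]) = 2 := by
          have h1 : degree (C c⁻¹ * X ^ 2 : F[X]) = 2 := by
            rw [degree_C_mul_X_pow 2 (inv_ne_zero hc0)]; rfl
          rw [degree_sub_C (by rw [h1]; norm_num), h1]
        have hodd : Fintype.card F % 2 = 1 := Nat.odd_iff.1 hF
        obtain ⟨u, w, huw⟩ := FiniteField.exists_root_sum_quadratic hf hg hodd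
        simp only [eval_mul, eval_C, eval_pow, eval_X, eval_sub] at huw
        have hcc : c * c⁻¹ = 1 := mul_inv_cancel₀ hc0
        have huw' : c * u ^ 2 + c⁻¹ * w ^ 2 = 1 := by linear_combination huw
        refine ⟨u + a * c⁻¹ * w, w, ?_⟩
        linear_combination huw' + (2 * a * u * w + a ^ 2 * c⁻¹ * w ^ 2 + b * w ^ 2) * hcc -
          (c⁻¹ * w ^ 2) * h00
    refine ⟨⟨!![v₁, a * v₁ + b * v₂; v₂, c * v₁ - a * v₂], by
      rw [Matrix.det_fin_two_of]; linear_combination hv⟩, ?_⟩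
    apply mul_inv_eq_iff_eq_mul.2
    apply Subtype.ext
    show !![v₁, a * v₁ + b * v₂; v₂, c * v₁ - a * v₂] * !![(0 : F), -1; 1, 0] =
      !![a, b; c, -a] * !![v₁, a * v₁ + b * v₂; v₂, c * v₁ - a * v₂]
    rw [Matrix.mul_fin_two, Matrix.mul_fin_two]
    have e1 : a * (a * v₁ + b * v₂) + b * (c * v₁ - a * v₂) = v₁ * -1 + (a * v₁ + b * v₂) * 0 := by
      linear_combination v₁ * h00
    have e2 : c * (a * v₁ + b * v₂) + -a * (c * v₁ - a * v₂) = v₂ * -1 + (c * v₁ - a * v₂) * 0 := by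
      linear_combination v₂ * h00
    rw [e1, e2]
    ext i j
    fin_cases i <;> fin_cases j <;> simp <;> ring

end SL2

theorem mem_sup_of_commute5 {G : Type w} [Group G] (L₁ L₂ : Subgroup G)
    (hc : ∀ x ∈ L₁, ∀ y ∈ L₂, x * y = y * x) (g : G) (hg : g ∈ L₁ ⊔ L₂) :
    ∃ a ∈ L₁, ∃ b ∈ L₂, g = a * b := by
  rw [Subgroup.sup_eq_closure_mul] at hg
  induction hg using Subgroup.closure_induction with
  | mem x hx =>
    obtain ⟨a, ha, b, hb, rfl⟩ := Set.mem_mul.1 hx
    exact ⟨a, ha, b, hb, rfl⟩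
  | one => exact ⟨1, L₁.one_mem, 1, L₂.one_mem, (mul_one 1).symm⟩
  | mul x y _ _ hx hy =>
    obtain ⟨a, ha, b, hb, rfl⟩ := hx
    obtain ⟨a', ha', b', hb', rfl⟩ := hy
    refine ⟨a * a', L₁.mul_mem ha ha', b * b', L₂.mul_mem hb hb', ?_⟩
    have := hc a' ha' b hb
    calc a * b * (a' * b') = a * (b * a') * b' := by group
      _ = a * (a' * b) * b' := by rw [this]
      _ = _ := by group
  | inv x _ hx =>
    obtain ⟨a, ha, b, hb, rfl⟩ := hx
    refine ⟨a⁻¹, L₁.inv_mem ha, b⁻¹, L₂.inv_mem hb, ?_⟩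
    have := hc a⁻¹ (L₁.inv_mem ha) b⁻¹ (L₂.inv_mem hb)
    rw [_root_.mul_inv_rev, this]

theorem sl2_factor5 {G : Type w} [Group G] {F : Type u} [Field F] [Fintype F]
    (hF : Odd (Fintype.card F)) (L : Subgroup G)
    (e : ↥L ≃* Matrix.SpecialLinearGroup (Fin 2) F) (j : G) (hjL : j ∈ L) (hj2 : j * j = 1)
    (hj1 : j ≠ 1) :
    (∀ a ∈ L, a * a = 1 → a = 1 ∨ a = j) ∧
    ∃ a₀ ∈ L, a₀ * a₀ = j ∧ ∀ a ∈ L, a * a = j → ∃ g ∈ L, g * a₀ * g⁻¹ = a := by
  have h2 := sl2_two_ne_zero5 hF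
  have hjZ : e ⟨j, hjL⟩ = sl2Z5 F := by
    have h'' : e ⟨j, hjL⟩ * e ⟨j, hjL⟩ = 1 := by
      rw [← map_mul]
      have : (⟨j, hjL⟩ : ↥L) * ⟨j, hjL⟩ = 1 := Subtype.ext hj2
      rw [this, map_one]
    rcases sl2_sq_one5 h2 _ h'' with h | h
    · exfalso; apply hj1
      have := e.injective (h.trans (map_one e).symm)
      exact congrArg Subtype.val this
    · exact h
  refine ⟨?_, ?_⟩
  · intro a ha h
    have h' : e ⟨a, ha⟩ * e ⟨a, ha⟩ = 1 := by
      rw [← map_mul]
      have : (⟨a, ha⟩ : ↥L) * ⟨a, ha⟩ = 1 := Subtype.ext h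
      rw [this, map_one]
    rcases sl2_sq_one5 h2 _ h' with h | h
    · left
      have := e.injective (h.trans (map_one e).symm)
      exact congrArg Subtype.val this
    · right
      have := e.injective (h.trans hjZ.symm)
      exact congrArg Subtype.val this
  · refine ⟨(e.symm (sl2J5 F) : G), (e.symm (sl2J5 F)).2, ?_, ?_⟩
    · have : e.symm (sl2J5 F) * e.symm (sl2J5 F) = ⟨j, hjL⟩ := by
        apply e.injective
        rw [map_mul, e.apply_symm_apply, sl2J5_sq, hjZ]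
      exact congrArg Subtype.val this
    · intro a ha haj
      have h' : e ⟨a, ha⟩ * e ⟨a, ha⟩ = sl2Z5 F := by
        rw [← map_mul, ← hjZ]
        congr 1
        exact Subtype.ext haj
      obtain ⟨g, hg⟩ := sl2_sq_neg5 hF _ h'
      refine ⟨(e.symm g : G), (e.symm g).2, ?_⟩
      have : e.symm g * e.symm (sl2J5 F) * (e.symm g)⁻¹ = ⟨a, ha⟩ := by
        apply e.injective
        rw [map_mul, map_mul, map_inv, e.apply_symm_apply, e.apply_symm_apply, hg]
      exact congrArg Subtype.val this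

/-- S3209 -/
theorem sl2_central_product_invol5 {G : Type w} [Group G]
    {F₁ : Type u} [Field F₁] [Fintype F₁] {F₂ : Type v} [Field F₂] [Fintype F₂]
    (hF₁ : Odd (Fintype.card F₁)) (hF₂ : Odd (Fintype.card F₂)) (L₁ L₂ : Subgroup G)
    (e₁ : ↥L₁ ≃* Matrix.SpecialLinearGroup (Fin 2) F₁)
    (e₂ : ↥L₂ ≃* Matrix.SpecialLinearGroup (Fin 2) F₂)
    (hc : ∀ x ∈ L₁, ∀ y ∈ L₂, x * y = y * x) (j : G) (hj : orderOf j = 2)
    (hm : L₁ ⊓ L₂ = Subgroup.zpowers j) :
    ∃ x ∈ L₁ ⊔ L₂, orderOf x = 2 ∧ x ≠ j ∧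
      ∀ y ∈ L₁ ⊔ L₂, orderOf y = 2 → y = j ∨ ∃ g ∈ L₁ ⊔ L₂, g * x * g⁻¹ = y := by
  have hj2 : j * j = 1 := by
    have := pow_orderOf_eq_one j
    rwa [hj, pow_two] at this
  have hj1 : j ≠ 1 := by
    intro h
    rw [h, orderOf_one] at hj
    omega
  have hjm : j ∈ L₁ ⊓ L₂ := by rw [hm]; exact Subgroup.mem_zpowers j
  have hjL₁ : j ∈ L₁ := hjm.1
  have hjL₂ : j ∈ L₂ := hjm.2
  have hmem : ∀ t, t ∈ L₁ → t ∈ L₂ → t = 1 ∨ t = j := by
    intro t h1 h2
    have : t ∈ Subgroup.zpowers j := by rw [← hm]; exact ⟨h1, h2⟩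
    obtain ⟨k, rfl⟩ := Subgroup.mem_zpowers_iff.1 this
    rcases Int.even_or_odd k with ⟨r, rfl⟩ | ⟨r, rfl⟩
    · left; rw [← two_mul, _root_.zpow_mul, zpow_two, hj2, _root_.one_zpow]
    · right; rw [_root_.zpow_add, _root_.zpow_mul, zpow_two, hj2, _root_.one_zpow, one_mul, zpow_one]
  obtain ⟨hsq1, a₀, ha₀L, ha₀, hconj1⟩ := sl2_factor5 hF₁ L₁ e₁ j hjL₁ hj2 hj1
  obtain ⟨hsq2, b₀, hb₀L, hb₀, hconj2⟩ := sl2_factor5 hF₂ L₂ e₂ j hjL₂ hj2 hj1
  have hab₀ : a₀ * b₀ = b₀ * a₀ := hc a₀ ha₀L b₀ hb₀L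
  have hx2 : (a₀ * b₀) * (a₀ * b₀) = 1 := by
    calc (a₀ * b₀) * (a₀ * b₀) = a₀ * (b₀ * a₀) * b₀ := by group
      _ = a₀ * (a₀ * b₀) * b₀ := by rw [hab₀]
      _ = (a₀ * a₀) * (b₀ * b₀) := by group
      _ = 1 := by rw [ha₀, hb₀, hj2]
  have ha₀ne : ¬ (a₀ ∈ L₂) := by
    intro h
    rcases hmem a₀ ha₀L h with h1 | h1
    · rw [h1, one_mul] at ha₀; exact hj1 ha₀.symm
    · rw [h1, hj2] at ha₀; exact hj1 ha₀.symm
  have hx1 : a₀ * b₀ ≠ 1 := by
    intro h
    apply ha₀ne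
    have : a₀ = b₀⁻¹ := eq_inv_of_mul_eq_one_left h
    rw [this]; exact L₂.inv_mem hb₀L
  have hxj : a₀ * b₀ ≠ j := by
    intro h
    apply ha₀ne
    have : a₀ = j * b₀⁻¹ := by rw [← h]; group
    rw [this]; exact L₂.mul_mem hjL₂ (L₂.inv_mem hb₀L)
  refine ⟨a₀ * b₀, Subgroup.mul_mem _ (Subgroup.mem_sup_left ha₀L) (Subgroup.mem_sup_right hb₀L),
    orderOf_eq_prime_iff.2 ⟨by rw [pow_two]; exact hx2, hx1⟩, hxj, ?_⟩
  intro y hy hyo
  have hy2 : y * y = 1 := by
    have := pow_orderOf_eq_one y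
    rwa [hyo, pow_two] at this
  have hy1 : y ≠ 1 := by
    intro h
    rw [h, orderOf_one] at hyo
    omega
  obtain ⟨a, ha, b, hb, rfl⟩ := mem_sup_of_commute5 L₁ L₂ hc y hy
  have hab : a * b = b * a := hc a ha b hb
  have h4 : (a * a) * (b * b) = 1 := by
    calc (a * a) * (b * b) = a * (a * b) * b := by group
      _ = a * (b * a) * b := by rw [hab]
      _ = (a * b) * (a * b) := by group
      _ = 1 := hy2
  have haa : a * a = (b * b)⁻¹ := eq_inv_of_mul_eq_one_left h4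
  have haaL₂ : a * a ∈ L₂ := by rw [haa]; exact L₂.inv_mem (L₂.mul_mem hb hb)
  rcases hmem (a * a) (L₁.mul_mem ha ha) haaL₂ with h5 | h5
  · have hbb : b * b = 1 := by rw [h5, one_mul] at h4; exact h4
    left
    rcases hsq1 a ha h5 with h6 | h6 <;> rcases hsq2 b hb hbb with h7 | h7
    · exfalso; apply hy1; rw [h6, h7, one_mul]
    · rw [h6, h7, one_mul]
    · rw [h6, h7, mul_one]
    · exfalso; apply hy1; rw [h6, h7, hj2]
  · have hbb : b * b = j := by
      rw [h5] at h4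
      have : b * b = j⁻¹ := eq_inv_of_mul_eq_one_right h4
      rw [this]; exact inv_eq_of_mul_eq_one_right hj2
    right
    obtain ⟨g₁, hg₁L, hg₁⟩ := hconj1 a ha h5
    obtain ⟨g₂, hg₂L, hg₂⟩ := hconj2 b hb hbb
    refine ⟨g₁ * g₂, Subgroup.mul_mem _ (Subgroup.mem_sup_left hg₁L)
      (Subgroup.mem_sup_right hg₂L), ?_⟩
    rw [← hg₁, ← hg₂]
    have c1 := hc a₀ ha₀L g₂ hg₂L
    have c2 := hc g₁⁻¹ (L₁.inv_mem hg₁L) (g₂ * b₀ * g₂⁻¹)
      (L₂.mul_mem (L₂.mul_mem hg₂L hb₀L) (L₂.inv_mem hg₂L))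
    calc g₁ * g₂ * (a₀ * b₀) * (g₁ * g₂)⁻¹ = g₁ * (g₂ * a₀) * b₀ * g₂⁻¹ * g₁⁻¹ := by group
      _ = g₁ * (a₀ * g₂) * b₀ * g₂⁻¹ * g₁⁻¹ := by rw [c1]
      _ = g₁ * a₀ * ((g₂ * b₀ * g₂⁻¹) * g₁⁻¹) := by group
      _ = g₁ * a₀ * (g₁⁻¹ * (g₂ * b₀ * g₂⁻¹)) := by rw [c2]
      _ = g₁ * a₀ * g₁⁻¹ * (g₂ * b₀ * g₂⁻¹) := by group

end Cfsg.Agent.Lib.Helper5
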