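import Mathlib
import Cfsg.Agent.Lib.Helper5.CD
import Cfsg.Agent.Lib.Helper5.ParaChar5
import Cfsg.Agent.Lib.Helper1.Subn
import Cfsg.Agent.Lib.Helper1.ThompsonJ
import Cfsg.Agent.Lib.Helper4.Normalizer

set_option autoImplicit false

universe u

namespace Cfsg.Agent.Lib.Helper5

open scoped commutatorElement

variable {G : Type u} [Group G]

/-- The order of `S ∩ A` for a Sylow `p`-subgroup `S` and a subnormal subgroup `A`. -/
theorem card_sylow_inf_subnormal5 [Finite G] {p : ℕ} [Fact p.Prime] (S : Sylow p G)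
    (A : Subgroup G) (hA : A.IsSubnormal) :
    Nat.card ↥((S : Subgroup G) ⊓ A) = p ^ (Nat.card A).factorization p := by
  obtain ⟨S', hS'⟩ := sylow_inf_subnormal5 S A hA
  have h1 := Sylow.card_eq_multiplicity S'
  have h2 : Nat.card ↥(S' : Subgroup ↥A) = Nat.card ↥((S : Subgroup G) ⊓ A) := by
    rw [hS', ← Subgroup.inf_subgroupOf_right]
    exact Nat.card_congr (Subgroup.subgroupOfEquivOfLe inf_le_right).toEquiv
  rw [← h2]
  exact h1

/-- A `p`-subgroup of `A` has order at most the `p`-part of `|A|`. -/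
theorem card_le_of_isPGroup_le5 [Finite G] {p : ℕ} [Fact p.Prime] (Q A : Subgroup G)
    (hQ : IsPGroup p Q) (hQA : Q ≤ A) : Nat.card Q ≤ p ^ (Nat.card A).factorization p := by
  have hp : p.Prime := Fact.out
  obtain ⟨k, hk⟩ := IsPGroup.iff_card.mp hQ
  have hdvd : p ^ k ∣ Nat.card A := by
    rw [← hk]; exact Subgroup.card_dvd_of_le hQA
  have hle : k ≤ (Nat.card A).factorization p :=
    (hp.pow_dvd_iff_le_factorization Nat.card_pos.ne').mp hdvd
  rw [hk]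
  exact Nat.pow_le_pow_right hp.pos hle

/-- Sylow intersection with a product of two subnormal subgroups, one normalizing the other. -/
theorem sylow_inf_sup_of_le_normalizer5 [Finite G] {p : ℕ} [Fact p.Prime] (S : Sylow p G)
    (A B : Subgroup G) (hA : A.IsSubnormal) (hB : B.IsSubnormal)
    (h : A ≤ Subgroup.normalizer (B : Set G)) :
    (S : Subgroup G) ⊓ (A ⊔ B) = ((S : Subgroup G) ⊓ A) ⊔ ((S : Subgroup G) ⊓ B) := by
  have hp : p.Prime := Fact.out
  have hle : ((S : Subgroup G) ⊓ A) ⊔ ((S : Subgroup G) ⊓ B) ≤ (S : Subgroup G) ⊓ (A ⊔ B) :=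
    le_inf (sup_le inf_le_left inf_le_left) (sup_le_sup inf_le_right inf_le_right)
  symm
  apply Subgroup.eq_of_le_of_card_ge hle
  have h1 : Nat.card ↥((S : Subgroup G) ⊓ (A ⊔ B)) ≤ p ^ (Nat.card ↥(A ⊔ B)).factorization p :=
    card_le_of_isPGroup_le5 _ _ (S.isPGroup'.to_le inf_le_left) inf_le_right
  have h2 := card_mul_card_le_sup_inf ((S : Subgroup G) ⊓ A) ((S : Subgroup G) ⊓ B)
  have h3 : ((S : Subgroup G) ⊓ A) ⊓ ((S : Subgroup G) ⊓ B) = (S : Subgroup G) ⊓ (A ⊓ B) :=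
    inf_inf_distrib_left _ _ _ |>.symm
  rw [h3, card_sylow_inf_subnormal5 S A hA, card_sylow_inf_subnormal5 S B hB,
    card_sylow_inf_subnormal5 S (A ⊓ B) (hA.inf hB)] at h2
  have h4 := Cfsg.Agent.Lib.Helper1.card_sup_mul_card_inf A B h
  have h5 : (Nat.card ↥(A ⊔ B)).factorization p + (Nat.card ↥(A ⊓ B)).factorization p =
      (Nat.card A).factorization p + (Nat.card B).factorization p := by
    have h7 : (Nat.card ↥(A ⊔ B) * Nat.card ↥(A ⊓ B)).factorization p =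
        (Nat.card A * Nat.card B).factorization p := by rw [h4]
    rw [Nat.factorization_mul Nat.card_pos.ne' Nat.card_pos.ne',
      Nat.factorization_mul Nat.card_pos.ne' Nat.card_pos.ne'] at h7
    simpa using h7
  rw [← pow_add, ← h5, pow_add] at h2
  have h6 : p ^ (Nat.card ↥(A ⊔ B)).factorization p ≤
      Nat.card ↥(((S : Subgroup G) ⊓ A) ⊔ ((S : Subgroup G) ⊓ B)) :=
    Nat.le_of_mul_le_mul_right h2 (pow_pos hp.pos _)
  exact h1.trans h6

/-- `B` is generated by its elements of order prime to `p`. -/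
def IsPPerf5 (p : ℕ) (B : Subgroup G) : Prop :=
  B ≤ Subgroup.closure {x : G | x ∈ B ∧ (orderOf x).Coprime p}

theorem isPPerf_sup5 {p : ℕ} {B₁ B₂ : Subgroup G} (h₁ : IsPPerf5 p B₁) (h₂ : IsPPerf5 p B₂) :
    IsPPerf5 p (B₁ ⊔ B₂) := by
  unfold IsPPerf5 at *
  apply sup_le
  · exact h₁.trans (Subgroup.closure_mono (fun x hx => ⟨Subgroup.mem_sup_left hx.1, hx.2⟩))
  · exact h₂.trans (Subgroup.closure_mono (fun x hx => ⟨Subgroup.mem_sup_right hx.1, hx.2⟩))

theorem isPPerf_bot5 {p : ℕ} : IsPPerf5 p (⊥ : Subgroup G) := by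
  unfold IsPPerf5
  exact bot_le

theorem isPPerf_map5 {H : Type*} [Group H] {p : ℕ} {B : Subgroup G} (f : G →* H)
    (h : IsPPerf5 p B) : IsPPerf5 p (B.map f) := by
  unfold IsPPerf5 at *
  have h1 : B.map f ≤ (Subgroup.closure {x : G | x ∈ B ∧ (orderOf x).Coprime p}).map f :=
    Subgroup.map_mono h
  refine h1.trans ?_
  rw [MonoidHom.map_closure]
  apply Subgroup.closure_mono
  rintro _ ⟨x, ⟨hxB, hxc⟩, rfl⟩
  exact ⟨Subgroup.mem_map_of_mem f hxB, Nat.Coprime.coprime_dvd_left (orderOf_map_dvd f x) hxc⟩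

theorem isPPerf_subgroupOf5 {p : ℕ} {B J : Subgroup G} (hBJ : B ≤ J) (h : IsPPerf5 p B) :
    IsPPerf5 p (B.subgroupOf J) := by
  unfold IsPPerf5 at *
  rw [← Subgroup.map_le_map_iff_of_injective (Subgroup.subtype_injective J),
    Subgroup.subgroupOf_map_subtype, MonoidHom.map_closure]
  refine (inf_le_left.trans h).trans ?_
  apply Subgroup.closure_mono
  rintro x ⟨hxB, hxc⟩
  refine ⟨⟨x, hBJ hxB⟩, ⟨?_, ?_⟩, rfl⟩
  · rw [Subgroup.mem_subgroupOf]; exact hxB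
  · rw [Subgroup.orderOf_mk]; exact hxc

/-- A hom from a group generated by `p'`-elements to a `p`-group is trivial. -/
theorem hom_eq_one_of_isPPerf5 {Q : Type*} [Group Q] {p : ℕ} [Fact p.Prime]
    (hperf : IsPPerf5 p (⊤ : Subgroup G)) (hQ : IsPGroup p Q) (ψ : G →* Q) (g : G) : ψ g = 1 := by
  have hker : ψ.ker = ⊤ := by
    rw [eq_top_iff]
    refine hperf.trans ?_
    rw [Subgroup.closure_le]
    rintro x ⟨-, hxc⟩
    show x ∈ ψ.ker
    rw [MonoidHom.mem_ker]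
    obtain ⟨k, hk⟩ := hQ (ψ x)
    have h1 : orderOf (ψ x) ∣ p ^ k := orderOf_dvd_of_pow_eq_one hk
    have h2 : orderOf (ψ x) ∣ orderOf x := orderOf_map_dvd ψ x
    have h3 : (orderOf (ψ x)).Coprime (p ^ k) :=
      Nat.Coprime.coprime_dvd_left h2 (Nat.Coprime.pow_right k hxc)
    have h4 : orderOf (ψ x) = 1 := Nat.Coprime.eq_one_of_dvd h3 h1
    exact orderOf_eq_one_iff.mp h4
  have : g ∈ ψ.ker := by rw [hker]; trivial
  exact MonoidHom.mem_ker.mp this

theorem comm_central5 (x₁ x₂ n₁ n₂ : G) (h₁ : ∀ g, g * n₁ = n₁ * g) (h₂ : ∀ g, g * n₂ = n₂ * g) :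
    (x₁ * n₁) * (x₂ * n₂) * (x₁ * n₁)⁻¹ * (x₂ * n₂)⁻¹ = x₁ * x₂ * x₁⁻¹ * x₂⁻¹ := by
  have e1 : n₁ * (x₂ * n₂) * n₁⁻¹ = x₂ * n₂ := by
    rw [← h₁ (x₂ * n₂)]; group
  have e2 : n₂ * x₁⁻¹ * n₂⁻¹ = x₁⁻¹ := by
    rw [← h₂ x₁⁻¹]; group
  calc (x₁ * n₁) * (x₂ * n₂) * (x₁ * n₁)⁻¹ * (x₂ * n₂)⁻¹
      = x₁ * (n₁ * (x₂ * n₂) * n₁⁻¹) * x₁⁻¹ * (x₂ * n₂)⁻¹ := by group
    _ = x₁ * (x₂ * n₂) * x₁⁻¹ * (x₂ * n₂)⁻¹ := by rw [e1]
    _ = x₁ * x₂ * (n₂ * x₁⁻¹ * n₂⁻¹) * x₂⁻¹ := by group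
    _ = x₁ * x₂ * x₁⁻¹ * x₂⁻¹ := by rw [e2]

/-- In a group generated by `p'`-elements, a central subgroup `N` of a Sylow `p`-subgroup
`S = P N` lies in `P` (transfer). -/
theorem central_le_of_perf5 [Finite G] {p : ℕ} [Fact p.Prime] (S : Sylow p G) (P N : Subgroup G)
    (hNS : N ≤ S) (hNc : N ≤ Subgroup.center G) (hS : (S : Subgroup G) ≤ P ⊔ N)
    (hperf : IsPPerf5 p (⊤ : Subgroup G)) : N ≤ P := by
  intro n hn
  have hnc : ∀ g : G, g * n = n * g := Subgroup.mem_center_iff.mp (hNc hn)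
  have hNn : N.Normal := by
    constructor
    intro x hx g
    have := Subgroup.mem_center_iff.mp (hNc hx) g
    rw [this, mul_inv_cancel_right]
    exact hx
  let ϕ : ↥(S : Subgroup G) →* Abelianization ↥(S : Subgroup G) := Abelianization.of
  have hpQ : IsPGroup p (Abelianization ↥(S : Subgroup G)) :=
    S.isPGroup'.to_quotient (commutator ↥(S : Subgroup G))
  have htriv := hom_eq_one_of_isPPerf5 hperf hpQ (MonoidHom.transfer ϕ) n
  have key : ∀ (k : ℕ) (g₀ : G), g₀⁻¹ * n ^ k * g₀ ∈ (S : Subgroup G) →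
      g₀⁻¹ * n ^ k * g₀ = n ^ k := by
    intro k g₀ _
    have h1 : g₀ * n ^ k = n ^ k * g₀ :=
      Subgroup.mem_center_iff.mp (pow_mem (hNc hn) k) g₀
    rw [mul_assoc, ← h1, inv_mul_cancel_left]
  rw [MonoidHom.transfer_eq_pow ϕ n key] at htriv
  have hmem : (⟨n ^ (S : Subgroup G).index, MonoidHom.transfer_eq_pow_aux n key⟩ :
      ↥(S : Subgroup G)) ∈ commutator ↥(S : Subgroup G) := by
    rw [← Abelianization.ker_of, MonoidHom.mem_ker]
    exact htriv
  have hcomm : commutator ↥(S : Subgroup G) ≤ P.subgroupOf (S : Subgroup G) := by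
    rw [commutator_def, Subgroup.commutator_le]
    intro a _ b _
    rw [Subgroup.mem_subgroupOf]
    have ha : (a : G) ∈ ((P ⊔ N : Subgroup G) : Set G) := hS a.2
    have hb : (b : G) ∈ ((P ⊔ N : Subgroup G) : Set G) := hS b.2
    rw [Subgroup.mul_normal] at ha hb
    obtain ⟨x₁, hx₁, n₁, hn₁, h1⟩ := ha
    obtain ⟨x₂, hx₂, n₂, hn₂, h2⟩ := hb
    have h3 : ((⁅a, b⁆ : ↥(S : Subgroup G)) : G) = (a : G) * b * (a : G)⁻¹ * (b : G)⁻¹ := by
      rw [commutatorElement_def]; simp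
    rw [h3, ← h1, ← h2]
    simp only
    rw [comm_central5 x₁ x₂ n₁ n₂ (Subgroup.mem_center_iff.mp (hNc hn₁))
      (Subgroup.mem_center_iff.mp (hNc hn₂))]
    exact P.mul_mem (P.mul_mem (P.mul_mem hx₁ hx₂) (P.inv_mem hx₁)) (P.inv_mem hx₂)
  have hpow : n ^ (S : Subgroup G).index ∈ P := by
    have := hcomm hmem
    rw [Subgroup.mem_subgroupOf] at this
    exact this
  have hcop : ((S : Subgroup G).index).Coprime (orderOf n) := by
    obtain ⟨k, hk⟩ := S.isPGroup' ⟨n, hNS hn⟩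
    have hk' : n ^ p ^ k = 1 := by
      have := congrArg Subtype.val hk
      simpa using this
    have h1 : orderOf n ∣ p ^ k := orderOf_dvd_of_pow_eq_one hk'
    have hp : p.Prime := Fact.out
    have h2 : ((S : Subgroup G).index).Coprime p :=
      (Nat.Coprime.symm ((Nat.Prime.coprime_iff_not_dvd hp).mpr S.not_dvd_index))
    exact Nat.Coprime.coprime_dvd_right h1 (Nat.Coprime.pow_right k h2)
  obtain ⟨m, hm⟩ := exists_pow_eq_self_of_coprime hcop
  rw [← hm]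
  exact P.pow_mem hpow m

theorem conj_sup_mem5 (b : G) (X Y M : Subgroup G) (hX : ∀ x ∈ X, b * x * b⁻¹ ∈ M)
    (hY : ∀ y ∈ Y, b * y * b⁻¹ ∈ M) : ∀ m ∈ X ⊔ Y, b * m * b⁻¹ ∈ M := by
  intro m hm
  have h : X ⊔ Y ≤ M.comap (MulAut.conj b).toMonoidHom :=
    sup_le (fun x hx => hX x hx) (fun y hy => hY y hy)
  exact h hm

theorem inf_sup_normal_aux5 (N B₁ B₂ : Subgroup G) [hN : N.Normal]
    (hN₁ : N ≤ Subgroup.normalizer (B₁ : Set G)) :
    B₁ ≤ Subgroup.normalizer (((N ⊓ B₁) ⊔ (N ⊓ B₂) : Subgroup G) : Set G) := by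
  apply Cfsg.Agent.Lib.Helper4.le_normalizer_of_conj_mem
  intro b hb m hm
  apply conj_sup_mem5 b (N ⊓ B₁) (N ⊓ B₂) _ _ _ m hm
  · intro x hx
    apply Subgroup.mem_sup_left
    exact ⟨hN.conj_mem x hx.1 b, B₁.mul_mem (B₁.mul_mem hb hx.2) (B₁.inv_mem hb)⟩
  · intro y hy
    have h1 : b * y * b⁻¹ = (b * y * b⁻¹ * y⁻¹) * y := by group
    rw [h1]
    apply Subgroup.mul_mem
    · apply Subgroup.mem_sup_left
      refine ⟨N.mul_mem (hN.conj_mem y hy.1 b) (N.inv_mem hy.1), ?_⟩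
      have h2 : b * y * b⁻¹ * y⁻¹ = b * (y * b⁻¹ * y⁻¹) := by group
      rw [h2]
      exact B₁.mul_mem hb
        (Cfsg.Agent.Lib.Helper4.conj_mem_of_mem_normalizer (hN₁ hy.1) (B₁.inv_mem hb))
    · exact Subgroup.mem_sup_right hy

/-- Sylow intersection with the join of two `p`-perfect subnormal subgroups. -/
theorem sylow_inf_sup_perf5 {p : ℕ} [Fact p.Prime] : ∀ n : ℕ, ∀ (G : Type u) [Group G] [Finite G],
    Nat.card G = n → ∀ (S : Sylow p G) (B₁ B₂ : Subgroup G), B₁.IsSubnormal → B₂.IsSubnormal →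
    IsPPerf5 p B₁ → IsPPerf5 p B₂ →
    (S : Subgroup G) ⊓ (B₁ ⊔ B₂) = ((S : Subgroup G) ⊓ B₁) ⊔ ((S : Subgroup G) ⊓ B₂) := by
  intro n
  induction n using Nat.strong_induction_on with
  | _ n ih =>
  intro G _ _ hn S B₁ B₂ hB₁ hB₂ hp₁ hp₂
  have hle : ((S : Subgroup G) ⊓ B₁) ⊔ ((S : Subgroup G) ⊓ B₂) ≤ (S : Subgroup G) ⊓ (B₁ ⊔ B₂) :=
    le_inf (sup_le inf_le_left inf_le_left) (sup_le_sup inf_le_right inf_le_right)
  have hJsn : (B₁ ⊔ B₂).IsSubnormal :=
    Cfsg.Agent.Lib.Helper1.subnormal_sup _ G rfl _ _ hB₁ hB₂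
  by_cases hJ : B₁ ⊔ B₂ = ⊤
  swap
  · -- pass to the join
    have hcard : Nat.card ↥(B₁ ⊔ B₂) < n := by
      rw [← hn]
      exact Cfsg.Agent.Lib.Helper1.card_lt_of_lt_top (lt_top_iff_ne_top.mpr hJ)
    obtain ⟨S', hS'⟩ := sylow_inf_subnormal5 S (B₁ ⊔ B₂) hJsn
    have h1 := ih _ hcard ↥(B₁ ⊔ B₂) rfl S' (B₁.subgroupOf (B₁ ⊔ B₂)) (B₂.subgroupOf (B₁ ⊔ B₂))
      hB₁.subgroupOf hB₂.subgroupOf
      (isPPerf_subgroupOf5 le_sup_left hp₁) (isPPerf_subgroupOf5 le_sup_right hp₂)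
    rw [hS'] at h1
    have h2 := congrArg (Subgroup.map (B₁ ⊔ B₂).subtype) h1
    rw [Subgroup.map_inf _ _ _ (Subgroup.subtype_injective _), Subgroup.map_sup, Subgroup.map_sup,
      Subgroup.map_inf _ _ _ (Subgroup.subtype_injective _),
      Subgroup.map_inf _ _ _ (Subgroup.subtype_injective _),
      Subgroup.subgroupOf_map_subtype, Subgroup.subgroupOf_map_subtype,
      Subgroup.subgroupOf_map_subtype] at h2
    have e1 : B₁ ⊓ (B₁ ⊔ B₂) = B₁ := inf_eq_left.mpr le_sup_left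
    have e2 : B₂ ⊓ (B₁ ⊔ B₂) = B₂ := inf_eq_left.mpr le_sup_right
    rw [e1, e2] at h2
    calc (S : Subgroup G) ⊓ (B₁ ⊔ B₂)
        = ((S : Subgroup G) ⊓ (B₁ ⊔ B₂)) ⊓ (B₁ ⊔ B₂) := by rw [inf_assoc, inf_idem]
      _ = (((S : Subgroup G) ⊓ (B₁ ⊔ B₂)) ⊓ B₁) ⊔ (((S : Subgroup G) ⊓ (B₁ ⊔ B₂)) ⊓ B₂) := h2
      _ = ((S : Subgroup G) ⊓ B₁) ⊔ ((S : Subgroup G) ⊓ B₂) := by
          rw [inf_assoc, inf_assoc, inf_eq_right.mpr (le_sup_left : B₁ ≤ B₁ ⊔ B₂),
            inf_eq_right.mpr (le_sup_right : B₂ ≤ B₁ ⊔ B₂)]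
  · by_cases htriv : (⊤ : Subgroup G) = ⊥
    · have hall : ∀ X : Subgroup G, X = ⊥ := fun X => eq_bot_iff.mpr (htriv ▸ le_top)
      rw [hall ((S : Subgroup G) ⊓ (B₁ ⊔ B₂)),
        hall (((S : Subgroup G) ⊓ B₁) ⊔ ((S : Subgroup G) ⊓ B₂))]
    obtain ⟨N, hNn, -, hNne, hNmin⟩ :=
      Cfsg.Agent.Lib.Helper1.exists_minimal_normal_le (⊤ : Subgroup G) inferInstance htriv
    haveI := hNn
    have hN₁ := Cfsg.Agent.Lib.Helper1.minNormal_le_normalizer_subnormal _ G rfl B₁ hB₁ N hNn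
      hNne hNmin
    have hN₂ := Cfsg.Agent.Lib.Helper1.minNormal_le_normalizer_subnormal _ G rfl B₂ hB₂ N hNn
      hNne hNmin
    have hPS : ((S : Subgroup G) ⊓ B₁) ⊔ ((S : Subgroup G) ⊓ B₂) ≤ (S : Subgroup G) :=
      sup_le inf_le_left inf_le_left
    -- Step 1
    have hSPN : (S : Subgroup G) ≤ (((S : Subgroup G) ⊓ B₁) ⊔ ((S : Subgroup G) ⊓ B₂)) ⊔ N := by
      have hcard : Nat.card (G ⧸ N) < n := by
        rw [← hn]; exact Cfsg.Agent.Lib.Helper1.card_quotient_lt_of_ne_bot N hNne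
      have hsurj := QuotientGroup.mk'_surjective N
      have h1 := ih _ hcard (G ⧸ N) rfl (S.mapSurjective hsurj) (B₁.map (QuotientGroup.mk' N))
        (B₂.map (QuotientGroup.mk' N)) (hB₁.map hsurj) (hB₂.map hsurj)
        (isPPerf_map5 _ hp₁) (isPPerf_map5 _ hp₂)
      rw [Sylow.coe_mapSurjective, ← Subgroup.map_sup, hJ, Subgroup.map_top_of_surjective _ hsurj,
        inf_top_eq] at h1
      have h2 : ∀ (B : Subgroup G), B.IsSubnormal →
          (S : Subgroup G) ⊓ B ≤ ((S : Subgroup G) ⊓ B₁) ⊔ ((S : Subgroup G) ⊓ B₂) →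
          (S : Subgroup G).map (QuotientGroup.mk' N) ⊓ B.map (QuotientGroup.mk' N) ≤
            (((S : Subgroup G) ⊓ B₁) ⊔ ((S : Subgroup G) ⊓ B₂)).map (QuotientGroup.mk' N) := by
        intro B hB hBP y hy
        obtain ⟨⟨s, hs, rfl⟩, ⟨b, hb, hbs⟩⟩ := hy
        have hbs' : b⁻¹ * s ∈ N := QuotientGroup.eq.mp hbs
        have hsBN : s ∈ (S : Subgroup G) ⊓ (B ⊔ N) := ⟨hs, by
          have : s = b * (b⁻¹ * s) := by group
          rw [this]
          exact Subgroup.mul_mem _ (Subgroup.mem_sup_left hb) (Subgroup.mem_sup_right hbs')⟩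
        rw [sylow_inf_sup_of_le_normalizer5 S B N hB hNn.isSubnormal
          (Cfsg.Agent.Lib.Helper4.le_normalizer_of_normal hNn)] at hsBN
        have hsPN : s ∈ (((S : Subgroup G) ⊓ B₁) ⊔ ((S : Subgroup G) ⊓ B₂)) ⊔ N :=
          (sup_le_sup hBP inf_le_right) hsBN
        have h3 : (QuotientGroup.mk' N) s ∈
            ((((S : Subgroup G) ⊓ B₁) ⊔ ((S : Subgroup G) ⊓ B₂)) ⊔ N).map (QuotientGroup.mk' N) :=
          Subgroup.mem_map_of_mem _ hsPN
        rw [Subgroup.map_sup _ N, QuotientGroup.map_mk'_self, sup_bot_eq] at h3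
        exact h3
      have h3 : (S : Subgroup G).map (QuotientGroup.mk' N) ≤
          (((S : Subgroup G) ⊓ B₁) ⊔ ((S : Subgroup G) ⊓ B₂)).map (QuotientGroup.mk' N) :=
        h1.le.trans (sup_le (h2 B₁ hB₁ le_sup_left) (h2 B₂ hB₂ le_sup_right))
      rw [Subgroup.map_le_map_iff, QuotientGroup.ker_mk'] at h3
      exact h3
    -- Step 2
    have hSN : (S : Subgroup G) ⊓ N ≤ ((S : Subgroup G) ⊓ B₁) ⊔ ((S : Subgroup G) ⊓ B₂) := by
      have hMn : ((N ⊓ B₁) ⊔ (N ⊓ B₂)).Normal := by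
        apply Cfsg.Agent.Lib.Helper4.normal_of_normalizer_eq_top
        rw [eq_top_iff, ← hJ]
        apply sup_le
        · exact inf_sup_normal_aux5 N B₁ B₂ hN₁
        · have := inf_sup_normal_aux5 N B₂ B₁ hN₂
          rwa [sup_comm] at this
      have hMN : (N ⊓ B₁) ⊔ (N ⊓ B₂) ≤ N := sup_le inf_le_left inf_le_left
      rcases hNmin _ hMn hMN with hM0 | hMeq
      · -- central case
        rw [sup_eq_bot_iff] at hM0
        obtain ⟨h10, h20⟩ := hM0
        have hcent : ∀ (B : Subgroup G), N ≤ Subgroup.normalizer (B : Set G) → N ⊓ B = ⊥ →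
            ∀ n ∈ N, B ≤ Subgroup.centralizer ({n} : Set G) := by
          intro B hNB hB0 m hm b hb
          rw [Subgroup.mem_centralizer_iff]
          intro x hx
          rw [Set.mem_singleton_iff] at hx
          subst hx
          have h1 : b * x * b⁻¹ * x⁻¹ ∈ N ⊓ B := by
            refine ⟨N.mul_mem (hNn.conj_mem x hm b) (N.inv_mem hm), ?_⟩
            have h2 : b * x * b⁻¹ * x⁻¹ = b * (x * b⁻¹ * x⁻¹) := by group
            rw [h2]
            exact B.mul_mem hb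
              (Cfsg.Agent.Lib.Helper4.conj_mem_of_mem_normalizer (hNB hm) (B.inv_mem hb))
          rw [hB0, Subgroup.mem_bot] at h1
          have h3 : b * x = (b * x * b⁻¹ * x⁻¹) * (x * b) := by group
          rw [h3, h1, one_mul]
        have hNc : N ≤ Subgroup.center G := by
          intro m hm
          rw [Subgroup.mem_center_iff]
          intro g
          have hg : g ∈ Subgroup.centralizer ({m} : Set G) := by
            have h1 : B₁ ⊔ B₂ ≤ Subgroup.centralizer ({m} : Set G) :=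
              sup_le (hcent B₁ hN₁ h10 m hm) (hcent B₂ hN₂ h20 m hm)
            rw [hJ] at h1
            exact h1 (Subgroup.mem_top g)
          rw [Subgroup.mem_centralizer_iff] at hg
          exact (hg m (Set.mem_singleton m)).symm
        have hNpn : ((S : Subgroup G) ⊓ N).Normal := by
          constructor
          intro x hx g
          have := Subgroup.mem_center_iff.mp (hNc hx.2) g
          rw [this, mul_inv_cancel_right]
          exact hx
        rcases hNmin _ hNpn inf_le_right with h0 | hN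
        · rw [h0]; exact bot_le
        · have hNS : N ≤ (S : Subgroup G) := by
            rw [← hN]; exact inf_le_left
          have hperf : IsPPerf5 p (⊤ : Subgroup G) := by
            rw [← hJ]; exact isPPerf_sup5 hp₁ hp₂
          exact inf_le_right.trans (central_le_of_perf5 S _ N hNS hNc hSPN hperf)
      · have h1 : N ⊓ B₁ ≤ Subgroup.normalizer ((N ⊓ B₂ : Subgroup G) : Set G) :=
          Cfsg.Agent.Lib.Helper4.le_normalizer_inf
            (Cfsg.Agent.Lib.Helper4.le_normalizer_of_normal hNn) (inf_le_left.trans hN₂)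
        have h2 := sylow_inf_sup_of_le_normalizer5 S (N ⊓ B₁) (N ⊓ B₂)
          (hNn.isSubnormal.inf hB₁) (hNn.isSubnormal.inf hB₂) h1
        rw [hMeq] at h2
        rw [h2]
        exact sup_le_sup (inf_le_inf_left _ inf_le_right) (inf_le_inf_left _ inf_le_right)
    apply le_antisymm _ hle
    rw [hJ, inf_top_eq]
    intro s hs
    have h1 := hSPN hs
    rw [← SetLike.mem_coe, Subgroup.mul_normal] at h1
    obtain ⟨x, hx, m, hm, rfl⟩ := h1
    have hmS : m ∈ (S : Subgroup G) := by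
      have : m = x⁻¹ * (x * m) := by group
      rw [this]
      exact Subgroup.mul_mem _ (Subgroup.inv_mem _ (hPS hx)) hs
    exact Subgroup.mul_mem _ hx (hSN ⟨hmS, hm⟩)

end Cfsg.Agent.Lib.Helper5
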