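import Mathlib
import Cfsg.Agent.Lib.Helper5.TransferUnits

set_option autoImplicit false
set_option linter.unusedSectionVars false

namespace Cfsg.Agent.Lib.Helper5

abbrev S16 := Multiplicative (ZMod 2) × DihedralGroup 4

def zS : S16 := (Multiplicative.ofAdd 1, 1)
def rS : S16 := (1, DihedralGroup.r 1)
def sS : S16 := (1, DihedralGroup.sr 0)

def chi1f : S16 → ℤˣ := fun p => if p.1 = 1 then 1 else -1
def sgnS : DihedralGroup 4 → ℤˣ
  | .r _ => 1
  | .sr _ => -1
def sgnR : DihedralGroup 4 → ℤˣ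
  | .r i => if i = 0 ∨ i = 2 then 1 else -1
  | .sr i => if i = 0 ∨ i = 2 then 1 else -1
def chi5f : S16 → ℤˣ := fun p => chi1f p * sgnS p.2
def chi3f : S16 → ℤˣ := fun p => sgnR p.2

def chi1 : S16 →* ℤˣ := MonoidHom.mk' chi1f (by decide)
def chi5 : S16 →* ℤˣ := MonoidHom.mk' chi5f (by decide)
def chi3 : S16 →* ℤˣ := MonoidHom.mk' chi3f (by decide)

def cenS (x : S16) : Prop := ∀ y : S16, y * x = x * y

instance : DecidablePred cenS := fun x => by unfold cenS; infer_instance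

theorem s16_center : ∀ x : S16, cenS x → x ^ 2 = 1 →
    x = 1 ∨ x = zS ∨ x = rS ^ 2 ∨ x = zS * rS ^ 2 := by decide

theorem s16_sq : ∀ x : S16, x ^ 2 = 1 ∨ x ^ 2 = rS ^ 2 := by decide

theorem s16_rep1 : ∀ a : S16, a ^ 2 = 1 → chi1 a = 1 → ¬ cenS a →
    ∃ h : S16, h * a * h⁻¹ = sS ∨ h * a * h⁻¹ = rS * sS := by decide

theorem s16_rep5 : ∀ a : S16, a ^ 2 = 1 → chi5 a = 1 → ¬ cenS a →
    ∃ h : S16, h * a * h⁻¹ = zS * sS ∨ h * a * h⁻¹ = zS * rS * sS := by decide

theorem s16_chi15 : ∀ a : S16, a ^ 2 = 1 → ¬ cenS a →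
    chi1 a = 1 ∨ chi5 a = 1 := by decide

theorem s16_chi3 : ∀ x : S16, x ^ 2 ≠ 1 → chi3 x = -1 := by decide

theorem s16_zcentral : cenS zS := by decide
theorem s16_r2central : cenS (rS ^ 2) := by decide
theorem s16_zr2central : cenS (zS * rS ^ 2) := by decide

section main

variable {G : Type*} [Group G] [Finite G] (S : Sylow 2 G) (e : ↥(S : Subgroup G) ≃* S16)

/-- The embedding of the model group as the Sylow subgroup. -/
def jS : S16 →* G := (S : Subgroup G).subtype.comp e.symm.toMonoidHom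

theorem jS_inj : Function.Injective (jS S e) := by
  intro a b hab
  have : (e.symm a : G) = e.symm b := hab
  exact e.symm.injective (Subtype.ext this)

theorem jS_mem (w : S16) : jS S e w ∈ (S : Subgroup G) := (e.symm w).2

theorem jS_apply_e (s : G) (hs : s ∈ (S : Subgroup G)) : jS S e (e ⟨s, hs⟩) = s := by
  show ((e.symm (e ⟨s, hs⟩) : ↥(S : Subgroup G)) : G) = s
  rw [e.symm_apply_apply]

theorem e_jS (w : S16) (h : jS S e w ∈ (S : Subgroup G)) : e ⟨jS S e w, h⟩ = w := by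
  have : (⟨jS S e w, h⟩ : ↥(S : Subgroup G)) = e.symm w := Subtype.ext rfl
  rw [this, e.apply_symm_apply]

theorem phi_eq (χ : S16 →* ℤˣ) (y : G) (h : y ∈ (S : Subgroup G)) (w : S16)
    (hy : y = jS S e w) : (χ.comp e.toMonoidHom) ⟨y, h⟩ = χ w := by
  subst hy
  show χ (e ⟨jS S e w, h⟩) = χ w
  rw [e_jS]

theorem jS_mem_centralizer (w : S16) (hw : cenS w) :
    jS S e w ∈ Subgroup.centralizer ((S : Subgroup G) : Set G) := by
  intro s hs
  have h1 := jS_apply_e S e s hs
  have h2 := hw (e ⟨s, hs⟩)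
  rw [← h1, ← map_mul, ← map_mul, h2]

theorem cenS_of_mem_centralizer (w : S16)
    (hw : jS S e w ∈ Subgroup.centralizer ((S : Subgroup G) : Set G)) : cenS w := by
  intro y
  apply jS_inj S e
  rw [map_mul, map_mul]
  exact hw (jS S e y) (jS_mem S e y)

theorem isConj_jS (a h : S16) : IsConj (jS S e a) (jS S e (h * a * h⁻¹)) := by
  rw [isConj_iff]
  exact ⟨jS S e h, by rw [map_mul, map_mul, map_inv]⟩

theorem conj_mem_centralizer (n x : G) (hn : n ∈ Subgroup.normalizer ((S : Subgroup G) : Set G))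
    (hx : x ∈ Subgroup.centralizer ((S : Subgroup G) : Set G)) :
    n * x * n⁻¹ ∈ Subgroup.centralizer ((S : Subgroup G) : Set G) := by
  intro s hs
  have h1 : n⁻¹ * s * n ∈ (S : Subgroup G) := by
    have := (Subgroup.mem_normalizer_iff.mp hn (n⁻¹ * s * n))
    rw [this]
    have h2 : n * (n⁻¹ * s * n) * n⁻¹ = s := by group
    rw [h2]; exact hs
  have h3 := hx (n⁻¹ * s * n) h1
  calc s * (n * x * n⁻¹) = n * ((n⁻¹ * s * n) * x) * n⁻¹ := by group
    _ = n * (x * (n⁻¹ * s * n)) * n⁻¹ := by rw [h3]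
    _ = n * x * n⁻¹ * s := by group

theorem norm_fix_c (n : G) (hn : n ∈ Subgroup.normalizer ((S : Subgroup G) : Set G)) :
    n * jS S e (rS ^ 2) * n⁻¹ = jS S e (rS ^ 2) := by
  have h1 : n * jS S e rS * n⁻¹ ∈ (S : Subgroup G) :=
    (Subgroup.mem_normalizer_iff.mp hn _).mp (jS_mem S e rS)
  have h2 := jS_apply_e S e _ h1
  have h3 : n * jS S e (rS ^ 2) * n⁻¹ = jS S e ((e ⟨_, h1⟩) ^ 2) := by
    rw [map_pow, map_pow, h2, conj_pow]
  rcases s16_sq (e ⟨_, h1⟩) with h4 | h4
  · exfalso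
    rw [h4, map_one] at h3
    have h5 : jS S e (rS ^ 2) = 1 := by
      have : jS S e (rS ^ 2) = n⁻¹ * (n * jS S e (rS ^ 2) * n⁻¹) * n := by group
      rw [this, h3]; group
    have h6 : rS ^ 2 = 1 := jS_inj S e (by rw [h5, map_one])
    revert h6
    decide
  · rw [h3, h4]

theorem norm_fix_z_aux (n : G) (hn : n ∈ Subgroup.normalizer ((S : Subgroup G) : Set G)) :
    n * jS S e zS * n⁻¹ = jS S e zS ∨ n * jS S e zS * n⁻¹ = jS S e zS * jS S e (rS ^ 2) := by
  have h1 : n * jS S e zS * n⁻¹ ∈ (S : Subgroup G) :=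
    (Subgroup.mem_normalizer_iff.mp hn _).mp (jS_mem S e zS)
  have h2 := jS_apply_e S e _ h1
  have hcen : cenS (e ⟨_, h1⟩) := by
    apply cenS_of_mem_centralizer S e
    rw [h2]
    exact conj_mem_centralizer S n _ hn (jS_mem_centralizer S e zS s16_zcentral)
  have hsq : (e ⟨_, h1⟩) ^ 2 = 1 := by
    apply jS_inj S e
    rw [map_pow, h2, map_one]
    have : (n * jS S e zS * n⁻¹) ^ 2 = n * (jS S e (zS ^ 2)) * n⁻¹ := by
      rw [map_pow, conj_pow]
    rw [this]
    have : zS ^ 2 = 1 := by decide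
    rw [this, map_one]; group
  rcases s16_center _ hcen hsq with h | h | h | h
  · exfalso
    rw [h, map_one] at h2
    have h5 : jS S e zS = 1 := by
      have : jS S e zS = n⁻¹ * (n * jS S e zS * n⁻¹) * n := by group
      rw [this, ← h2]; group
    have h6 : zS = 1 := jS_inj S e (by rw [h5, map_one])
    revert h6
    decide
  · left
    rw [← h2, h]
  · exfalso
    rw [h] at h2
    have h3 := norm_fix_c S e n hn
    have h5 : jS S e zS = jS S e (rS ^ 2) :=
      mul_left_cancel (mul_right_cancel (h2.symm.trans h3.symm))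
    have h6 : zS = rS ^ 2 := jS_inj S e h5
    revert h6
    decide
  · right
    rw [← h2, h, map_mul]

theorem norm_fix_z (n : G) (hn : n ∈ Subgroup.normalizer ((S : Subgroup G) : Set G)) :
    n * jS S e zS * n⁻¹ = jS S e zS := by
  have hc := norm_fix_c S e n hn
  have hsq : Commute (n ^ 2) (jS S e zS) := by
    have h1 : n ^ 2 * jS S e zS * (n ^ 2)⁻¹ = jS S e zS := by
      rcases norm_fix_z_aux S e n hn with h | h
      · calc n ^ 2 * jS S e zS * (n ^ 2)⁻¹ = n * (n * jS S e zS * n⁻¹) * n⁻¹ := by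
              simp only [pow_two, mul_inv_rev, mul_assoc]
          _ = jS S e zS := by rw [h, h]
      · calc n ^ 2 * jS S e zS * (n ^ 2)⁻¹ = n * (n * jS S e zS * n⁻¹) * n⁻¹ := by
              simp only [pow_two, mul_inv_rev, mul_assoc]
          _ = n * (jS S e zS * jS S e (rS ^ 2)) * n⁻¹ := by rw [h]
          _ = (n * jS S e zS * n⁻¹) * (n * jS S e (rS ^ 2) * n⁻¹) := by group
          _ = jS S e zS * jS S e (rS ^ 2) * jS S e (rS ^ 2) := by rw [h, hc]
          _ = jS S e (zS * rS ^ 2 * rS ^ 2) := by rw [map_mul, map_mul]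
          _ = jS S e zS := by
            congr 1
    show n ^ 2 * jS S e zS = jS S e zS * n ^ 2
    calc n ^ 2 * jS S e zS = (n ^ 2 * jS S e zS * (n ^ 2)⁻¹) * n ^ 2 := by group
      _ = jS S e zS * n ^ 2 := by rw [h1]
  have hord : orderOf n ≠ 0 := (orderOf_pos n).ne'
  obtain ⟨a, m, hm, ham⟩ := Nat.exists_eq_two_pow_mul_odd hord
  obtain ⟨k, hk⟩ := hm
  have hnm : n ^ m ∈ (S : Subgroup G) := by
    apply mem_sylow_of_pow_two_of_mem_normalizer S (n ^ m) (Subgroup.pow_mem _ hn m) a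
    rw [← pow_mul, mul_comm, ← ham, pow_orderOf_eq_one]
  have hcm : Commute (n ^ m) (jS S e zS) := by
    have := jS_mem_centralizer S e zS s16_zcentral (n ^ m) hnm
    exact this
  have hn_eq : n = ((n ^ 2) ^ k)⁻¹ * n ^ m := by
    rw [hk, ← pow_mul, pow_succ]
    group
  have hcomm : Commute n (jS S e zS) := by
    rw [hn_eq]
    exact ((hsq.pow_left k).inv_left).mul_left hcm
  calc n * jS S e zS * n⁻¹ = jS S e zS * n * n⁻¹ := by rw [hcomm.eq]
    _ = jS S e zS := by group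

theorem fusion_central (x : G) (hx : x ∈ Subgroup.centralizer ((S : Subgroup G) : Set G))
    (hfix : ∀ n ∈ Subgroup.normalizer ((S : Subgroup G) : Set G), n * x * n⁻¹ = x)
    (w : S16) (hw : cenS w) (hconj : IsConj x (jS S e w)) : jS S e w = x := by
  rw [isConj_iff] at hconj
  obtain ⟨g, hg⟩ := hconj
  have h1 : g⁻¹⁻¹ * x * g⁻¹ ∈ Subgroup.centralizer ((S : Subgroup G) : Set G) := by
    rw [inv_inv, hg]
    exact jS_mem_centralizer S e w hw
  have : Fact (Nat.Prime 2) := ⟨Nat.prime_two⟩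
  obtain ⟨n, hn, h2⟩ := S.conj_eq_normalizer_conj_of_mem_centralizer x g⁻¹ hx h1
  rw [inv_inv, hg] at h2
  rw [h2]
  have := hfix n⁻¹ (Subgroup.inv_mem _ hn)
  rw [inv_inv] at this
  exact this

theorem transfer_involution (hG : ∀ H : Subgroup G, H.index ≠ 2) (χ : S16 →* ℤˣ) (x : G)
    (hx1 : x ≠ 1) (hx2 : x ^ 2 = 1) : ∃ w : S16, IsConj x (jS S e w) ∧ χ w = 1 := by
  have hord : orderOf x = 2 ^ 1 := by
    rw [pow_one]
    exact orderOf_eq_prime hx2 hx1
  obtain ⟨g, h, hgh⟩ := transfer_units_gen hG S (χ.comp e.toMonoidHom) x 1 hord (by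
    intro k hk g h
    obtain ⟨t, rfl⟩ := hk
    have h1 : g⁻¹ * x ^ (t + t) * g = 1 := by
      rw [← two_mul, pow_mul, hx2, one_pow]; group
    have h2 : (⟨g⁻¹ * x ^ (t + t) * g, h⟩ : ↥(S : Subgroup G)) = 1 := Subtype.ext h1
    rw [h2, map_one])
  refine ⟨e ⟨g⁻¹ * x * g, h⟩, ?_, hgh⟩
  rw [jS_apply_e, isConj_iff]
  exact ⟨g⁻¹, by rw [inv_inv]⟩

theorem sq_eq_one_of_isConj (x : G) (hx2 : x ^ 2 = 1) (w : S16) (h : IsConj x (jS S e w)) :
    w ^ 2 = 1 := by
  apply jS_inj S e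
  rw [isConj_iff] at h
  obtain ⟨g, hg⟩ := h
  rw [map_pow, ← hg, map_one]
  calc (g * x * g⁻¹) ^ 2 = g * x ^ 2 * g⁻¹ := by rw [conj_pow]
    _ = 1 := by rw [hx2]; group

theorem exists_index_two_of_sylow (S : Sylow 2 G) (e : ↥(S : Subgroup G) ≃* S16) :
    ∃ H : Subgroup G, H.index = 2 := by
  by_contra hG
  push Not at hG
  -- central involutions
  have hz1 : jS S e zS ≠ 1 := by
    intro h
    have : zS = 1 := jS_inj S e (by rw [h, map_one])
    revert this; decide
  have hz2 : jS S e zS ^ 2 = 1 := by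
    rw [← map_pow]
    have : zS ^ 2 = 1 := by decide
    rw [this, map_one]
  have hc1 : jS S e (rS ^ 2) ≠ 1 := by
    intro h
    have : rS ^ 2 = 1 := jS_inj S e (by rw [h, map_one])
    revert this; decide
  have hc2 : jS S e (rS ^ 2) ^ 2 = 1 := by
    rw [← map_pow]
    have : (rS ^ 2) ^ 2 = 1 := by decide
    rw [this, map_one]
  have hzc1 : jS S e (zS * rS ^ 2) ≠ 1 := by
    intro h
    have : zS * rS ^ 2 = 1 := jS_inj S e (by rw [h, map_one])
    revert this; decide
  have hzc2 : jS S e (zS * rS ^ 2) ^ 2 = 1 := by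
    rw [← map_pow]
    have : (zS * rS ^ 2) ^ 2 = 1 := by decide
    rw [this, map_one]
  -- fusion of central involutions
  have Fz : ∀ w : S16, cenS w → IsConj (jS S e zS) (jS S e w) → w = zS := by
    intro w hw hconj
    exact jS_inj S e (fusion_central S e _ (jS_mem_centralizer S e zS s16_zcentral)
      (fun n hn => norm_fix_z S e n hn) w hw hconj)
  have Fc : ∀ w : S16, cenS w → IsConj (jS S e (rS ^ 2)) (jS S e w) → w = rS ^ 2 := by
    intro w hw hconj
    exact jS_inj S e (fusion_central S e _ (jS_mem_centralizer S e _ s16_r2central)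
      (fun n hn => norm_fix_c S e n hn) w hw hconj)
  have Fzc : ∀ w : S16, cenS w → IsConj (jS S e (zS * rS ^ 2)) (jS S e w) → w = zS * rS ^ 2 := by
    intro w hw hconj
    refine jS_inj S e (fusion_central S e _ (jS_mem_centralizer S e _ s16_zr2central)
      (fun n hn => ?_) w hw hconj)
    rw [map_mul]
    calc n * (jS S e zS * jS S e (rS ^ 2)) * n⁻¹
        = (n * jS S e zS * n⁻¹) * (n * jS S e (rS ^ 2) * n⁻¹) := by group
      _ = jS S e zS * jS S e (rS ^ 2) := by rw [norm_fix_z S e n hn, norm_fix_c S e n hn]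
  -- z and zc are not conjugate, and c is conjugate to neither
  have hzzc : ¬ IsConj (jS S e zS) (jS S e (zS * rS ^ 2)) := by
    intro h
    have := Fz _ s16_zr2central h
    revert this; decide
  have hcz : ¬ IsConj (jS S e (rS ^ 2)) (jS S e zS) := by
    intro h
    have := Fc _ s16_zcentral h
    revert this; decide
  have hczc : ¬ IsConj (jS S e (rS ^ 2)) (jS S e (zS * rS ^ 2)) := by
    intro h
    have := Fc _ s16_zr2central h
    revert this; decide
  -- transfers
  have T1 : ∀ x : G, x ≠ 1 → x ^ 2 = 1 → (∀ w : S16, cenS w → IsConj x (jS S e w) → chi1 w ≠ 1) →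
      IsConj x (jS S e sS) ∨ IsConj x (jS S e (rS * sS)) := by
    intro x hx1 hx2 hx
    obtain ⟨w, hw, hchi⟩ := transfer_involution S e hG chi1 x hx1 hx2
    have hw2 := sq_eq_one_of_isConj S e x hx2 w hw
    have hnc : ¬ cenS w := fun hcen => hx w hcen hw hchi
    obtain ⟨h, hh | hh⟩ := s16_rep1 w hw2 hchi hnc
    · left; rw [← hh]; exact hw.trans (isConj_jS S e w h)
    · right; rw [← hh]; exact hw.trans (isConj_jS S e w h)
  have T5 : ∀ x : G, x ≠ 1 → x ^ 2 = 1 → (∀ w : S16, cenS w → IsConj x (jS S e w) → chi5 w ≠ 1) →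
      IsConj x (jS S e (zS * sS)) ∨ IsConj x (jS S e (zS * rS * sS)) := by
    intro x hx1 hx2 hx
    obtain ⟨w, hw, hchi⟩ := transfer_involution S e hG chi5 x hx1 hx2
    have hw2 := sq_eq_one_of_isConj S e x hx2 w hw
    have hnc : ¬ cenS w := fun hcen => hx w hcen hw hchi
    obtain ⟨h, hh | hh⟩ := s16_rep5 w hw2 hchi hnc
    · left; rw [← hh]; exact hw.trans (isConj_jS S e w h)
    · right; rw [← hh]; exact hw.trans (isConj_jS S e w h)
  have hz_chi1 : ∀ w : S16, cenS w → IsConj (jS S e zS) (jS S e w) → chi1 w ≠ 1 := by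
    intro w hw hconj
    rw [Fz w hw hconj]; decide
  have hz_chi5 : ∀ w : S16, cenS w → IsConj (jS S e zS) (jS S e w) → chi5 w ≠ 1 := by
    intro w hw hconj
    rw [Fz w hw hconj]; decide
  have hzc_chi1 : ∀ w : S16, cenS w → IsConj (jS S e (zS * rS ^ 2)) (jS S e w) → chi1 w ≠ 1 := by
    intro w hw hconj
    rw [Fzc w hw hconj]; decide
  have hzc_chi5 : ∀ w : S16, cenS w → IsConj (jS S e (zS * rS ^ 2)) (jS S e w) → chi5 w ≠ 1 := by
    intro w hw hconj
    rw [Fzc w hw hconj]; decide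
  have A1 := T1 _ hz1 hz2 hz_chi1
  have A5 := T5 _ hz1 hz2 hz_chi5
  have B1 := T1 _ hzc1 hzc2 hzc_chi1
  have B5 := T5 _ hzc1 hzc2 hzc_chi5
  -- no conjugate of c is a noncentral involution
  have noc : ∀ w : S16, (IsConj (jS S e zS) (jS S e w) ∨ IsConj (jS S e (zS * rS ^ 2)) (jS S e w)) →
      ¬ IsConj (jS S e (rS ^ 2)) (jS S e w) := by
    intro w hw hcw
    rcases hw with hw | hw
    · exact hcz (hcw.trans hw.symm)
    · exact hczc (hcw.trans hw.symm)
  have cover1 : (IsConj (jS S e zS) (jS S e sS) ∨ IsConj (jS S e (zS * rS ^ 2)) (jS S e sS)) ∧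
      (IsConj (jS S e zS) (jS S e (rS * sS)) ∨
        IsConj (jS S e (zS * rS ^ 2)) (jS S e (rS * sS))) := by
    rcases A1 with a | a <;> rcases B1 with b | b
    · exact absurd (a.trans b.symm) hzzc
    · exact ⟨Or.inl a, Or.inr b⟩
    · exact ⟨Or.inr b, Or.inl a⟩
    · exact absurd (a.trans b.symm) hzzc
  have cover5 : (IsConj (jS S e zS) (jS S e (zS * sS)) ∨
        IsConj (jS S e (zS * rS ^ 2)) (jS S e (zS * sS))) ∧
      (IsConj (jS S e zS) (jS S e (zS * rS * sS)) ∨
        IsConj (jS S e (zS * rS ^ 2)) (jS S e (zS * rS * sS))) := by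
    rcases A5 with a | a <;> rcases B5 with b | b
    · exact absurd (a.trans b.symm) hzzc
    · exact ⟨Or.inl a, Or.inr b⟩
    · exact ⟨Or.inr b, Or.inl a⟩
    · exact absurd (a.trans b.symm) hzzc
  -- (R): c is weakly closed in S
  have R : ∀ w : S16, IsConj (jS S e (rS ^ 2)) (jS S e w) → w = rS ^ 2 := by
    intro w hw
    by_cases hcen : cenS w
    · exact Fc w hcen hw
    · exfalso
      have hw2 := sq_eq_one_of_isConj S e _ hc2 w hw
      rcases s16_chi15 w hw2 hcen with hchi | hchi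
      · obtain ⟨h, hh | hh⟩ := s16_rep1 w hw2 hchi hcen
        · exact noc _ cover1.1 (hh ▸ hw.trans (isConj_jS S e w h))
        · exact noc _ cover1.2 (hh ▸ hw.trans (isConj_jS S e w h))
      · obtain ⟨h, hh | hh⟩ := s16_rep5 w hw2 hchi hcen
        · exact noc _ cover5.1 (hh ▸ hw.trans (isConj_jS S e w h))
        · exact noc _ cover5.2 (hh ▸ hw.trans (isConj_jS S e w h))
  -- final transfer with the element of order 4
  have hord : orderOf (jS S e rS) = 2 ^ (1 + 1) := by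
    rw [orderOf_injective (jS S e) (jS_inj S e)]
    apply orderOf_eq_prime_pow
    · decide
    · decide
  obtain ⟨g, h, hgh⟩ := transfer_units_gen hG S (chi3.comp e.toMonoidHom) (jS S e rS) 2 hord (by
    intro k hk g h
    obtain ⟨t, rfl⟩ := hk
    have h0 : jS S e rS ^ (t + t) = jS S e (rS ^ 2) ^ t := by
      rw [← two_mul, pow_mul, map_pow]
    rcases Nat.even_or_odd t with ht | ht
    · have h1 : g⁻¹ * jS S e rS ^ (t + t) * g = 1 := by
        obtain ⟨u, rfl⟩ := ht
        rw [h0, ← two_mul, pow_mul, hc2, one_pow]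
        group
      have h2 : (⟨g⁻¹ * jS S e rS ^ (t + t) * g, h⟩ : ↥(S : Subgroup G)) = 1 := Subtype.ext h1
      rw [h2, map_one]
    · have h1 : g⁻¹ * jS S e rS ^ (t + t) * g = g⁻¹ * jS S e (rS ^ 2) * g := by
        rw [h0]
        obtain ⟨u, rfl⟩ := ht
        rw [pow_succ, pow_mul, hc2, one_pow, one_mul]
      have hmem : g⁻¹ * jS S e (rS ^ 2) * g ∈ (S : Subgroup G) := h1 ▸ h
      have h3 := jS_apply_e S e _ hmem
      have h4 : IsConj (jS S e (rS ^ 2)) (jS S e (e ⟨_, hmem⟩)) := by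
        rw [h3, isConj_iff]
        exact ⟨g⁻¹, by rw [inv_inv]⟩
      have h5 := R _ h4
      rw [phi_eq S e chi3 _ h (rS ^ 2) (by rw [h1, ← h3, h5])]
      decide)
  have h3 := jS_apply_e S e _ h
  have hne : (e ⟨_, h⟩) ^ 2 ≠ 1 := by
    intro h4
    have h5 : jS S e ((e ⟨_, h⟩) ^ 2) = 1 := by rw [h4, map_one]
    rw [map_pow, h3] at h5
    have h6 : jS S e (rS ^ 2) = 1 := by
      rw [map_pow]
      have h9 : (g⁻¹ * jS S e rS * g) ^ 2 = g⁻¹ * jS S e rS ^ 2 * g := by
        simp only [pow_two, mul_assoc, mul_inv_cancel_left]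
      rw [h9] at h5
      calc jS S e rS ^ 2 = g * (g⁻¹ * jS S e rS ^ 2 * g) * g⁻¹ := by group
        _ = 1 := by rw [h5]; group
    exact hc1 h6
  have h7 := s16_chi3 _ hne
  have h8 : chi3 (e ⟨_, h⟩) = 1 := hgh
  rw [h7] at h8
  revert h8
  decide

end main

end Cfsg.Agent.Lib.Helper5
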