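import Mathlib
import Cfsg.Agent.Lib.Helper5.Isolated
import Cfsg.Agent.Lib.Helper5.PGroupBasics
import Cfsg.Agent.Lib.Helper5.ClassicalSE
import Cfsg.Agent.Lib.Helper4.Normalizer

set_option autoImplicit false

namespace Cfsg.Agent.Lib.Helper5

variable {G : Type*} [Group G]

theorem mem_center_map5 (U : Subgroup G) (z : G) :
    z ∈ (Subgroup.center ↥U).map U.subtype ↔ z ∈ U ∧ ∀ u ∈ U, u * z = z * u := by
  constructor
  · rintro ⟨w, hw, rfl⟩
    refine ⟨w.2, fun u hu => ?_⟩
    have := Subgroup.mem_center_iff.mp hw ⟨u, hu⟩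
    exact congrArg Subtype.val this
  · rintro ⟨hz, h⟩
    exact ⟨⟨z, hz⟩, Subgroup.mem_center_iff.mpr (fun g => Subtype.ext (h g g.2)), rfl⟩

theorem sylow_inter_center5 [Finite G]
    (hCI : ∀ S T : Sylow 2 G, S ≠ T → ∃ U : Sylow 2 G,
      (S : Subgroup G) ⊓ (T : Subgroup G) ≤ (Subgroup.center ↥(U : Subgroup G)).map (U : Subgroup G).subtype) :
    ∀ n : ℕ, ∀ S T : Sylow 2 G, S ≠ T →
      Nat.card ↥(S : Subgroup G) - Nat.card ↥((S : Subgroup G) ⊓ (T : Subgroup G)) ≤ n →
      (S : Subgroup G) ⊓ (T : Subgroup G) ≤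
        (Subgroup.center ↥(S : Subgroup G)).map (S : Subgroup G).subtype := by
  haveI : Fact (Nat.Prime 2) := ⟨Nat.prime_two⟩
  intro n
  induction n using Nat.strong_induction_on with
  | _ n ih =>
  intro S T hne hcard
  have hDS : (S : Subgroup G) ⊓ (T : Subgroup G) < (S : Subgroup G) := by
    apply lt_of_le_of_ne inf_le_left
    intro h
    apply hne
    have hle : (S : Subgroup G) ≤ (T : Subgroup G) := by rw [← h]; exact inf_le_right
    have := S.is_maximal' T.isPGroup' hle
    exact Sylow.ext this.symm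
  obtain ⟨U, hU⟩ := hCI S T hne
  have hUC : ∀ u ∈ (U : Subgroup G), ∀ d ∈ (S : Subgroup G) ⊓ (T : Subgroup G), u * d = d * u := by
    intro u hu d hd
    exact ((mem_center_map5 _ d).mp (hU hd)).2 u hu
  have hUN : (U : Subgroup G) ≤ Subgroup.normalizer
      (((S : Subgroup G) ⊓ (T : Subgroup G) : Subgroup G) : Set G) := by
    apply Cfsg.Agent.Lib.Helper4.le_normalizer_of_conj_mem
    intro u hu d hd
    rw [hUC u hu d hd, mul_inv_cancel_right]
    exact hd
  obtain ⟨y, hyS, hyN, hyD⟩ := exists_mem_normalizer_not_mem5 _ _ S.isPGroup' hDS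
  obtain ⟨m, hmN, hm⟩ := exists_conj_mem_of_max_pSubgroup
    (Subgroup.normalizer (((S : Subgroup G) ⊓ (T : Subgroup G) : Subgroup G) : Set G))
    (U : Subgroup G)
    ((S : Subgroup G) ⊓ Subgroup.normalizer (((S : Subgroup G) ⊓ (T : Subgroup G) : Subgroup G) : Set G))
    hUN U.isPGroup' (fun R _ hR hUR => U.is_maximal' hR hUR) inf_le_right
    (S.isPGroup'.to_le inf_le_left)
  have hQS' : (S : Subgroup G) ⊓ Subgroup.normalizer
      (((S : Subgroup G) ⊓ (T : Subgroup G) : Subgroup G) : Set G) ≤ ((m • U : Sylow 2 G) : Subgroup G) := by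
    intro q hq
    rw [mem_smul_sylow_iff5]
    exact hm q hq
  have hDQ : (S : Subgroup G) ⊓ (T : Subgroup G) ≤ (S : Subgroup G) ⊓ Subgroup.normalizer
      (((S : Subgroup G) ⊓ (T : Subgroup G) : Subgroup G) : Set G) :=
    le_inf inf_le_left Subgroup.le_normalizer
  have hDZ' : (S : Subgroup G) ⊓ (T : Subgroup G) ≤
      (Subgroup.center ↥((m • U : Sylow 2 G) : Subgroup G)).map ((m • U : Sylow 2 G) : Subgroup G).subtype := by
    intro d hd
    rw [mem_center_map5]
    refine ⟨hQS' (hDQ hd), ?_⟩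
    intro s' hs'
    rw [mem_smul_sylow_iff5] at hs'
    have hminv : m⁻¹ ∈ Subgroup.normalizer
        (((S : Subgroup G) ⊓ (T : Subgroup G) : Subgroup G) : Set G) := Subgroup.inv_mem _ hmN
    have hd' : m⁻¹ * d * m ∈ (S : Subgroup G) ⊓ (T : Subgroup G) := by
      have := Cfsg.Agent.Lib.Helper4.conj_mem_of_mem_normalizer hminv hd
      rwa [inv_inv] at this
    have h1 := hUC _ hs' _ hd'
    calc s' * d = m * ((m⁻¹ * s' * m) * (m⁻¹ * d * m)) * m⁻¹ := by group
      _ = m * ((m⁻¹ * d * m) * (m⁻¹ * s' * m)) * m⁻¹ := by rw [h1]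
      _ = d * s' := by group
  by_cases hS' : (m • U : Sylow 2 G) = S
  · rw [hS'] at hDZ'
    exact hDZ'
  · have hlt : Nat.card ↥((S : Subgroup G) ⊓ (T : Subgroup G)) <
        Nat.card ↥((S : Subgroup G) ⊓ ((m • U : Sylow 2 G) : Subgroup G)) := by
      by_contra hc
      push Not at hc
      have hle : (S : Subgroup G) ⊓ (T : Subgroup G) ≤
          (S : Subgroup G) ⊓ ((m • U : Sylow 2 G) : Subgroup G) :=
        le_inf inf_le_left (hDQ.trans hQS')
      have := Subgroup.eq_of_le_of_card_ge hle hc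
      apply hyD
      rw [this]
      exact ⟨hyS, hQS' ⟨hyS, hyN⟩⟩
    have hle2 : Nat.card ↥((S : Subgroup G) ⊓ ((m • U : Sylow 2 G) : Subgroup G)) ≤
        Nat.card ↥(S : Subgroup G) := Subgroup.card_le_of_le inf_le_left
    have hmeas : Nat.card ↥(S : Subgroup G) -
        Nat.card ↥((S : Subgroup G) ⊓ ((m • U : Sylow 2 G) : Subgroup G)) < n := by omega
    have := ih _ hmeas S (m • U) (Ne.symm hS') le_rfl
    exact (le_inf inf_le_left (hDQ.trans hQS')).trans this

theorem sylow_inter_center_main5 [Finite G]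
    (hCI : ∀ S T : Sylow 2 G, S ≠ T → ∃ U : Sylow 2 G,
      (S : Subgroup G) ⊓ (T : Subgroup G) ≤ (Subgroup.center ↥(U : Subgroup G)).map (U : Subgroup G).subtype)
    (S : Sylow 2 G) :
    (∀ x ∈ (S : Subgroup G), ∀ P : Subgroup G, IsPGroup 2 ↥P → P ≤ Subgroup.centralizer ({x} : Set G) →
        Nat.card ↥P ≤ Nat.card ↥((S : Subgroup G) ⊓ Subgroup.centralizer ({x} : Set G))) ∧
    (∀ T : Sylow 2 G, T ≠ S →
        (S : Subgroup G) ⊓ (T : Subgroup G) ≤
          (Subgroup.center ↥(S : Subgroup G)).map (S : Subgroup G).subtype ⊓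
            (Subgroup.center ↥(T : Subgroup G)).map (T : Subgroup G).subtype) := by
  haveI : Fact (Nat.Prime 2) := ⟨Nat.prime_two⟩
  have hK := fun S T hne => sylow_inter_center5 hCI _ S T hne le_rfl
  constructor
  · intro x hxS P hP hPC
    by_cases hxZ : x ∈ (Subgroup.center ↥(S : Subgroup G)).map (S : Subgroup G).subtype
    · rw [mem_center_map5] at hxZ
      have hSC : (S : Subgroup G) ≤ Subgroup.centralizer ({x} : Set G) := by
        intro s hs
        rw [Subgroup.mem_centralizer_iff]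
        intro h hh
        rw [Set.mem_singleton_iff] at hh
        subst hh
        exact (hxZ.2 s hs).symm
      rw [inf_eq_left.mpr hSC]
      obtain ⟨T, hT⟩ := hP.exists_le_sylow
      calc Nat.card ↥P ≤ Nat.card ↥(T : Subgroup G) := Subgroup.card_le_of_le hT
        _ = Nat.card ↥(S : Subgroup G) := by
          rw [Sylow.card_eq_multiplicity, Sylow.card_eq_multiplicity]
    · have hPn : P ≤ Subgroup.normalizer ((Subgroup.zpowers x : Subgroup G) : Set G) := by
        apply Cfsg.Agent.Lib.Helper4.le_normalizer_of_conj_mem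
        intro s hs d hd
        obtain ⟨k, rfl⟩ := Subgroup.mem_zpowers_iff.mp hd
        have h1 := (Subgroup.mem_centralizer_iff.mp (hPC hs)) x (Set.mem_singleton x)
        have h2 : s * x * s⁻¹ = x := by rw [← h1]; group
        have h3 : s * x ^ k * s⁻¹ = (s * x * s⁻¹) ^ k := by rw [conj_zpow]
        rw [h3, h2]
        exact Subgroup.zpow_mem_zpowers x k
      have hX : IsPGroup 2 (Subgroup.zpowers x) :=
        S.isPGroup'.to_le (by rw [Subgroup.zpowers_le]; exact hxS)
      have hsup : IsPGroup 2 ↥(Subgroup.zpowers x ⊔ P) := IsPGroup.to_sup_of_normal_left' hX hP hPn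
      obtain ⟨T, hT⟩ := hsup.exists_le_sylow
      have hxT : x ∈ (T : Subgroup G) := hT (Subgroup.mem_sup_left (Subgroup.mem_zpowers x))
      have hTS : T = S := by
        by_contra hne
        exact hxZ (hK S T (Ne.symm hne) ⟨hxS, hxT⟩)
      rw [hTS] at hT
      exact Subgroup.card_le_of_le (le_inf (le_sup_right.trans hT) hPC)
  · intro T hne
    refine le_inf (hK S T (Ne.symm hne)) ?_
    have := hK T S hne
    rwa [inf_comm] at this

end Cfsg.Agent.Lib.Helper5
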