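import Mathlib

set_option autoImplicit false

namespace Cfsg.Agent.Lib.Helper5

open MulAction Subgroup

/-- Generalized Thompson transfer lemma. -/
theorem thompson_transfer_gen {G : Type*} [Group G] [Finite G]
    (hG : ∀ H : Subgroup G, H.index ≠ 2) (S : Sylow 2 G) (M : Subgroup G)
    (hM : M.relIndex (S : Subgroup G) = 2)
    (n : ℕ) (hn : 1 ≤ n) (hord : ∀ y ∈ (S : Subgroup G), y ∉ M → 2 ^ (n - 1) < orderOf y)
    (x : G) (hxn : orderOf x = 2 ^ n) :
    ∃ g : G, g * x * g⁻¹ ∈ M := by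
  classical
  by_contra hcon
  push Not at hcon
  set H : Subgroup G := (S : Subgroup G) with hH
  let M' : Subgroup H := M.subgroupOf H
  have hM' : M'.index = 2 := hM
  let ϕ : H →* ℤˣ :=
    { toFun := fun s => if s ∈ M' then 1 else -1
      map_one' := by simp [M'.one_mem]
      map_mul' := by
        intro a b
        by_cases ha : a ∈ M' <;> by_cases hb : b ∈ M' <;>
          simp [ha, hb, Subgroup.mul_mem_iff_of_index_two hM'] }
  have hϕ1 : ∀ s : H, (s : G) ∈ M → ϕ s = 1 := by
    intro s hs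
    have : s ∈ M' := by rw [Subgroup.mem_subgroupOf]; exact hs
    simp [ϕ, this]
  have hϕ2 : ∀ s : H, (s : G) ∉ M → ϕ s = -1 := by
    intro s hs
    have : s ∉ M' := by rw [Subgroup.mem_subgroupOf]; exact hs
    simp [ϕ, this]
  let _ : Fintype (Quotient (orbitRel (zpowers x) (G ⧸ H))) := Fintype.ofFinite _
  have key : ∀ (k : ℕ) (g₀ : G) (hmem : g₀⁻¹ * x ^ k * g₀ ∈ H), k ∣ 2 ^ n →
      ϕ ⟨g₀⁻¹ * x ^ k * g₀, hmem⟩ = (-1 : ℤˣ) ^ k := by
    intro k g₀ hmem hkdvd
    obtain ⟨j, -, hj⟩ := (Nat.dvd_prime_pow Nat.prime_two).mp hkdvd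
    by_cases hj0 : j = 0
    · have hk1 : k = 1 := by rw [hj, hj0, pow_zero]
      subst hk1
      have h1 : (-1 : ℤˣ) ^ 1 = -1 := pow_one _
      rw [h1]
      apply hϕ2
      have := hcon g₀⁻¹
      simp only [inv_inv] at this
      simpa using this
    · have hjpos : 1 ≤ j := Nat.one_le_iff_ne_zero.mpr hj0
      have heven : Even k := by
        rw [hj]
        exact (Nat.even_pow.mpr ⟨even_two, hj0⟩)
      rw [heven.neg_one_pow]
      apply hϕ1
      by_contra hnot
      have hlt := hord _ hmem hnot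
      have hpow : (g₀⁻¹ * x ^ k * g₀) ^ (2 ^ (n - 1)) = 1 := by
        have h1 : (g₀⁻¹ * x ^ k * g₀) ^ (2 ^ (n - 1)) = g₀⁻¹ * (x ^ k) ^ (2 ^ (n - 1)) * g₀ := by
          have := conj_pow (a := g₀⁻¹) (b := x ^ k) (i := 2 ^ (n - 1))
          simpa using this
        rw [h1, ← pow_mul, hj]
        have h2 : 2 ^ j * 2 ^ (n - 1) = 2 ^ n * 2 ^ (j - 1) := by
          rw [← pow_add, ← pow_add]
          congr 1
          omega
        rw [h2, pow_mul, ← hxn, pow_orderOf_eq_one, one_pow]
        group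
      have hle : orderOf (g₀⁻¹ * x ^ k * g₀) ≤ 2 ^ (n - 1) :=
        Nat.le_of_dvd (by positivity) (orderOf_dvd_of_pow_eq_one hpow)
      omega
  have hfac : ∀ q : Quotient (orbitRel (zpowers x) (G ⧸ H)),
      ϕ ⟨q.out.out⁻¹ * x ^ Function.minimalPeriod (x • ·) q.out * q.out.out,
        QuotientGroup.out_conj_pow_minimalPeriod_mem H x q.out⟩
        = (-1 : ℤˣ) ^ Function.minimalPeriod (x • ·) q.out := by
    intro q
    apply key
    rw [← hxn]
    apply Function.IsPeriodicPt.minimalPeriod_dvd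
    show (x • ·)^[orderOf x] q.out = q.out
    rw [smul_iterate_apply, pow_orderOf_eq_one, one_smul]
  have htr : MonoidHom.transfer ϕ x = -1 := by
    rw [MonoidHom.transfer_eq_prod_quotient_orbitRel_zpowers_quot,
      Finset.prod_congr rfl (fun q _ => hfac q), Finset.prod_pow_eq_pow_sum,
      ← Subgroup.index_eq_sum_minimalPeriod H x]
    have hodd : Odd H.index := by
      rw [← Nat.not_even_iff_odd, even_iff_two_dvd]
      exact S.not_dvd_index
    exact hodd.neg_one_pow
  apply hG (MonoidHom.transfer ϕ).ker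
  rw [Subgroup.index_eq_two_iff]
  refine ⟨x, ?_⟩
  intro b
  simp only [MonoidHom.mem_ker, map_mul, htr]
  rcases Int.units_eq_one_or (MonoidHom.transfer ϕ b) with h | h
  · rw [h]
    right
    constructor
    · rfl
    · decide
  · rw [h]
    left
    constructor
    · decide
    · decide

end Cfsg.Agent.Lib.Helper5
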