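import Mathlib

set_option autoImplicit false

namespace Cfsg.Agent.Lib.Helper5

open MulAction Subgroup

/-- A `p`-group acting on a finite set, and an invariant subset `B`: `|B|` is congruent mod `p`
to the number of fixed points in `B`. -/
theorem card_invariant_modEq5 {P α : Type*} [Group P] [MulAction P α] [Finite α] {p : ℕ}
    [Fact p.Prime] (hP : IsPGroup p P) (B : Set α) (hB : ∀ g : P, ∀ b ∈ B, g • b ∈ B) :
    Nat.card B ≡ Nat.card (B ∩ MulAction.fixedPoints P α : Set α) [MOD p] := by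
  let B' : SubMulAction P α := ⟨B, fun g b hb => hB g b hb⟩
  have h1 := hP.card_modEq_card_fixedPoints (↥B')
  have e : MulAction.fixedPoints P (↥B') ≃ (B ∩ MulAction.fixedPoints P α : Set α) :=
    { toFun := fun x => ⟨x.1.1, x.1.2, fun g => congrArg Subtype.val (x.2 g)⟩
      invFun := fun y => ⟨⟨y.1, y.2.1⟩, fun g => Subtype.ext (y.2.2 g)⟩
      left_inv := fun x => rfl
      right_inv := fun y => rfl }
  rw [Nat.card_congr e] at h1
  exact h1

/-- Product of a `±1`-valued function. -/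
theorem prod_units_eq_pow_card5 {ι : Type*} [DecidableEq ι] (s : Finset ι) (f : ι → ℤˣ) :
    ∏ q ∈ s, f q = (-1 : ℤˣ) ^ (s.filter (fun q => f q = -1)).card := by
  classical
  rw [← Finset.prod_filter_mul_prod_filter_not s (fun q => f q = -1)]
  have h1 : ∏ q ∈ s.filter (fun q => f q = -1), f q = (-1 : ℤˣ) ^ (s.filter (fun q => f q = -1)).card := by
    rw [Finset.prod_congr rfl (fun q hq => (Finset.mem_filter.mp hq).2), Finset.prod_const]
  have h2 : ∏ q ∈ s.filter (fun q => ¬ f q = -1), f q = 1 := by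
    apply Finset.prod_eq_one
    intro q hq
    have := (Finset.mem_filter.mp hq).2
    rcases Int.units_eq_one_or (f q) with h | h
    · exact h
    · exact absurd h this
  rw [h1, h2, mul_one]

/-- Transfer of a central involution `z` of a Sylow 2-subgroup `S` which is centralized by
`N_G(S)`: the transfer of `ϕ : S → ±1` at `z` is `ϕ z` when `ϕ z = -1`. -/
theorem transfer_central_involution5 {G : Type*} [Group G] [Finite G] (H : Subgroup G)
    (h2grp : IsPGroup 2 H) (hHodd : ¬ 2 ∣ H.index)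
    (ϕ : H →* ℤˣ) (z : G) (hzS : z ∈ H)
    (hzc : ∀ s ∈ H, s * z = z * s) (hz2 : z * z = 1)
    (hϕz : ϕ ⟨z, hzS⟩ = -1)
    (hN : ∀ g ∈ Subgroup.normalizer (H : Set G), g * z * g⁻¹ = z) :
    MonoidHom.transfer ϕ z = -1 := by
  classical
  have hzinv : z⁻¹ = z := inv_eq_of_mul_eq_one_left hz2
  -- total extension of ϕ
  let Φ : G → ℤˣ := fun x => if h : x ∈ H then ϕ ⟨x, h⟩ else 1
  have hΦ : ∀ (x : G) (h : x ∈ H), Φ x = ϕ ⟨x, h⟩ := fun x h => by simp [Φ, h]
  have hΦmul : ∀ x y : G, x ∈ H → y ∈ H → Φ (x * y) = Φ x * Φ y := by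
    intro x y hx hy
    rw [hΦ x hx, hΦ y hy, hΦ (x * y) (H.mul_mem hx hy), ← map_mul]
    rfl
  have hΦ1 : Φ 1 = 1 := by rw [hΦ 1 H.one_mem]; exact map_one ϕ
  have hΦconj : ∀ (x h : G), h ∈ H → Φ (h⁻¹ * x * h) = Φ x := by
    intro x h hh
    by_cases hx : x ∈ H
    · rw [hΦmul _ _ (H.mul_mem (H.inv_mem hh) hx) hh, hΦmul _ _ (H.inv_mem hh) hx]
      have : Φ h⁻¹ * Φ h = 1 := by rw [← hΦmul _ _ (H.inv_mem hh) hh, inv_mul_cancel, hΦ1]
      rw [mul_comm (Φ h⁻¹), mul_assoc, this, mul_one]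
    · have hx' : h⁻¹ * x * h ∉ H := by
        intro hc
        apply hx
        have : x = h * (h⁻¹ * x * h) * h⁻¹ := by group
        rw [this]
        exact H.mul_mem (H.mul_mem hh hc) (H.inv_mem hh)
      simp [Φ, hx, hx']
  let Ψ : G → ℤˣ := fun g => Φ (g⁻¹ * z * g)
  have hΨr : ∀ (g h : G), h ∈ H → Ψ (g * h) = Ψ g := by
    intro g h hh
    have : (g * h)⁻¹ * z * (g * h) = h⁻¹ * (g⁻¹ * z * g) * h := by group
    show Φ _ = Φ _
    rw [this, hΦconj _ _ hh]
  have hΨl : ∀ (g s : G), s ∈ H → Ψ (s * g) = Ψ g := by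
    intro g s hs
    have h1 := hzc s hs
    have : (s * g)⁻¹ * z * (s * g) = g⁻¹ * z * g := by
      have h2 : (s * g)⁻¹ * z * (s * g) = g⁻¹ * s⁻¹ * (z * s) * g := by group
      rw [h2, ← h1]; group
    show Φ _ = Φ _
    rw [this]
  have hΨcoset : ∀ g g' : G, (g : G ⧸ H) = (g' : G ⧸ H) → Ψ g' = Ψ g := by
    intro g g' hgg
    have hmem : g⁻¹ * g' ∈ H := QuotientGroup.eq.mp hgg
    have : g' = g * (g⁻¹ * g') := by group
    rw [this, hΨr _ _ hmem]
  -- transversal
  let T : H.LeftTransversal := ⟨Set.range Quotient.out, isComplement_range_left Quotient.out_eq'⟩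
  have hterm : ∀ q : G ⧸ H, ((T.2.leftQuotientEquiv q : G))⁻¹ * ((z • T).2.leftQuotientEquiv q : G)
      = q.out⁻¹ * (z * (z • q).out) := by
    intro q
    rw [smul_apply_eq_smul_apply_inv_smul, hzinv,
      IsComplement.leftQuotientEquiv_apply (f := Quotient.out) Quotient.out_eq',
      IsComplement.leftQuotientEquiv_apply (f := Quotient.out) Quotient.out_eq', smul_eq_mul]
  let F : G ⧸ H → ℤˣ := fun q => Φ (q.out⁻¹ * (z * (z • q).out))
  let _ := H.fintypeQuotientOfFiniteIndex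
  have hzz : ∀ q : G ⧸ H, z • z • q = q := by
    intro q
    rw [← mul_smul, hz2, one_smul]
  have hFmem : ∀ q : G ⧸ H, q.out⁻¹ * (z * (z • q).out) ∈ H := by
    intro q
    have h1 : ((z * (z • q).out : G) : G ⧸ H) = ((q.out : G) : G ⧸ H) := by
      have h2 : ((z * (z • q).out : G) : G ⧸ H) = z • (((z • q).out : G) : G ⧸ H) := rfl
      rw [h2, QuotientGroup.out_eq', hzz, QuotientGroup.out_eq']
    exact QuotientGroup.eq.mp h1.symm
  have htr : MonoidHom.transfer ϕ z = ∏ q : G ⧸ H, F q := by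
    rw [MonoidHom.transfer_def ϕ T z]
    unfold Subgroup.leftTransversals.diff
    apply Finset.prod_congr rfl
    intro q _
    show ϕ _ = Φ _
    rw [hΦ _ (hFmem q)]
    congr 1
    exact Subtype.ext (hterm q)
  -- pairing
  have hpair : ∀ q : G ⧸ H, F q * F (z • q) = 1 := by
    intro q
    show Φ _ * Φ _ = 1
    rw [hzz, ← hΦmul _ _ (hFmem q) (by have := hFmem (z • q); rwa [hzz] at this)]
    have : q.out⁻¹ * (z * (z • q).out) * ((z • q).out⁻¹ * (z * q.out)) = q.out⁻¹ * (z * z) * q.out := by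
      group
    rw [this, hz2, mul_one, inv_mul_cancel, hΦ1]
  have hnonfix : ∏ q ∈ Finset.univ.filter (fun q : G ⧸ H => ¬ z • q = q), F q = 1 := by
    refine Finset.prod_involution (fun q _ => z • q) (fun a _ => hpair a)
      (fun a ha _ => (Finset.mem_filter.mp ha).2) (fun a ha => ?_) (fun a _ => hzz a)
    · have h := (Finset.mem_filter.mp ha).2
      rw [Finset.mem_filter]
      refine ⟨Finset.mem_univ _, ?_⟩
      intro hc
      apply h
      have := congrArg (fun x => z • x) hc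
      simp only [hzz] at this
      exact this
  have hfix : ∀ q : G ⧸ H, z • q = q → F q = Ψ q.out := by
    intro q hq
    show Φ _ = Φ _
    rw [hq]
    congr 1
    group
  rw [htr, ← Finset.prod_filter_mul_prod_filter_not Finset.univ (fun q : G ⧸ H => z • q = q),
    hnonfix, mul_one, Finset.prod_congr rfl (fun q hq => hfix q (Finset.mem_filter.mp hq).2),
    prod_units_eq_pow_card5]
  -- count
  let B : Set (G ⧸ H) := {q | z • q = q ∧ Ψ q.out = -1}
  have hcardB : ((Finset.univ.filter (fun q : G ⧸ H => z • q = q)).filter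
      (fun q => Ψ q.out = -1)).card = Nat.card B := by
    rw [Nat.card_eq_fintype_card]
    symm
    apply Fintype.card_of_subtype
    intro x
    simp [B]
  rw [hcardB]
  have hBinv : ∀ s : H, ∀ b ∈ B, s • b ∈ B := by
    rintro ⟨s, hs⟩ b ⟨hb1, hb2⟩
    have hsb : (⟨s, hs⟩ : H) • b = s • b := rfl
    rw [hsb]
    refine ⟨?_, ?_⟩
    · rw [← mul_smul, ← hzc s hs, mul_smul, hb1]
    · have h1 : (((s * b.out : G)) : G ⧸ H) = (((s • b).out : G) : G ⧸ H) := by
        have h2 : ((s * b.out : G) : G ⧸ H) = s • ((b.out : G) : G ⧸ H) := rfl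
        rw [h2, QuotientGroup.out_eq', QuotientGroup.out_eq']
      rw [hΨcoset _ _ h1, hΨl _ _ hs, hb2]
  have hcong := card_invariant_modEq5 h2grp B hBinv
  have hfixB : (B ∩ MulAction.fixedPoints H (G ⧸ H) : Set (G ⧸ H)) = MulAction.fixedPoints H (G ⧸ H) := by
    apply Set.inter_eq_right.mpr
    intro q hq
    have hq' : ((q.out : G) : G ⧸ H) ∈ MulAction.fixedPoints H (G ⧸ H) := by
      rw [QuotientGroup.out_eq']; exact hq
    rw [Sylow.mem_fixedPoints_mul_left_cosets_iff_mem_normalizer] at hq'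
    have hinv : q.out⁻¹ ∈ Subgroup.normalizer (H : Set G) := Subgroup.inv_mem _ hq'
    have hz' := hN _ hinv
    rw [inv_inv] at hz'
    refine ⟨?_, ?_⟩
    · have h1 : z • q = z • ((q.out : G) : G ⧸ H) := by rw [QuotientGroup.out_eq']
      have h2 : z • ((q.out : G) : G ⧸ H) = ((z * q.out : G) : G ⧸ H) := rfl
      rw [h1, h2]
      have h3 : ((z * q.out : G) : G ⧸ H) = ((q.out : G) : G ⧸ H) := by
        apply QuotientGroup.eq.mpr
        have : (z * q.out)⁻¹ * q.out = (q.out⁻¹ * z * q.out)⁻¹ := by group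
        rw [this, hz']
        exact H.inv_mem hzS
      rw [h3, QuotientGroup.out_eq']
    · show Φ _ = -1
      rw [hz', hΦ z hzS, hϕz]
  rw [hfixB] at hcong
  have hcong2 := h2grp.card_modEq_card_fixedPoints (G ⧸ H)
  have hodd : Odd (Nat.card (G ⧸ H)) := by
    rw [← Nat.not_even_iff_odd, even_iff_two_dvd]
    have := hHodd
    rwa [Subgroup.index_eq_card] at this
  have hoddB : Odd (Nat.card B) := by
    have h3 : Nat.card B ≡ Nat.card (G ⧸ H) [MOD 2] := hcong.trans hcong2.symm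
    rw [Nat.odd_iff] at hodd ⊢
    rw [← hodd]
    exact h3
  exact hoddB.neg_one_pow

end Cfsg.Agent.Lib.Helper5
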