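import Mathlib
import Cfsg.Prelude.Def_PLocal
import Cfsg.Prelude.Def_Transfer
import Cfsg.Agent.Lib.Helper5.TransferInv
import Cfsg.Agent.Lib.Helper7.ElemAbCount

set_option autoImplicit false

namespace Cfsg.Agent.Lib.Helper5

open Cfsg

/-- A hom to `ℤˣ` is trivial when `O²(G) = G`. -/
theorem hom_units_trivial_of_pResidual5 {G : Type*} [Group G] [Finite G]
    (h : Cfsg.pResidual 2 G = ⊤) (ψ : G →* ℤˣ) (g : G) : ψ g = 1 := by
  have hker : ψ.ker = ⊤ := by
    rw [eq_top_iff, ← h]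
    unfold Cfsg.pResidual
    rw [Subgroup.closure_le]
    intro x hx
    have hx' : Nat.Coprime (orderOf x) 2 := hx
    show x ∈ ψ.ker
    rw [MonoidHom.mem_ker]
    rcases Int.units_eq_one_or (ψ x) with h1 | h1
    · exact h1
    · exfalso
      have h2 : ψ x ^ orderOf x = 1 := by rw [← map_pow, pow_orderOf_eq_one, map_one]
      have hodd : Odd (orderOf x) := by
        rw [← Nat.not_even_iff_odd, even_iff_two_dvd]
        intro hd
        have := Nat.Coprime.eq_one_of_dvd hx'.symm hd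
        omega
      rw [h1, hodd.neg_one_pow] at h2
      exact absurd h2 (by decide)
  have : g ∈ ψ.ker := by rw [hker]; trivial
  exact MonoidHom.mem_ker.mp this

theorem omegaOne_center_transfer5 {G : Type*} [Group G] [Finite G] (S : Sylow 2 G) :
    Cfsg.pResidual 2 G ≠ ⊤ ∨
      Cfsg.omegaOne 2 ((S : Subgroup G) ⊓ Subgroup.centralizer ((S : Subgroup G) : Set G)) ≤
        (frattini ↥(S : Subgroup G)).map (S : Subgroup G).subtype ∨
      ∃ g ∈ Subgroup.normalizer ((S : Subgroup G) : Set G),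
        ∃ z ∈ Cfsg.omegaOne 2 ((S : Subgroup G) ⊓ Subgroup.centralizer ((S : Subgroup G) : Set G)),
          g * z * g⁻¹ ≠ z := by
  classical
  by_contra hcon
  push Not at hcon
  obtain ⟨h1, h2, h3⟩ := hcon
  -- find z
  have hex : ∃ z : G, z ∈ (S : Subgroup G) ⊓ Subgroup.centralizer ((S : Subgroup G) : Set G) ∧
      z ^ 2 = 1 ∧ z ∉ (frattini ↥(S : Subgroup G)).map (S : Subgroup G).subtype := by
    by_contra hne
    push Not at hne
    apply h2
    unfold Cfsg.omegaOne
    rw [Subgroup.closure_le]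
    intro x hx
    exact hne x hx.1 hx.2
  obtain ⟨z, hz, hz2, hzF⟩ := hex
  have hzS : z ∈ (S : Subgroup G) := hz.1
  have hzO : z ∈ Cfsg.omegaOne 2 ((S : Subgroup G) ⊓ Subgroup.centralizer ((S : Subgroup G) : Set G)) :=
    Subgroup.subset_closure ⟨hz, hz2⟩
  have hzF' : (⟨z, hzS⟩ : (S : Subgroup G)) ∉ frattini ↥(S : Subgroup G) := by
    intro hc
    exact hzF ⟨⟨z, hzS⟩, hc, rfl⟩
  rw [Cfsg.Agent.Lib.Helper7.mem_frattini_iff] at hzF'
  push Not at hzF'
  obtain ⟨M, hM, hzM⟩ := hzF'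
  obtain ⟨hMn, hMidx⟩ := Cfsg.Agent.Lib.Helper7.index_coatom_of_pGroup S.isPGroup' M hM
  let ϕ : (S : Subgroup G) →* ℤˣ :=
    { toFun := fun s => if s ∈ M then 1 else -1
      map_one' := by simp [M.one_mem]
      map_mul' := by
        intro a b
        by_cases ha : a ∈ M <;> by_cases hb : b ∈ M <;>
          simp [ha, hb, Subgroup.mul_mem_iff_of_index_two hMidx] }
  have hϕz : ϕ ⟨z, hzS⟩ = -1 := by
    show (if (⟨z, hzS⟩ : (S : Subgroup G)) ∈ M then (1 : ℤˣ) else -1) = -1
    rw [if_neg hzM]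
  have hzc : ∀ s ∈ (S : Subgroup G), s * z = z * s := by
    intro s hs
    exact (Subgroup.mem_centralizer_iff.mp hz.2) s hs
  have hzz : z * z = 1 := by rw [← pow_two]; exact hz2
  have htr := transfer_central_involution5 (S : Subgroup G) S.isPGroup' S.not_dvd_index ϕ z hzS hzc hzz hϕz
    (fun g hg => h3 g hg z hzO)
  have := hom_units_trivial_of_pResidual5 h1 (MonoidHom.transfer ϕ) z
  rw [htr] at this
  exact absurd this (by decide)

end Cfsg.Agent.Lib.Helper5
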