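import Mathlib
import Cfsg.Prelude.Def_IsolatedElements
import Cfsg.Agent.Lib.Helper5.Isolated
import Cfsg.Agent.Lib.Helper5.PPrimeCore5
import Cfsg.Agent.Lib.Helper5.PGroupBasics
import Cfsg.Agent.Lib.Helper2.PComp3
import Cfsg.Agent.Lib.Helper3.PPrimeCore
import Cfsg.Agent.Lib.Lead.CoprimeAction2

set_option autoImplicit false

namespace Cfsg.Agent.Lib.Helper5

open scoped commutatorElement

universe u

theorem pPrimeCore_bot_of_normal5 {G : Type u} [Group G] [Finite G] {p : ℕ} [Fact p.Prime]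
    (hK : Cfsg.pPrimeCore p G = ⊥) (M : Subgroup G) (hM : M.Normal) (m : ↥M)
    (hm : m ∈ Cfsg.pPrimeCore p ↥M) : (m : G) = 1 := by
  have h := (Cfsg.Agent.Lib.Helper2.mem_pPrimeCore_subnormal_iff p M
    (Subgroup.Normal.isSubnormal hM) m).mp hm
  rw [hK] at h
  exact Subgroup.mem_bot.mp h

theorem abelian_normal_pgroup5 {G : Type u} [Group G] [Finite G] {p : ℕ} [Fact p.Prime]
    (hK : Cfsg.pPrimeCore p G = ⊥) (N : Subgroup G) (hN : N.Normal)
    (hab : ∀ a ∈ N, ∀ b ∈ N, a * b = b * a) : IsPGroup p N := by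
  have hp : p.Prime := Fact.out
  rintro ⟨n, hn⟩
  obtain ⟨a, m, hm, hnm⟩ := Nat.exists_eq_pow_mul_and_not_dvd (orderOf_pos n).ne' p hp.ne_one
  refine ⟨a, Subtype.ext ?_⟩
  show n ^ p ^ a = 1
  obtain ⟨w, hw⟩ : ∃ w : ↥N, (w : G) = n ^ p ^ a := ⟨⟨n ^ p ^ a, N.pow_mem hn _⟩, rfl⟩
  have hwm : w ^ m = 1 := by
    apply Subtype.ext
    show (w : G) ^ m = 1
    rw [hw, ← pow_mul, ← hnm]; exact pow_orderOf_eq_one n
  have hWn : (Subgroup.zpowers w).Normal := by
    refine ⟨fun y hy g => ?_⟩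
    have : g * y * g⁻¹ = y := by
      apply Subtype.ext
      have := hab (g : G) g.2 (y : G) y.2
      show (g : G) * y * (g : G)⁻¹ = y
      rw [this]; group
    rw [this]; exact hy
  have hWc : (Nat.card (Subgroup.zpowers w)).Coprime p := by
    rw [Nat.card_zpowers]
    have h1 : orderOf w ∣ m := orderOf_dvd_of_pow_eq_one hwm
    exact Nat.Coprime.coprime_dvd_left h1 ((Nat.Prime.coprime_iff_not_dvd hp).mpr hm).symm
  have h2 := le_pPrimeCore5 hWn hWc (Subgroup.mem_zpowers w)
  rw [← hw]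
  exact pPrimeCore_bot_of_normal5 hK N hN w h2

theorem closure_comm_exp5 {G : Type*} [Group G] (s : Set G)
    (hs : ∀ a ∈ s, ∀ b ∈ s, a * b = b * a) (n : ℕ) (hn : ∀ a ∈ s, a ^ n = 1) :
    (∀ a ∈ Subgroup.closure s, ∀ b ∈ Subgroup.closure s, a * b = b * a) ∧
      ∀ a ∈ Subgroup.closure s, a ^ n = 1 := by
  have h1 : Subgroup.closure s ≤ Subgroup.centralizer s := by
    rw [Subgroup.closure_le]
    intro a ha
    rw [SetLike.mem_coe, Subgroup.mem_centralizer_iff]
    intro y hy
    exact hs y hy a ha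
  have h2 : Subgroup.closure s ≤ Subgroup.centralizer (Subgroup.closure s : Set G) := by
    rw [Subgroup.closure_le]
    intro a ha
    rw [SetLike.mem_coe, Subgroup.mem_centralizer_iff]
    intro b hb
    exact (Subgroup.mem_centralizer_iff.mp (h1 hb) a ha).symm
  have hc : ∀ a ∈ Subgroup.closure s, ∀ b ∈ Subgroup.closure s, a * b = b * a := by
    intro a ha b hb
    exact (Subgroup.mem_centralizer_iff.mp (h2 ha) b hb).symm
  refine ⟨hc, ?_⟩
  intro a ha
  induction ha using Subgroup.closure_induction with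
  | mem x hx => exact hn x hx
  | one => exact one_pow n
  | mul x y hx hy ihx ihy =>
    rw [(show Commute x y from hc x hx y hy).mul_pow, ihx, ihy, one_mul]
  | inv x hx ih => rw [inv_pow, ih, inv_one]

theorem zp_star_min5 {G : Type u} [Group G] [Finite G] {p : ℕ} [Fact p.Prime] (x : G)
    (hx : orderOf x = p) (hiso : Cfsg.IsIsolated x) (hnz : ¬ Cfsg.InZStar p x)
    (hmin : ∀ (H : Subgroup G) (hxH : x ∈ H), H ≠ ⊤ → Cfsg.InZStar p (⟨x, hxH⟩ : ↥H))
    (hquot : ∀ (N : Subgroup G) [N.Normal], N ≠ ⊥ →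
      Cfsg.InZStar p (QuotientGroup.mk x : G ⧸ N)) :
    IsSimpleGroup ↥(commutator G) ∧ ¬ IsMulCommutative ↥(commutator G) ∧
      commutator G ⊔ Subgroup.zpowers x = ⊤ := by
  have hp : p.Prime := Fact.out
  have hxp : x ^ p = 1 := by rw [← hx]; exact pow_orderOf_eq_one x
  have hx1 : x ≠ 1 := by
    intro h; rw [h, orderOf_one] at hx; exact hp.one_lt.ne hx
  have hxZ : ¬ ∀ g : G, g * x * g⁻¹ = x := by
    intro h
    apply hnz
    intro g
    rw [h g, mul_inv_cancel]
    exact Subgroup.one_mem _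
  -- Step A
  have hK : Cfsg.pPrimeCore p G = ⊥ := by
    by_contra hne
    haveI := pPrimeCore_normal5 p G
    have h := hquot (Cfsg.pPrimeCore p G) hne
    apply hnz
    intro g
    have h1 := h (QuotientGroup.mk g)
    rw [Cfsg.Agent.Lib.Helper2.pPrimeCore_quotient_eq_bot p G, Subgroup.mem_bot] at h1
    exact (QuotientGroup.eq_one_iff (g * x * g⁻¹ * x⁻¹)).mp h1
  -- Step B
  have hspade : ∀ M : Subgroup G, M.Normal → x ∈ M → M = ⊤ := by
    intro M hMn hxM
    by_contra hM
    apply hxZ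
    have h := hmin M hxM hM
    have hcen : ∀ m ∈ M, m * x * m⁻¹ = x := by
      intro m hm
      have h1 := h ⟨m, hm⟩
      have h2 := pPrimeCore_bot_of_normal5 hK M hMn _ h1
      have h3 : m * x * m⁻¹ * x⁻¹ = 1 := h2
      calc m * x * m⁻¹ = (m * x * m⁻¹ * x⁻¹) * x := by group
        _ = x := by rw [h3, one_mul]
    intro g
    apply hiso
    have hy : g * x * g⁻¹ ∈ M := hMn.conj_mem x hxM g
    have h1 := hcen _ hy
    show x * (g * x * g⁻¹) = (g * x * g⁻¹) * x
    calc x * (g * x * g⁻¹) = ((g * x * g⁻¹) * x * (g * x * g⁻¹)⁻¹) * (g * x * g⁻¹) := by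
          rw [h1]
      _ = (g * x * g⁻¹) * x := by group
  -- Step C
  have hZ : Subgroup.center G = ⊥ := by
    by_contra hne
    have hZp : IsPGroup p (Subgroup.center G) :=
      abelian_normal_pgroup5 hK _ inferInstance
        (fun a _ b hb => (Subgroup.mem_center_iff.mp hb a))
    have h := hquot (Subgroup.center G) hne
    haveI : (Cfsg.pPrimeCore p (G ⧸ Subgroup.center G)).Normal := pPrimeCore_normal5 p _
    obtain ⟨Zs, hZs⟩ : ∃ Zs : Subgroup G, Zs = (Cfsg.pPrimeCore p (G ⧸ Subgroup.center G)).comap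
      (QuotientGroup.mk' (Subgroup.center G)) := ⟨_, rfl⟩
    have hZsn : Zs.Normal := by rw [hZs]; infer_instance
    have hmemZs : ∀ g : G, g ∈ Zs ↔
        (QuotientGroup.mk g : G ⧸ Subgroup.center G) ∈
          Cfsg.pPrimeCore p (G ⧸ Subgroup.center G) := by
      intro g; rw [hZs]; rfl
    have hcs := Cfsg.Agent.Lib.Helper3.central_sylow_pPrimeCore (C := ↥Zs)
      ((Subgroup.center G).subgroupOf Zs) (IsPGroup.comap_subtype hZp) ?_ ?_
    · have hbot : Cfsg.pPrimeCore p ↥Zs = ⊥ := by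
        rw [eq_bot_iff]
        intro z hz
        exact Subgroup.mem_bot.mpr (Subtype.ext (pPrimeCore_bot_of_normal5 hK Zs hZsn z hz))
      rw [hbot, bot_sup_eq] at hcs
      have hZsZ : Zs ≤ Subgroup.center G := by
        intro z hz
        have : (⟨z, hz⟩ : ↥Zs) ∈ (Subgroup.center G).subgroupOf Zs := by rw [hcs.2]; trivial
        exact Subgroup.mem_subgroupOf.mp this
      apply hxZ
      intro g
      apply hiso
      have h1 := h (QuotientGroup.mk g)
      have h2 : g * x * g⁻¹ * x⁻¹ ∈ Zs := (hmemZs _).mpr h1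
      have h3 := Subgroup.mem_center_iff.mp (hZsZ h2) x
      show x * (g * x * g⁻¹) = (g * x * g⁻¹) * x
      calc x * (g * x * g⁻¹) = x * (g * x * g⁻¹ * x⁻¹) * x := by group
        _ = (g * x * g⁻¹ * x⁻¹) * x * x := by rw [h3]
        _ = (g * x * g⁻¹) * x := by group
    · rintro ⟨z, hz⟩ hzZ
      rw [Subgroup.mem_subgroupOf] at hzZ
      rw [Subgroup.mem_center_iff]
      rintro ⟨g, hg⟩
      exact Subtype.ext (Subgroup.mem_center_iff.mp hzZ g)
    · intro T hT hZT
      apply le_antisymm _ hZT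
      rintro ⟨t, ht⟩ htT
      rw [Subgroup.mem_subgroupOf]
      show t ∈ Subgroup.center G
      obtain ⟨k, hk⟩ := hT ⟨⟨t, ht⟩, htT⟩
      have htk : t ^ p ^ k = 1 := by
        have := congrArg (fun y : ↥T => ((y : ↥Zs) : G)) hk
        simpa using this
      have h1 : (QuotientGroup.mk t : G ⧸ Subgroup.center G) ∈
          Cfsg.pPrimeCore p (G ⧸ Subgroup.center G) := (hmemZs t).mp ht
      have hc := pPrimeCore_coprime5 p (G ⧸ Subgroup.center G)
      have h3 : (QuotientGroup.mk t : G ⧸ Subgroup.center G) ^ p ^ k = 1 := by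
        rw [← QuotientGroup.mk_pow, htk]; rfl
      have h4 : orderOf (QuotientGroup.mk t : G ⧸ Subgroup.center G) ∣ p ^ k :=
        orderOf_dvd_of_pow_eq_one h3
      have h5 : orderOf (QuotientGroup.mk t : G ⧸ Subgroup.center G) ∣
          Nat.card (Cfsg.pPrimeCore p (G ⧸ Subgroup.center G)) := by
        rw [← Subgroup.orderOf_mk _ h1]; exact orderOf_dvd_natCard _
      have h6 : orderOf (QuotientGroup.mk t : G ⧸ Subgroup.center G) = 1 :=
        Nat.Coprime.eq_one_of_dvd (Nat.Coprime.coprime_dvd_left h5 (hc.pow_right k)) h4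
      exact (QuotientGroup.eq_one_iff t).mp (orderOf_eq_one_iff.mp h6)
  -- minimal normal subgroup
  obtain ⟨N, ⟨hNn, hNne⟩, hNmin⟩ := Set.exists_min_image {N : Subgroup G | N.Normal ∧ N ≠ ⊥}
    (fun N => Nat.card N) (Set.toFinite _) ⟨⊤, inferInstance, fun h => hx1 (by
      have : x ∈ (⊤ : Subgroup G) := Subgroup.mem_top x
      rw [h] at this; exact Subgroup.mem_bot.mp this)⟩
  have hNmin' : ∀ N' : Subgroup G, N'.Normal → N' ≠ ⊥ → N' ≤ N → N' = N := by
    intro N' h1 h2 h3
    exact Subgroup.eq_of_le_of_card_ge h3 (hNmin N' ⟨h1, h2⟩)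
  haveI := hNn
  have hNx : N ⊔ Subgroup.zpowers x = ⊤ := by
    by_contra hH
    have hxH : x ∈ N ⊔ Subgroup.zpowers x := Subgroup.mem_sup_right (Subgroup.mem_zpowers x)
    have h := hmin _ hxH hH
    have hNH : N ≤ N ⊔ Subgroup.zpowers x := le_sup_left
    have hcen : ∀ n ∈ N, n * x * n⁻¹ * x⁻¹ = 1 := by
      intro n hn
      have h1 := h ⟨n, hNH hn⟩
      have hcN : n * x * n⁻¹ * x⁻¹ ∈ N := by
        have : x * n⁻¹ * x⁻¹ ∈ N := hNn.conj_mem _ (N.inv_mem hn) x
        have e : n * x * n⁻¹ * x⁻¹ = n * (x * n⁻¹ * x⁻¹) := by group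
        rw [e]; exact N.mul_mem hn this
      haveI : (Cfsg.pPrimeCore p ↥(N ⊔ Subgroup.zpowers x)).Normal := pPrimeCore_normal5 p _
      have hQ1n : ((Cfsg.pPrimeCore p ↥(N ⊔ Subgroup.zpowers x)).comap
          (Subgroup.inclusion hNH)).Normal := inferInstance
      have hQ1c : (Nat.card ((Cfsg.pPrimeCore p ↥(N ⊔ Subgroup.zpowers x)).comap
          (Subgroup.inclusion hNH))).Coprime p :=
        Nat.Coprime.coprime_dvd_left
          (Subgroup.card_comap_dvd_of_injective _ _ (Subgroup.inclusion_injective hNH))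
          (pPrimeCore_coprime5 p _)
      have hmem : (⟨n * x * n⁻¹ * x⁻¹, hcN⟩ : ↥N) ∈
          (Cfsg.pPrimeCore p ↥(N ⊔ Subgroup.zpowers x)).comap (Subgroup.inclusion hNH) := by
        rw [Subgroup.mem_comap]
        exact h1
      have := le_pPrimeCore5 hQ1n hQ1c hmem
      exact pPrimeCore_bot_of_normal5 hK N hNn _ this
    have hxC : x ∈ Subgroup.centralizer (N : Set G) := by
      rw [Subgroup.mem_centralizer_iff]
      intro n hn
      have h1 := hcen n hn
      calc n * x = (n * x * n⁻¹ * x⁻¹) * x * n := by group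
        _ = x * n := by rw [h1, one_mul]
    have htop := hspade _ inferInstance hxC
    apply hNne
    rw [eq_bot_iff, ← hZ]
    intro n hn
    rw [Subgroup.mem_center_iff]
    intro g
    have hg : g ∈ Subgroup.centralizer (N : Set G) := by rw [htop]; trivial
    exact (Subgroup.mem_centralizer_iff.mp hg n hn).symm
  have hzp : IsPGroup p (Subgroup.zpowers x) :=
    isPGroup_zpowers_of_orderOf x 1 (by rw [pow_one]; exact hx)
  have hNnp : ¬ IsPGroup p N := by
    intro hNp
    have hR : IsPGroup p (Subgroup.zpowers x ⊔ N : Subgroup G) := by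
      apply IsPGroup.to_sup_of_normal_right' hzp hNp
      rw [Subgroup.normalizer_eq_top]; exact le_top
    have h1 := isolated_central_in_pGroup x hiso _ hR
      (Subgroup.mem_sup_left (Subgroup.mem_zpowers x))
    apply hxZ
    intro g
    have hg : g ∈ Subgroup.zpowers x ⊔ N := by rw [sup_comm, hNx]; trivial
    have := h1 g hg
    rw [this]; group
  have hNna : ¬ ∀ a ∈ N, ∀ b ∈ N, a * b = b * a :=
    fun h => hNnp (abelian_normal_pgroup5 hK N hNn h)
  have hcomm_le : commutator G ≤ N := by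
    rw [commutator_def, Subgroup.commutator_le]
    intro a _ b _
    have key : ∀ g : G, ∃ k : ℤ, (QuotientGroup.mk g : G ⧸ N) = (QuotientGroup.mk x) ^ k := by
      intro g
      have hg : g ∈ N ⊔ Subgroup.zpowers x := by rw [hNx]; trivial
      obtain ⟨n, hn, y, hy, rfl⟩ := Subgroup.mem_sup_of_normal_left.mp hg
      obtain ⟨k, rfl⟩ := Subgroup.mem_zpowers_iff.mp hy
      refine ⟨k, ?_⟩
      rw [QuotientGroup.mk_mul, (QuotientGroup.eq_one_iff n).mpr hn, one_mul,
        QuotientGroup.mk_zpow]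
    obtain ⟨i, hi⟩ := key a
    obtain ⟨j, hj⟩ := key b
    apply (QuotientGroup.eq_one_iff _).mp
    show (QuotientGroup.mk (a * b * a⁻¹ * b⁻¹) : G ⧸ N) = 1
    rw [QuotientGroup.mk_mul, QuotientGroup.mk_mul, QuotientGroup.mk_mul, QuotientGroup.mk_inv,
      QuotientGroup.mk_inv, hi, hj, (Commute.zpow_zpow_self _ i j).eq]
    group
  have hN_le : N ≤ commutator G := by
    have h1 : (⁅N, N⁆ : Subgroup G).Normal := inferInstance
    have h2 : ⁅N, N⁆ ≤ N := Subgroup.commutator_le_left N N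
    have h3 : (⁅N, N⁆ : Subgroup G) ≠ ⊥ := by
      intro h
      apply hNna
      intro a ha b hb
      have : ⁅a, b⁆ ∈ (⁅N, N⁆ : Subgroup G) := Subgroup.commutator_mem_commutator ha hb
      rw [h, Subgroup.mem_bot] at this
      exact commutatorElement_eq_one_iff_mul_comm.mp this
    have h4 := hNmin' _ h1 h3 h2
    rw [← h4, commutator_def]
    exact Subgroup.commutator_mono le_top le_top
  have hcN : commutator G = N := le_antisymm hcomm_le hN_le
  -- simplicity of N
  have hsimple : IsSimpleGroup ↥N := by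
    haveI : Nontrivial ↥N := (Subgroup.nontrivial_iff_ne_bot N).mpr hNne
    refine { exists_pair_ne := exists_pair_ne _, eq_bot_or_eq_top_of_normal := ?_ }
    intro T' hT'n
    by_contra hcon
    push Not at hcon
    obtain ⟨hT'bot, hT'top⟩ := hcon
    obtain ⟨T0, ⟨hT0n, hT0ne⟩, hT0min⟩ := Set.exists_min_image
      {T : Subgroup ↥N | T.Normal ∧ T ≠ ⊥}
      (fun T => Nat.card T) (Set.toFinite _) ⟨T', hT'n, hT'bot⟩
    have hT0top : T0 ≠ ⊤ := by
      intro h
      have h1 := hT0min T' ⟨hT'n, hT'bot⟩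
      rw [h, Subgroup.card_top] at h1
      exact hT'top (Subgroup.eq_top_of_le_card _ h1)
    obtain ⟨T, hTdef⟩ : ∃ T : Subgroup G, T = T0.map N.subtype := ⟨_, rfl⟩
    have hmemT : ∀ t : G, t ∈ T ↔ ∃ h : t ∈ N, (⟨t, h⟩ : ↥N) ∈ T0 := by
      intro t
      rw [hTdef]
      constructor
      · rintro ⟨t', ht', rfl⟩
        exact ⟨t'.2, ht'⟩
      · rintro ⟨h, ht⟩
        exact ⟨⟨t, h⟩, ht, rfl⟩
    have hTN : T ≤ N := fun t ht => ((hmemT t).mp ht).1
    have hTne : T ≠ ⊥ := by
      intro h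
      apply hT0ne
      rw [eq_bot_iff]
      intro t ht
      have : (t : G) ∈ T := (hmemT _).mpr ⟨t.2, ht⟩
      rw [h, Subgroup.mem_bot] at this
      exact Subgroup.mem_bot.mpr (Subtype.ext this)
    have hTnorm : ∀ n ∈ N, ∀ t ∈ T, n * t * n⁻¹ ∈ T := by
      intro n hn t ht
      obtain ⟨htN, ht0⟩ := (hmemT t).mp ht
      exact (hmemT _).mpr ⟨N.mul_mem (N.mul_mem hn htN) (N.inv_mem hn),
        hT0n.conj_mem _ ht0 ⟨n, hn⟩⟩
    have hTmin : ∀ U : Subgroup G, U ≤ T → U ≠ ⊥ → (∀ n ∈ N, ∀ u ∈ U, n * u * n⁻¹ ∈ U) →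
        T ≤ U := by
      intro U hUT hUne hUnorm
      have hU'n : (U.subgroupOf N).Normal := by
        refine ⟨fun u hu g => ?_⟩
        rw [Subgroup.mem_subgroupOf] at hu ⊢
        exact hUnorm g g.2 u hu
      have hU'ne : U.subgroupOf N ≠ ⊥ := by
        intro h
        apply hUne
        rw [eq_bot_iff]
        intro u hu
        have : (⟨u, hTN (hUT hu)⟩ : ↥N) ∈ U.subgroupOf N := Subgroup.mem_subgroupOf.mpr hu
        rw [h, Subgroup.mem_bot] at this
        exact Subgroup.mem_bot.mpr (congrArg Subtype.val this)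
      have hU'le : U.subgroupOf N ≤ T0 := by
        intro u hu
        rw [Subgroup.mem_subgroupOf] at hu
        exact ((hmemT _).mp (hUT hu)).2
      have heq := Subgroup.eq_of_le_of_card_ge hU'le (hT0min _ ⟨hU'n, hU'ne⟩)
      intro t ht
      obtain ⟨htN, ht0⟩ := (hmemT t).mp ht
      rw [← heq, Subgroup.mem_subgroupOf] at ht0
      exact ht0
    -- conjugates of T
    have hTg_le : ∀ g : G, T.map (MulAut.conj g).toMonoidHom ≤ N := by
      rintro g _ ⟨t, ht, rfl⟩
      exact hNn.conj_mem t (hTN ht) g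
    have hTg_norm : ∀ g : G, ∀ n ∈ N, ∀ s ∈ T.map (MulAut.conj g).toMonoidHom,
        n * s * n⁻¹ ∈ T.map (MulAut.conj g).toMonoidHom := by
      rintro g n hn _ ⟨t, ht, rfl⟩
      have h1 : g⁻¹ * n * g ∈ N := by
        have := hNn.conj_mem n hn g⁻¹
        simpa using this
      refine ⟨(g⁻¹ * n * g) * t * (g⁻¹ * n * g)⁻¹, hTnorm _ h1 t ht, ?_⟩
      show g * ((g⁻¹ * n * g) * t * (g⁻¹ * n * g)⁻¹) * g⁻¹ = n * (g * t * g⁻¹) * n⁻¹
      group
    have hTg_card : ∀ g : G, Nat.card (T.map (MulAut.conj g).toMonoidHom) = Nat.card T :=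
      fun g => Subgroup.card_map_of_injective (MulAut.conj g).injective
    have hdich : ∀ g : G, T.map (MulAut.conj g).toMonoidHom = T ∨
        T ⊓ T.map (MulAut.conj g).toMonoidHom = ⊥ := by
      intro g
      by_cases hbot : T ⊓ T.map (MulAut.conj g).toMonoidHom = ⊥
      · right; exact hbot
      · left
        have h1 := hTmin _ inf_le_left hbot (fun n hn u hu =>
          ⟨hTnorm n hn u hu.1, hTg_norm g n hn u hu.2⟩)
        have h2 : T ≤ T.map (MulAut.conj g).toMonoidHom := h1.trans inf_le_right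
        exact (Subgroup.eq_of_le_of_card_ge h2 (le_of_eq (hTg_card g))).symm
    have hcomm2 : ∀ g : G, T ⊓ T.map (MulAut.conj g).toMonoidHom = ⊥ → ∀ t ∈ T,
        ∀ s ∈ T.map (MulAut.conj g).toMonoidHom, t * s = s * t := by
      intro g hbot t ht s hs
      have h1 : t * s * t⁻¹ * s⁻¹ ∈ T := by
        have := hTnorm s (hTg_le g hs) t⁻¹ (T.inv_mem ht)
        have e : t * s * t⁻¹ * s⁻¹ = t * (s * t⁻¹ * s⁻¹) := by group
        rw [e]; exact T.mul_mem ht this
      have h2 : t * s * t⁻¹ * s⁻¹ ∈ T.map (MulAut.conj g).toMonoidHom :=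
        Subgroup.mul_mem _ (hTg_norm g t (hTN ht) s hs) (Subgroup.inv_mem _ hs)
      have h3 : t * s * t⁻¹ * s⁻¹ ∈ T ⊓ T.map (MulAut.conj g).toMonoidHom := ⟨h1, h2⟩
      rw [hbot, Subgroup.mem_bot] at h3
      calc t * s = (t * s * t⁻¹ * s⁻¹) * s * t := by group
        _ = s * t := by rw [h3, one_mul]
    have hnormT : ∀ g : G, T.map (MulAut.conj g).toMonoidHom = T →
        g ∈ Subgroup.normalizer (T : Set G) := by
      intro g hg
      apply mem_normalizer_of_conj_mem5
      intro t ht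
      rw [← hg]
      exact ⟨t, ht, rfl⟩
    have hxT : T.map (MulAut.conj x).toMonoidHom ≠ T := by
      intro h
      have h1 : N ⊔ Subgroup.zpowers x ≤ Subgroup.normalizer (T : Set G) := by
        apply sup_le
        · intro n hn
          apply mem_normalizer_of_conj_mem5
          exact hTnorm n hn
        · rw [Subgroup.zpowers_le]; exact hnormT x h
      rw [hNx] at h1
      have hTn : T.Normal := Subgroup.normalizer_eq_top_iff.mp (top_le_iff.mp h1)
      have h2 := hNmin' T hTn hTne hTN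
      apply hT0top
      rw [eq_top_iff]
      intro n _
      have : (n : G) ∈ T := by rw [h2]; exact n.2
      exact ((hmemT _).mp this).2
    have hxd : ∀ d : ℕ, 0 < d → d < p → T.map (MulAut.conj (x ^ d)).toMonoidHom ≠ T := by
      intro d hd0 hdp h
      have h1 := hnormT _ h
      have hcop : d.Coprime (orderOf x) := by
        rw [hx]
        exact (Nat.coprime_of_lt_prime hd0.ne' hdp hp).symm
      obtain ⟨e, he⟩ := exists_pow_eq_self_of_coprime hcop
      have h2 : x ∈ Subgroup.normalizer (T : Set G) := by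
        rw [← he]; exact Subgroup.pow_mem _ h1 e
      apply hxT
      have h3 : T.map (MulAut.conj x).toMonoidHom ≤ T := by
        rintro _ ⟨t, ht, rfl⟩
        exact (Subgroup.mem_normalizer_iff.mp h2 t).mp ht
      exact Subgroup.eq_of_le_of_card_ge h3 (le_of_eq (hTg_card x).symm)
    -- p divides |T|
    have hpT : p ∣ Nat.card T := by
      by_contra hnd
      have hc : (Nat.card T0).Coprime p := by
        have : Nat.card T = Nat.card T0 := by
          rw [hTdef]; exact Subgroup.card_map_of_injective N.subtype_injective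
        rw [← this]
        exact ((Nat.Prime.coprime_iff_not_dvd hp).mpr hnd).symm
      have h1 := le_pPrimeCore5 hT0n hc
      apply hT0ne
      rw [eq_bot_iff]
      intro t ht
      exact Subgroup.mem_bot.mpr (Subtype.ext (pPrimeCore_bot_of_normal5 hK N hNn t (h1 ht)))
    obtain ⟨c', hc'⟩ := exists_prime_orderOf_dvd_card' (G := ↥T) p hpT
    obtain ⟨c, hcT, hco⟩ : ∃ c ∈ T, orderOf c = p :=
      ⟨(c' : G), c'.2, by rw [Subgroup.orderOf_coe]; exact hc'⟩
    have hcp : c ^ p = 1 := by rw [← hco]; exact pow_orderOf_eq_one c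
    obtain ⟨s, hsdef⟩ : ∃ s : Set G, s = {y | ∃ i < p, y = x ^ i * c * (x ^ i)⁻¹} := ⟨_, rfl⟩
    have hstep : ∀ i d : ℕ, 0 < d → d < p →
        (x ^ i * c * (x ^ i)⁻¹) * (x ^ (i + d) * c * (x ^ (i + d))⁻¹) =
          (x ^ (i + d) * c * (x ^ (i + d))⁻¹) * (x ^ i * c * (x ^ i)⁻¹) := by
      intro i d hd0 hdp
      have hb : T ⊓ T.map (MulAut.conj (x ^ d)).toMonoidHom = ⊥ :=
        (hdich (x ^ d)).resolve_left (hxd d hd0 hdp)
      have h0 : c * (x ^ d * c * (x ^ d)⁻¹) = (x ^ d * c * (x ^ d)⁻¹) * c :=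
        hcomm2 (x ^ d) hb c hcT _ ⟨c, hcT, rfl⟩
      calc (x ^ i * c * (x ^ i)⁻¹) * (x ^ (i + d) * c * (x ^ (i + d))⁻¹)
          = x ^ i * (c * (x ^ d * c * (x ^ d)⁻¹)) * (x ^ i)⁻¹ := by rw [pow_add]; group
        _ = x ^ i * ((x ^ d * c * (x ^ d)⁻¹) * c) * (x ^ i)⁻¹ := by rw [h0]
        _ = (x ^ (i + d) * c * (x ^ (i + d))⁻¹) * (x ^ i * c * (x ^ i)⁻¹) := by
            rw [pow_add]; group
    have hs_comm : ∀ a ∈ s, ∀ b ∈ s, a * b = b * a := by
      intro a ha b hb
      rw [hsdef] at ha hb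
      obtain ⟨i, hi, rfl⟩ := ha
      obtain ⟨j, hj, rfl⟩ := hb
      rcases Nat.lt_trichotomy i j with hij | hij | hij
      · have := hstep i (j - i) (by omega) (by omega)
        have e : i + (j - i) = j := by omega
        rw [e] at this
        exact this
      · rw [hij]
      · have := hstep j (i - j) (by omega) (by omega)
        have e : j + (i - j) = i := by omega
        rw [e] at this
        exact this.symm
    have hs_exp : ∀ a ∈ s, a ^ p = 1 := by
      intro a ha
      rw [hsdef] at ha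
      obtain ⟨i, -, rfl⟩ := ha
      rw [conj_pow, hcp]; group
    obtain ⟨hA_comm, hA_exp⟩ := closure_comm_exp5 s hs_comm p hs_exp
    have hAp : IsPGroup p (Subgroup.closure s) := by
      rintro ⟨a, ha⟩
      exact ⟨1, Subtype.ext (by simpa using hA_exp a ha)⟩
    have hcs : c ∈ s := by
      rw [hsdef]; exact ⟨0, hp.pos, by simp⟩
    have hxA : x ∈ Subgroup.normalizer ((Subgroup.closure s : Subgroup G) : Set G) := by
      apply mem_normalizer_of_conj_mem5
      apply Cfsg.Agent.Lib.Lead.conj_mem_closure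
      intro y hy
      rw [hsdef] at hy
      obtain ⟨i, hi, rfl⟩ := hy
      apply Subgroup.subset_closure
      rw [hsdef]
      by_cases hip : i + 1 < p
      · exact ⟨i + 1, hip, by rw [pow_succ']; group⟩
      · have hip' : i + 1 = p := by omega
        refine ⟨0, hp.pos, ?_⟩
        have e : x * (x ^ i * c * (x ^ i)⁻¹) * x⁻¹ = x ^ (i + 1) * c * (x ^ (i + 1))⁻¹ := by
          rw [pow_succ']; group
        rw [e, hip', hxp]; simp
    have hR : IsPGroup p (Subgroup.zpowers x ⊔ Subgroup.closure s : Subgroup G) :=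
      IsPGroup.to_sup_of_normal_right' hzp hAp (Subgroup.zpowers_le.mpr hxA)
    have hcx := isolated_central_in_pGroup x hiso _ hR
      (Subgroup.mem_sup_left (Subgroup.mem_zpowers x)) c
      (Subgroup.mem_sup_right (Subgroup.subset_closure hcs))
    have hc1 : c ∈ T ⊓ T.map (MulAut.conj x).toMonoidHom := by
      refine ⟨hcT, ⟨c, hcT, ?_⟩⟩
      show x * c * x⁻¹ = c
      rw [← hcx]; group
    rw [(hdich x).resolve_left hxT, Subgroup.mem_bot] at hc1
    rw [hc1, orderOf_one] at hco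
    exact hp.one_lt.ne hco
  subst hcN
  refine ⟨hsimple, ?_, hNx⟩
  intro h
  apply hNna
  intro a ha b hb
  exact congrArg Subtype.val (h.is_comm.comm ⟨a, ha⟩ ⟨b, hb⟩)

end Cfsg.Agent.Lib.Helper5
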